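import Mathlib

/-!
# 2-groups with a self-centralising four-group have maximal class
-/

set_option autoImplicit false
set_option linter.style.haveILetI false

namespace CfsgLib.DGroup

open Subgroup

universe u

theorem nilpotencyClass_of_small_cent (n : ℕ) : ∀ (T : Type u) [Group T] [Finite T],
    3 ≤ n → Nat.card T = 2 ^ n →
    (∃ j : T, orderOf j = 2 ∧ Nat.card (centralizer ({j} : Set T)) = 4) →
    Group.nilpotencyClass T = n - 1 := by
  induction n using Nat.strong_induction_on with
  | _ n ih =>
  intro T _ _ hn hcard hj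
  obtain ⟨j, hjo, hC⟩ := hj
  haveI : Fact (Nat.Prime 2) := ⟨Nat.prime_two⟩
  have hp : IsPGroup 2 T := IsPGroup.of_card hcard
  haveI := hp.isNilpotent
  have h8 : 8 ≤ Nat.card T := by
    rw [hcard]
    calc 8 = 2 ^ 3 := rfl
      _ ≤ 2 ^ n := Nat.pow_le_pow_right two_pos hn
  haveI : Nontrivial T := Finite.one_lt_card_iff_nontrivial.1 (by omega)
  have hna : ¬ IsMulCommutative T := fun hc => by
    have : centralizer ({j} : Set T) = ⊤ :=
      eq_top_iff.2 fun g _ => mem_centralizer_singleton_iff.2 (mul_comm' g j)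
    rw [this, card_top] at hC
    omega
  have hZC : center T ≤ centralizer ({j} : Set T) := Subgroup.center_le_centralizer _
  have hjZ : j ∉ center T := fun h => by
    have : centralizer ({j} : Set T) = ⊤ :=
      eq_top_iff.2 fun g _ => mem_centralizer_singleton_iff.2 (mem_center_iff.1 h g)
    rw [this, card_top] at hC
    omega
  have hjC : j ∈ centralizer ({j} : Set T) := mem_centralizer_singleton_iff.2 rfl
  have hZ2 : Nat.card (center T) = 2 := by
    haveI := hp.center_nontrivial
    have h1 : 1 < Nat.card (center T) := Finite.one_lt_card_iff_nontrivial.2 inferInstance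
    have h2 : Nat.card (center T) ∣ 2 ^ 2 := by
      rw [show 2 ^ 2 = 4 from rfl, ← hC]
      exact card_dvd_of_le hZC
    have h3 : Nat.card (center T) ≠ 4 := fun e =>
      hjZ ((eq_of_le_of_card_ge hZC (by rw [e, hC])).symm ▸ hjC)
    obtain ⟨k, hk, e⟩ := (Nat.dvd_prime_pow Nat.prime_two).1 h2
    interval_cases k <;> omega
  have hQcard : Nat.card (T ⧸ center T) = 2 ^ (n - 1) := by
    have := Subgroup.card_eq_card_quotient_mul_card_subgroup (center T)
    rw [hcard, hZ2] at this
    have e : 2 ^ n = 2 ^ (n - 1) * 2 := by rw [← pow_succ]; congr 1; omega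
    omega
  haveI : Nontrivial (T ⧸ center T) := Finite.one_lt_card_iff_nontrivial.1 (by
    rw [hQcard]; exact Nat.one_lt_two_pow (by omega))
  have hq := Group.nilpotencyClass_quotient_center (G := T)
  have hqpos : 0 < Group.nilpotencyClass (T ⧸ center T) := by
    by_contra h0
    haveI : Subsingleton (T ⧸ center T) :=
      Group.nilpotencyClass_zero_iff_subsingleton.1 (by omega)
    exact not_subsingleton (T ⧸ center T) inferInstance
  suffices hcl : Group.nilpotencyClass (T ⧸ center T) = n - 2 by omega
  by_cases hn3 : n = 3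
  · subst hn3
    haveI : IsMulCommutative (T ⧸ center T) := by
      exact IsPGroup.isMulCommutative_of_card_eq_prime_sq (p := 2) hQcard
    have := Group.IsNilpotent.nilpotencyClass_le_one_iff.2
      (inferInstance : IsMulCommutative (T ⧸ center T))
    omega
  refine (ih (n - 1) (by omega) (T ⧸ center T) (by omega) hQcard
    ⟨QuotientGroup.mk j, ?_, ?_⟩).trans (by omega)
  · refine orderOf_eq_prime ?_ fun e => hjZ ((QuotientGroup.eq_one_iff j).1 e)
    rw [← QuotientGroup.mk_pow, ← hjo, pow_orderOf_eq_one, QuotientGroup.mk_one]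
  -- the preimage of the centralizer
  let π := QuotientGroup.mk' (center T)
  set C' := centralizer ({π j} : Set (T ⧸ center T))
  let f : C'.comap π →* center T :=
    { toFun := fun g => ⟨(g : T) * j * (g : T)⁻¹ * j⁻¹, by
        refine (QuotientGroup.eq_one_iff (N := center T) _).1 ?_
        show π ((g : T) * j * (g : T)⁻¹ * j⁻¹) = 1
        have hg : π g * π j = π j * π g := mem_centralizer_singleton_iff.1 g.2
        rw [map_mul, map_mul, map_mul, map_inv, map_inv, hg]
        group⟩
      map_one' := Subtype.ext (by simp)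
      map_mul' := fun a b => by
        refine Subtype.ext ?_
        show (a : T) * b * j * ((a : T) * b)⁻¹ * j⁻¹ = _
        have hb : (b : T) * j * (b : T)⁻¹ * j⁻¹ ∈ center T := by
          refine (QuotientGroup.eq_one_iff (N := center T) _).1 ?_
          show π ((b : T) * j * (b : T)⁻¹ * j⁻¹) = 1
          have hg : π b * π j = π j * π b := mem_centralizer_singleton_iff.1 b.2
          rw [map_mul, map_mul, map_mul, map_inv, map_inv, hg]
          group
        have hc := mem_center_iff.1 hb ((a : T) * j * (a : T)⁻¹ * j⁻¹)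
        show _ = (a : T) * j * (a : T)⁻¹ * j⁻¹ * ((b : T) * j * (b : T)⁻¹ * j⁻¹)
        rw [hc, show (a : T) * b * j * ((a : T) * b)⁻¹ * j⁻¹ =
          (a : T) * ((b : T) * j * (b : T)⁻¹ * j⁻¹) * (j * (a : T)⁻¹ * j⁻¹) by group,
          mem_center_iff.1 hb (a : T)]
        group }
  have hker : f.ker.map (C'.comap π).subtype ≤ centralizer ({j} : Set T) := by
    rintro _ ⟨g, hg, rfl⟩
    have h1 := congrArg Subtype.val (MonoidHom.mem_ker.1 hg)
    change (g : T) * j * (g : T)⁻¹ * j⁻¹ = 1 at h1
    exact mem_centralizer_singleton_iff.2 (mul_inv_eq_iff_eq_mul.1 (mul_inv_eq_one.1 h1))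
  have hW : Nat.card (C'.comap π) ≤ 8 := by
    have h1 := f.ker.index_mul_card
    rw [Subgroup.index_ker] at h1
    have h2 : Nat.card f.range ≤ 2 := hZ2 ▸ Nat.le_of_dvd Nat.card_pos (card_subgroup_dvd_card _)
    have h3 : Nat.card f.ker ≤ 4 := by
      rw [← card_map_of_injective (f := (C'.comap π).subtype) (C'.comap π).subtype_injective, ← hC]
      exact Nat.le_of_dvd Nat.card_pos (card_dvd_of_le hker)
    calc Nat.card (C'.comap π) = Nat.card f.range * Nat.card f.ker := h1.symm
      _ ≤ 2 * 4 := Nat.mul_le_mul h2 h3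
      _ = 8 := rfl
  have hle4 : Nat.card C' ≤ 4 := by
    have h1 : (C'.comap π).index = C'.index := C'.index_comap_of_surjective
      (QuotientGroup.mk'_surjective _)
    have h2 := (C'.comap π).card_mul_index
    have h3 := C'.card_mul_index
    rw [h1, hcard] at h2
    rw [hQcard] at h3
    have e : 2 ^ n = 2 ^ (n - 1) * 2 := by rw [← pow_succ]; congr 1; omega
    have h4 : Nat.card (C'.comap π) = Nat.card C' * 2 := by
      refine Nat.eq_of_mul_eq_mul_right (Nat.pos_of_ne_zero C'.index_ne_zero_of_finite) ?_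
      rw [h2, e, ← h3]; ring
    omega
  have hpQ : IsPGroup 2 (T ⧸ center T) := IsPGroup.of_card hQcard
  have hjC' : π j ∈ C' := mem_centralizer_singleton_iff.2 rfl
  have hjnc : π j ∉ center (T ⧸ center T) := fun h => by
    have : C' = ⊤ := eq_top_iff.2 fun g _ => mem_centralizer_singleton_iff.2 (mem_center_iff.1 h g)
    rw [this, card_top, hQcard] at hle4
    have : 2 ^ 3 ≤ 2 ^ (n - 1) := Nat.pow_le_pow_right two_pos (by omega)
    omega
  obtain ⟨k, hk⟩ := IsPGroup.iff_card.1 (hpQ.to_subgroup C')
  haveI := hpQ.center_nontrivial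
  have h1 : 1 < Nat.card (center (T ⧸ center T)) :=
    Finite.one_lt_card_iff_nontrivial.2 inferInstance
  have h2 : Nat.card (center (T ⧸ center T)) < Nat.card C' := by
    refine lt_of_le_of_ne (Nat.le_of_dvd Nat.card_pos
      (card_dvd_of_le (Subgroup.center_le_centralizer _))) fun e => hjnc ?_
    exact (eq_of_le_of_card_ge (Subgroup.center_le_centralizer _) e.ge).symm ▸ hjC'
  show Nat.card C' = 4
  rw [hk] at h2 hle4 ⊢
  rcases k with _ | _ | k
  · omega
  · omega
  · have h3 : 2 ^ (k + 1 + 1) = 4 * 2 ^ k := by ring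
    have h4 := Nat.one_le_two_pow (n := k)
    omega

end CfsgLib.DGroup
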