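import Cfsg.Agent.Lib.DGroup.Formula
import Cfsg.Agent.Lib.Recog.OrderSixty

/-!
# Proper subgroups containing the centralizer of `z`

A proper subgroup of a simple group containing `C(z)` in which every four-subgroup of `P` is fused
forces order sixty. A subgroup without fusion has a normal 2-complement.
-/

set_option autoImplicit false
set_option linter.unusedSectionVars false
set_option linter.style.haveILetI false

namespace CfsgLib.DGroup

open Subgroup CfsgLib.Involutions

universe u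

variable {G : Type u} [Group G] {P : Sylow 2 G} (d : DP (P : Subgroup G))

/-- An element of odd order of `M` moves the four-group `TG i`. -/
def Fused (M : Subgroup G) (i : ℤ) : Prop :=
  ∃ y ∈ M, y ∈ normalizer (d.TG i : Set G) ∧ Odd (orderOf y) ∧ ∃ a ∈ d.TG i, ¬ Commute y a

theorem Fused.mono {M N : Subgroup G} {i : ℤ} (hMN : M ≤ N) (h : Fused d M i) : Fused d N i := by
  obtain ⟨y, hy, hh⟩ := h
  exact ⟨y, hMN hy, hh⟩

/-- The dihedral data of `P` seen inside a subgroup containing it. -/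
noncomputable def subDP {M : Subgroup G} (hPM : (P : Subgroup G) ≤ M) :
    DP ((P.subtype hPM : Sylow 2 M) : Subgroup M) where
  n := d.n
  x := ⟨d.x, hPM d.x_mem⟩
  y := ⟨d.y, hPM d.y_mem⟩
  one_le := d.one_le
  x_mem := by rw [Sylow.coe_subtype, mem_subgroupOf]; exact d.x_mem
  y_mem := by rw [Sylow.coe_subtype, mem_subgroupOf]; exact d.y_mem
  orderOf_x := (Subgroup.orderOf_mk _ _).trans d.orderOf_x
  orderOf_y := (Subgroup.orderOf_mk _ _).trans d.orderOf_y
  conj_y := Subtype.ext d.conj_y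
  y_not := by
    rintro ⟨i, hi⟩
    exact d.y_not ⟨i, by simpa using congrArg Subtype.val hi⟩
  cover := by
    intro g hg
    rw [Sylow.coe_subtype, mem_subgroupOf] at hg
    rcases d.cover g hg with ⟨i, hi⟩ | ⟨i, hi⟩
    · exact Or.inl ⟨i, Subtype.ext (by rw [coe_zpow]; exact hi)⟩
    · exact Or.inr ⟨i, Subtype.ext (by rw [Subgroup.coe_mul, coe_zpow]; exact hi)⟩

variable {M : Subgroup G} (hPM : (P : Subgroup G) ≤ M)

theorem coe_subDP_z : ((subDP d hPM).z : G) = d.z := by
  show (((⟨d.x, hPM d.x_mem⟩ : M) ^ _ : M) : G) = _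
  rw [coe_zpow]
  rfl

theorem coe_subDP_r (i : ℤ) : ((subDP d hPM).r i : G) = d.r i := by
  show (((⟨d.x, hPM d.x_mem⟩ : M) ^ i * ⟨d.y, hPM d.y_mem⟩ : M) : G) = _
  rw [Subgroup.coe_mul, coe_zpow]
  rfl

theorem map_subDP_TG (i : ℤ) : ((subDP d hPM).TG i).map M.subtype = d.TG i := by
  rw [DP.TG, DP.TG, MonoidHom.map_closure]
  congr 1
  rw [Set.image_pair, coe_subtype, coe_subDP_z d hPM, coe_subDP_r d hPM]

theorem mem_subDP_TG {i : ℤ} {a : M} : a ∈ (subDP d hPM).TG i ↔ (a : G) ∈ d.TG i := by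
  rw [← map_subDP_TG d hPM i]
  exact ⟨fun h => mem_map_of_mem _ h, fun ⟨b, hb, e⟩ => Subtype.ext e ▸ hb⟩

theorem not_F2_subDP_iff (i : ℤ) : ¬ (subDP d hPM).F2 i ↔ Fused d M i := by
  constructor
  · intro h
    simp only [DP.F2, not_forall] at h
    obtain ⟨y, hy, hodd, a, ha, hc⟩ := h
    refine ⟨y, y.2, ?_, by rwa [orderOf_coe], a, (mem_subDP_TG d hPM).1 ha,
      fun e => hc (Subtype.ext e)⟩
    refine mem_normalizer_iff.2 fun b => ⟨fun hb => ?_, fun hb => ?_⟩
    · have hbM : b ∈ M := hPM (d.TG_le i hb)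
      exact (mem_subDP_TG d hPM).1 ((mem_normalizer_iff.1 hy ⟨b, hbM⟩).1 ((mem_subDP_TG d hPM).2 hb))
    · have hbM : b ∈ M := by
        have h1 : (y : G) * b * (y : G)⁻¹ ∈ M := hPM (d.TG_le i hb)
        have h2 := mul_mem (mul_mem (inv_mem y.2) h1) y.2
        simpa [mul_assoc] using h2
      exact (mem_subDP_TG d hPM).1
        ((mem_normalizer_iff.1 hy ⟨b, hbM⟩).2 ((mem_subDP_TG d hPM).2 hb))
  · rintro ⟨y, hyM, hy, hodd, a, ha, hc⟩ hF
    have haM : a ∈ M := hPM (d.TG_le i ha)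
    refine hc (congrArg Subtype.val (hF ⟨y, hyM⟩ ?_ ?_ ⟨a, haM⟩ ((mem_subDP_TG d hPM).2 ha)).eq)
    · refine mem_normalizer_iff.2 fun b => ?_
      rw [mem_subDP_TG d hPM, mem_subDP_TG d hPM]
      exact mem_normalizer_iff.1 hy b
    · rwa [Subgroup.orderOf_mk]

include hPM in
/-- Without fusion there is a normal complement to `P` in `M`. -/
theorem exists_core [Finite G] (hF : ∀ i, ¬ Fused d M i) :
    ∃ O : Subgroup G, O ≤ M ∧ M ≤ normalizer (O : Set G) ∧ Odd (Nat.card O) ∧
      O ⊔ (P : Subgroup G) = M := by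
  set S : Sylow 2 M := P.subtype hPM with hSdef
  set d' := subDP d hPM with hd'
  have hF' : ∀ i, d'.F2 i := fun i => by
    by_contra h
    exact hF i ((not_F2_subDP_iff d hPM i).1 h)
  have hc : Cfsg.HasNormalPComplement 2 M := by
    refine CfsgLib.Involutions.hasNormalPComplement_of_centric S fun D hD y hy hyp a ha => ?_
    have hodd : Odd (orderOf y) := Nat.coprime_two_right.1 hyp
    rcases d'.centric_cases hD S.isPGroup' hy hodd with hc | ⟨i, rfl⟩
    · exact hc a ha
    · exact hF' i y hy hodd a ha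
  obtain ⟨T, N, hN, hNT⟩ := hc
  haveI := hN
  have hNodd : Odd (Nat.card N) := by
    rw [← hNT.index_eq_card]
    exact Nat.odd_iff.2 (Nat.two_dvd_ne_zero.1 T.not_dvd_index)
  refine ⟨N.map M.subtype, map_subtype_le _, ?_, ?_, ?_⟩
  · intro g hg
    refine mem_normalizer_iff.2 fun a => ?_
    constructor
    · rintro ⟨b, hb, rfl⟩
      exact ⟨_, hN.conj_mem b hb ⟨g, hg⟩, rfl⟩
    · rintro ⟨b, hb, e⟩
      refine ⟨_, hN.conj_mem' b hb ⟨g, hg⟩, ?_⟩
      show g⁻¹ * (b : G) * g = a
      rw [show (b : G) = g * a * g⁻¹ from e]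
      group
  · rwa [card_map_of_injective M.subtype_injective]
  · have htop : N ⊔ (S : Subgroup M) = ⊤ := by
      refine Subgroup.index_eq_one.1 (Nat.dvd_one.1 ?_)
      have h1 : (N ⊔ (S : Subgroup M)).index ∣ N.index := Subgroup.index_dvd_of_le le_sup_left
      have h2 : (N ⊔ (S : Subgroup M)).index ∣ (S : Subgroup M).index :=
        Subgroup.index_dvd_of_le le_sup_right
      rw [hNT.symm.index_eq_card, T.card_eq_multiplicity] at h1
      have h3 := Nat.Coprime.pow_left ((Nat.card M).factorization 2)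
        ((Nat.prime_two.coprime_iff_not_dvd).2 S.not_dvd_index)
      exact h3 ▸ Nat.dvd_gcd h1 h2
    have h := congrArg (fun H => H.map M.subtype) htop
    simpa [Subgroup.map_sup, hSdef, Sylow.coe_subtype, map_subgroupOf_eq_of_le hPM, inf_eq_left.2 hPM,
      ← MonoidHom.range_eq_map] using h

namespace Cen

variable [Finite G] {R : Subgroup G} {d} (h : Cen d R)
include h

theorem sub (hRM : R ≤ M) : Cen (subDP d hPM) (R.subgroupOf M) where
  comm a ha b hb := Subtype.ext (h.comm a ha b hb).eq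
  odd := by rw [Nat.card_congr (subgroupOfEquivOfLe hRM).toEquiv]; exact h.odd
  cent_x a ha := Subtype.ext (h.cent_x a ha).eq
  conj_y a ha := h.conj_y a ha
  eq := by
    show _ = R.subgroupOf M ⊔ (P : Subgroup G).subgroupOf M
    rw [← subgroupOf_sup hRM hPM, ← h.eq]
    ext g
    rw [mem_centralizer_singleton_iff, mem_subgroupOf, mem_centralizer_singleton_iff,
      ← coe_subDP_z d hPM]
    exact Subtype.ext_iff

theorem cz_sub (hC : centralizer ({d.z} : Set G) ≤ M) : cz (subDP d hPM) = cz d := by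
  refine Nat.card_congr
    { toFun := fun g => ⟨g.1.1, ?_⟩
      invFun := fun g => ⟨⟨g.1, hC g.2⟩, ?_⟩
      left_inv := fun _ => rfl
      right_inv := fun _ => rfl }
  · have := congrArg Subtype.val (mem_centralizer_singleton_iff.1 g.2)
    rw [mem_centralizer_singleton_iff, ← coe_subDP_z d hPM]
    exact this
  · refine mem_centralizer_singleton_iff.2 (Subtype.ext ?_)
    show g.1 * ((subDP d hPM).z : G) = ((subDP d hPM).z : G) * g.1
    rw [coe_subDP_z d hPM]
    exact mem_centralizer_singleton_iff.1 g.2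

theorem ce_sub (hRM : R ≤ M) : ce (subDP d hPM) = ce d := by
  rw [ce, (h.sub hPM hRM).card_pair 0, ce, h.card_pair 0]
  congr 1
  refine Nat.card_congr
    { toFun := fun g => ⟨g.1.1, ?_⟩
      invFun := fun g => ⟨⟨g.1, hRM (mem_inf.1 g.2).1⟩, ?_⟩
      left_inv := fun _ => rfl
      right_inv := fun _ => rfl }
  · obtain ⟨h1, h2⟩ := mem_inf.1 g.2
    exact mem_inf.2 ⟨h1, mem_centralizer_singleton_iff.2
      (congrArg Subtype.val (mem_centralizer_singleton_iff.1 h2))⟩
  · obtain ⟨h1, h2⟩ := mem_inf.1 g.2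
    exact mem_inf.2 ⟨h1, mem_centralizer_singleton_iff.2
      (Subtype.ext (mem_centralizer_singleton_iff.1 h2))⟩

/-- The main numerical consequence. -/
theorem card_eq_sixty [IsSimpleGroup G] (hna : ¬ IsMulCommutative G) (hT : ∀ i, ¬ d.F2 i)
    (hMtop : M ≠ ⊤) (hC : centralizer ({d.z} : Set G) ≤ M) (hfus : ∀ i, Fused d M i) :
    Nat.card G = 60 ∧ M.index = 5 := by
  classical
  have hPM : (P : Subgroup G) ≤ M := h.P_le.trans hC
  have hRM : R ≤ M := h.R_le.trans hC
  have hT' : ∀ i, ¬ (subDP d hPM).F2 i := fun i => (not_F2_subDP_iff d hPM i).2 (hfus i)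
  obtain ⟨-, hup⟩ := h.bounds hT
  obtain ⟨hlo, -⟩ := (h.sub hPM hRM).bounds hT'
  rw [h.cz_sub hPM hC, h.ce_sub hPM hRM] at hlo
  have hce : 0 < ce d ^ 2 := pow_pos Nat.card_pos 2
  have hle : Nat.card G ≤ 6 * Nat.card M := by
    refine Nat.le_of_mul_le_mul_right ?_ hce
    calc Nat.card G * ce d ^ 2 ≤ 6 * (3 * cz d ^ 3) := by linarith
      _ ≤ 6 * (Nat.card M * ce d ^ 2) := Nat.mul_le_mul_left 6 hlo
      _ = 6 * Nat.card M * ce d ^ 2 := by ring
  have hidx6 : M.index ≤ 6 := by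
    refine Nat.le_of_mul_le_mul_right ?_ (Nat.card_pos (α := M))
    rw [M.index_mul_card]
    exact hle
  have hodd : ¬ 2 ∣ M.index := fun h2 =>
    P.not_dvd_index (h2.trans (Subgroup.index_dvd_of_le hPM))
  have hne1 : M.index ≠ 1 := fun e => hMtop (Subgroup.index_eq_one.1 e)
  have h60 : 60 ≤ Nat.card G := by
    by_contra hlt
    haveI := CfsgLib.Recog.isSolvable_of_card_lt_sixty (G := G) (by omega)
    exact hna ⟨⟨IsSimpleGroup.comm_iff_isSolvable.2 ‹_›⟩⟩
  let φ := MulAction.toPermHom G (G ⧸ M)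
  have hφ : Function.Injective φ := by
    rw [← MonoidHom.ker_eq_bot_iff]
    rcases (IsSimpleGroup.eq_bot_or_eq_top_of_normal _ (MonoidHom.normal_ker φ)) with e | e
    · exact e
    · exfalso
      refine hMtop (eq_top_iff.2 fun g _ => ?_)
      have hg : φ g ((1 : G) : G ⧸ M) = ((1 : G) : G ⧸ M) := by
        rw [MonoidHom.mem_ker.1 (e ▸ mem_top g)]; rfl
      have hg' : ((g * 1 : G) : G ⧸ M) = ((1 : G) : G ⧸ M) := hg
      simpa using QuotientGroup.eq.1 hg'.symm
  haveI := Fintype.ofFinite (G ⧸ M)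
  let s : G →* ℤˣ := Equiv.Perm.sign.comp φ
  have hs : s.ker = ⊤ := by
    rcases (IsSimpleGroup.eq_bot_or_eq_top_of_normal _ (MonoidHom.normal_ker s)) with e | e
    · exfalso
      refine hna ⟨⟨fun a b => (MonoidHom.ker_eq_bot_iff _).1 e ?_⟩⟩
      rw [map_mul, map_mul, mul_comm]
    · exact e
  have hrange : φ.range ≤ alternatingGroup (G ⧸ M) := by
    rintro _ ⟨g, rfl⟩
    exact MonoidHom.mem_ker.1 (hs ▸ mem_top g : g ∈ s.ker)
  have hcard : Nat.card G ∣ Nat.card (alternatingGroup (G ⧸ M)) := by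
    rw [Nat.card_congr (MonoidHom.ofInjective hφ).toEquiv]
    exact Subgroup.card_dvd_of_le hrange
  have hn : 2 ≤ M.index := by have := M.index_ne_zero_of_finite; omega
  haveI : Nontrivial (G ⧸ M) := by
    rw [← Finite.one_lt_card_iff_nontrivial, ← Subgroup.index_eq_card]; omega
  rw [← Nat.mul_dvd_mul_iff_left two_pos, two_mul_nat_card_alternatingGroup, Nat.card_perm,
    ← Subgroup.index_eq_card] at hcard
  have hle2 := Nat.le_of_dvd (Nat.factorial_pos _) hcard
  have h5 : M.index = 5 := by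
    have h35 : M.index = 3 ∨ M.index = 5 := by omega
    rcases h35 with e | e
    · rw [e] at hle2
      norm_num [Nat.factorial] at hle2
      omega
    · exact e
  rw [h5] at hle2
  norm_num [Nat.factorial] at hle2
  exact ⟨by omega, h5⟩

end Cen

end CfsgLib.DGroup
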