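import Cfsg.Agent.Lib.DGroup.TwoClass
import Cfsg.Agent.Lib.PGroups.UniqueOrderP

/-!
# Generalized dihedral centralizers with cyclic 2-part: the Sylow case
-/

set_option autoImplicit false
set_option linter.unusedSectionVars false
set_option linter.style.haveILetI false

namespace CfsgLib.DGroup

open Subgroup CfsgLib.Involutions

universe u

variable {G : Type u} [Group G] [Finite G]

/-- The two possible groups. -/
def Out (G : Type*) [Group G] : Prop :=
  ∃ (F : Type) (_ : Field F) (_ : Fintype F), 3 < Fintype.card F ∧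
    (Nonempty (G ≃* Matrix.ProjectiveSpecialLinearGroup (Fin 2) F) ∨
      Nonempty (G ≃* Matrix.ProjGenLinGroup (Fin 2) F))

/-- `H = C(j)` is inverted dihedral over the abelian subgroup `A` with a single involution. -/
structure Dih (H A : Subgroup G) (j u : G) : Prop where
  le : A ≤ H
  comm : ∀ a ∈ A, ∀ b ∈ A, a * b = b * a
  u_mem : u ∈ H
  u_not : u ∉ A
  uu : u * u = 1
  inv : ∀ a ∈ A, u * a * u⁻¹ = a⁻¹
  cover : ∀ h ∈ H, h ∈ A ∨ h * u ∈ A
  oj : orderOf j = 2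
  j_mem : j ∈ A
  cent : centralizer ({j} : Set G) = H
  cyc : ∀ b ∈ A, b * b = 1 → b = 1 ∨ b = j

theorem two_power_of_isPGroup {W : Subgroup G} (hW : IsPGroup 2 W) {g : G} (hg : g ∈ W) :
    ∃ k : ℕ, g ^ 2 ^ k = 1 := by
  obtain ⟨k, hk⟩ := hW ⟨g, hg⟩
  exact ⟨k, congrArg Subtype.val hk⟩

namespace Dih

variable {H A : Subgroup G} {j u : G} (D : Dih H A j u)
include D

/-- The elements of odd order of `A`. -/
def odd : Subgroup G where
  carrier := {a | a ∈ A ∧ Odd (orderOf a)}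
  one_mem' := ⟨A.one_mem, by simp⟩
  mul_mem' := fun {a b} ha hb => ⟨A.mul_mem ha.1 hb.1, (ha.2.mul hb.2).of_dvd_nat
    (Commute.orderOf_mul_dvd_mul_orderOf (D.comm a ha.1 b hb.1))⟩
  inv_mem' := fun {a} ha => ⟨A.inv_mem ha.1, by rw [orderOf_inv]; exact ha.2⟩

theorem mem_odd {a : G} : a ∈ D.odd ↔ a ∈ A ∧ Odd (orderOf a) := Iff.rfl

theorem card_odd : Odd (Nat.card D.odd) := by
  by_contra h
  rw [Nat.not_odd_iff_even, even_iff_two_dvd] at h
  haveI : Fact (Nat.Prime 2) := ⟨Nat.prime_two⟩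
  obtain ⟨⟨a, ha⟩, ho⟩ := exists_prime_orderOf_dvd_card' 2 h
  rw [Subgroup.orderOf_mk] at ho
  have := ho ▸ (D.mem_odd.1 ha).2
  exact absurd this (by decide)

theorem odd_mem_A {a : G} (ha : a ∈ H) (ho : Odd (orderOf a)) : a ∈ A := by
  refine (D.cover a ha).resolve_right fun hau => ?_
  -- an element outside `A` is an involution
  have h1 := D.inv _ hau
  rw [mul_inv_rev, show u * (a * u) * u⁻¹ = u * a by group] at h1
  have h2 : a * a = 1 := by
    have h3 := congrArg (fun w => u * w) h1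
    simp only [← mul_assoc, D.uu, one_mul, mul_inv_cancel] at h3
    exact mul_eq_one_iff_eq_inv.2 h3
  refine D.u_not ?_
  rwa [eq_one_of_mul_self ho h2, one_mul] at hau

/-- The 2-elements of `A` form a cyclic group. -/
theorem exists_x : ∃ (n : ℕ) (x : G), 1 ≤ n ∧ x ∈ A ∧ orderOf x = 2 ^ n ∧
    (∀ a ∈ A, (∃ k : ℕ, a ^ 2 ^ k = 1) → a ∈ zpowers x) := by
  haveI : Fact (Nat.Prime 2) := ⟨Nat.prime_two⟩
  let T : Subgroup G :=
    { carrier := {a | a ∈ A ∧ ∃ k : ℕ, a ^ 2 ^ k = 1}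
      one_mem' := ⟨A.one_mem, 0, one_pow _⟩
      mul_mem' := by
        rintro a b ⟨ha, k, hk⟩ ⟨hb, l, hl⟩
        refine ⟨A.mul_mem ha hb, k + l, ?_⟩
        rw [(show Commute a b from D.comm a ha b hb).mul_pow, pow_add, pow_mul, hk, one_pow, mul_comm,
          pow_mul, hl, one_pow, mul_one]
      inv_mem' := by
        rintro a ⟨ha, k, hk⟩
        exact ⟨A.inv_mem ha, k, by rw [inv_pow, hk, inv_one]⟩ }
  have hT : IsPGroup 2 T := fun a => by
    obtain ⟨k, hk⟩ := a.2.2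
    exact ⟨k, Subtype.ext hk⟩
  haveI : IsMulCommutative T := ⟨⟨fun a b => Subtype.ext (D.comm a a.2.1 b b.2.1)⟩⟩
  have hjT : j ∈ T := ⟨D.j_mem, 1, by rw [pow_one, ← D.oj, pow_orderOf_eq_one]⟩
  haveI : IsCyclic T := by
    refine PGroups.isCyclic_of_abelian_of_unique hT (z := (⟨j, hjT⟩ : T)) (fun y hy => ?_)
      (Subtype.ext (by rw [Subgroup.coe_pow, ← D.oj]; exact pow_orderOf_eq_one j))
    have hy' := congrArg Subtype.val hy
    rw [Subgroup.coe_pow, sq] at hy'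
    rcases D.cyc y y.2.1 hy' with e | e
    · rw [show y = 1 from Subtype.ext e]; exact one_mem _
    · rw [show y = ⟨j, hjT⟩ from Subtype.ext e]; exact mem_zpowers _
  obtain ⟨⟨x, hx⟩, hgen⟩ := IsCyclic.exists_generator (α := T)
  obtain ⟨n, hn⟩ := IsPGroup.iff_orderOf.1 hT ⟨x, hx⟩
  rw [Subgroup.orderOf_mk] at hn
  have hmem : ∀ a ∈ T, a ∈ zpowers x := fun a ha => by
    obtain ⟨i, hi⟩ := hgen ⟨a, ha⟩
    exact ⟨i, congrArg Subtype.val hi⟩
  refine ⟨n, x, ?_, hx.1, hn, fun a ha hk => hmem a ⟨ha, hk⟩⟩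
  by_contra h0
  rw [show n = 0 by omega, pow_zero, orderOf_eq_one_iff] at hn
  have h1 := hmem j hjT
  rw [hn, zpowers_one_eq_bot, mem_bot] at h1
  exact invol_ne_one D.oj h1

theorem exists_mul_zpow {n : ℕ} {x : G}
    (hgen : ∀ a ∈ A, (∃ k : ℕ, a ^ 2 ^ k = 1) → a ∈ zpowers x) (_hn : orderOf x = 2 ^ n)
    {a : G} (ha : a ∈ A) : ∃ k ∈ D.odd, ∃ i : ℤ, a = k * x ^ i := by
  obtain ⟨e, m, hm2, hk⟩ :=
    Nat.exists_eq_pow_mul_and_not_dvd (orderOf_pos a).ne' 2 (by norm_num)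
  have hcop : Int.gcd ((2 ^ e : ℕ) : ℤ) (m : ℤ) = 1 := by
    rw [Int.gcd_natCast_natCast]
    exact (Nat.coprime_two_left.2 (Nat.odd_iff.2 (Nat.two_dvd_ne_zero.1 hm2))).pow_left e
  obtain ⟨s, t, hst⟩ : ∃ s t : ℤ, ((2 ^ e : ℕ) : ℤ) * s + (m : ℤ) * t = 1 := by
    refine ⟨Int.gcdA ((2 ^ e : ℕ) : ℤ) m, Int.gcdB ((2 ^ e : ℕ) : ℤ) m, ?_⟩
    rw [← Int.gcd_eq_gcd_ab, hcop]; rfl
  have h1 : a ^ (((2 ^ e : ℕ) : ℤ) * s) ∈ D.odd := by
    refine ⟨A.zpow_mem ha _, (Nat.odd_iff.2 (Nat.two_dvd_ne_zero.1 hm2)).of_dvd_nat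
      (orderOf_dvd_of_pow_eq_one ?_)⟩
    rw [← zpow_natCast, ← _root_.zpow_mul]
    refine orderOf_dvd_iff_zpow_eq_one.1 ⟨s, ?_⟩
    rw [hk]; push_cast; ring
  have h2 : a ^ ((m : ℤ) * t) ∈ zpowers x := by
    refine hgen _ (A.zpow_mem ha _) ⟨e, ?_⟩
    rw [← zpow_natCast, ← _root_.zpow_mul]
    refine orderOf_dvd_iff_zpow_eq_one.1 ⟨t, ?_⟩
    rw [hk]; push_cast; ring
  obtain ⟨i, hi⟩ := h2
  refine ⟨_, h1, i, ?_⟩
  rw [show x ^ i = a ^ ((m : ℤ) * t) from hi, ← zpow_add, hst, zpow_one]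

/-- A 2-subgroup of `H` lies in `⟨x⟩ ∪ ⟨x⟩ u'`. -/
theorem two_mem {x : G} (hgen : ∀ a ∈ A, (∃ k : ℕ, a ^ 2 ^ k = 1) → a ∈ zpowers x)
    {W : Subgroup G} (hW : IsPGroup 2 W) (hWH : W ≤ H) (hu : u ∈ W) {w : G} (hw : w ∈ W) :
    w ∈ zpowers x ∨ w * u ∈ zpowers x :=
  (D.cover w (hWH hw)).imp (fun ha => hgen w ha (two_power_of_isPGroup hW hw))
    fun ha => hgen _ ha (two_power_of_isPGroup hW (mul_mem hw hu))

/-- A 2-subgroup of `H` has order at most twice that of `x`. -/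
theorem card_two_subgroup_le {x : G} (hgen : ∀ a ∈ A, (∃ k : ℕ, a ^ 2 ^ k = 1) → a ∈ zpowers x)
    {W : Subgroup G} (hW : IsPGroup 2 W) (hWH : W ≤ H) : Nat.card W ≤ 2 * orderOf x := by
  have h1 : W ⊓ A ≤ zpowers x := fun a ha => hgen a ha.2 (two_power_of_isPGroup hW ha.1)
  have h2 : A.relIndex W ≤ 2 := by
    refine le_trans ?_ (le_refl 2)
    by_cases hle : W ≤ A
    · rw [relIndex_eq_one.2 hle]; norm_num
    · obtain ⟨w, hw, hwA⟩ := SetLike.not_le_iff_exists.1 hle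
      refine le_of_eq (relIndex_eq_two_iff.2 ⟨w, hw, fun b hb => ?_⟩)
      have hwu := (D.cover w (hWH hw)).resolve_left hwA
      rcases D.cover b (hWH hb) with hbA | hbu
      · exact Or.inr ⟨hbA, fun hbw => hwA ((mul_mem_cancel_left hbA).1 hbw)⟩
      · refine Or.inl ⟨?_, fun hbA => D.u_not ((mul_mem_cancel_left hbA).1 hbu)⟩
        have h3 : u * (w * u) * u⁻¹ ∈ A := by rw [D.inv _ hwu]; exact A.inv_mem hwu
        have h4 := A.mul_mem hbu h3
        rwa [show b * u * (u * (w * u) * u⁻¹) = b * ((u * u) * w) by group, D.uu, one_mul] at h4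
  have h3 := (A.subgroupOf W).card_mul_index
  rw [← relIndex] at h3
  rw [← h3, mul_comm]
  refine Nat.mul_le_mul h2 ?_
  rw [← Nat.card_zpowers]
  refine le_trans (le_of_eq ?_) (Nat.le_of_dvd Nat.card_pos (card_dvd_of_le h1))
  rw [inf_comm, ← Nat.card_congr (subgroupOfEquivOfLe (inf_le_right : A ⊓ W ≤ W)).toEquiv,
    inf_subgroupOf_right]

end Dih

/-- The 2-part of `H` is a Sylow subgroup. -/
theorem out_of_cen {P : Sylow 2 G} {d : DP (P : Subgroup G)} {R : Subgroup G} (h : Cen d R)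
    (hinv : ∀ a ∈ R, d.y * a * d.y⁻¹ = a⁻¹) (hns : ¬ Group.IsSolvable G)
    (hO : ∀ N : Subgroup G, N.Normal → Odd (Nat.card N) → N = ⊥) : Out G := by
  by_cases hT : ∀ i, ¬ d.F2 i
  · obtain ⟨hs, hna⟩ := h.isSimpleGroup hT hns hO
    haveI := hs
    obtain ⟨F, iF, iFt, -, h3, e⟩ := h.exists_psl' hna
    exact ⟨F, iF, iFt, h3, Or.inl e⟩
  push Not at hT
  obtain ⟨k, hk⟩ := hT
  by_cases hk1 : d.F2 (k + 1)
  · exfalso
    have hall : ∀ i, d.F2 i := fun i => by
      rcases Int.even_or_odd (k - i) with he | ho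
      · exact hk.sim d (Or.inl he)
      · refine hk1.sim d (Or.inl ?_)
        rw [show k + 1 - i = k - i + 1 by ring]
        exact ho.add_odd odd_one
    have hFu : ∀ i, ¬ Fused d (⊤ : Subgroup G) i := fun i ⟨y, _, hy, ho, a, ha, hc⟩ =>
      hc (hall i y hy ho a ha)
    obtain ⟨O, -, hnorm, hodd, hOP⟩ := exists_core d (le_top : (P : Subgroup G) ≤ ⊤) hFu
    haveI : O.Normal := normalizer_eq_top_iff.1 (top_le_iff.1 hnorm)
    rw [hO O inferInstance hodd, bot_sup_eq] at hOP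
    haveI : Fact (Nat.Prime 2) := ⟨Nat.prime_two⟩
    haveI := (hOP ▸ P.isPGroup' : IsPGroup 2 (⊤ : Subgroup G)).isNilpotent
    exact hns (Group.isSolvable_of_surjective (f := (Subgroup.topEquiv (G := G)).toMonoidHom)
      (Subgroup.topEquiv (G := G)).surjective)
  · have hn : 2 ≤ d.n := by
      by_contra hne
      exact hk1 (hk.sim d (Or.inr (by have := d.one_le; omega)))
    have hinv' : ∀ a ∈ R, (shiftDP d (k + 1)).r 0 * a * ((shiftDP d (k + 1)).r 0)⁻¹ = a⁻¹ :=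
      fun a ha => by rw [shiftDP_r, h.r_conj_eq _ ha, hinv a ha]
    have hs := h.shift (k + 1)
    set d' := shiftDP d (k + 1) with hd'
    have hf : ¬ d'.F2 0 := fun hF => hk1 fun y hy ho a ha => by
      have e := shiftDP_TG d (k + 1) 0
      rw [zero_add] at e
      rw [← e] at hy ha
      exact hF y hy ho a ha
    have hf1 : d'.F2 1 := fun y hy ho a ha => by
      rw [hd', shiftDP_TG] at hy ha
      exact (hk.sim d (Or.inl ⟨-1, by ring⟩)) y hy ho a ha
    have hpre : Pre d' R :=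
      ⟨hn, hs.odd, hs.le_normalizer_R, hs.eq,
        fun a ha => by rw [hd', shiftDP_r, h.r_conj_eq _ ha, hinv a ha],
        fun a ha => (hs.cent_x a ha).mul_left (hs.cent_x a ha)⟩
    obtain ⟨F, iF, iFt, -, h3, e⟩ := hpre.exists_pgl hf hf1 hns hO
    exact ⟨F, iF, iFt, h3, Or.inr e⟩

namespace Dih

variable {H A : Subgroup G} {j u : G} (D : Dih H A j u)
include D

/-- Either the classification applies, or the Sylow 2-subgroup is larger than that of `H`. -/
theorem out_or_four (hns : ¬ Group.IsSolvable G)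
    (hO : ∀ N : Subgroup G, N.Normal → Odd (Nat.card N) → N = ⊥) :
    Out G ∨ ((∀ W : Subgroup G, IsPGroup 2 W → W ≤ H → Nat.card W ≤ 4) ∧
      ∃ T : Sylow 2 G, j ∈ (T : Subgroup G) ∧ 8 ≤ Nat.card (T : Subgroup G) ∧
        Nat.card ((T : Subgroup G) ⊓ H : Subgroup G) = 4) := by
  haveI : Fact (Nat.Prime 2) := ⟨Nat.prime_two⟩
  obtain ⟨n, x, hn1, hxA, hxo, hgen⟩ := D.exists_x
  have huo : orderOf u = 2 := orderOf_eq_prime (by rw [sq, D.uu]) fun e => D.u_not (e ▸ A.one_mem)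
  have hzx : zpowers x ≤ A := zpowers_le.2 hxA
  have hux : u * x * u⁻¹ = x⁻¹ := D.inv x hxA
  let S₀ := zpowers x ⊔ zpowers u
  have hS₀H : S₀ ≤ H := sup_le (hzx.trans D.le) (zpowers_le.2 D.u_mem)
  have hnorm : zpowers u ≤ normalizer (zpowers x : Set G) := by
    rw [zpowers_le, mem_normalizer_iff_map_conj_eq, MonoidHom.map_zpowers]
    show zpowers (u * x * u⁻¹) = zpowers x
    rw [hux, zpowers_inv]
  have hS₀p : IsPGroup 2 S₀ := IsPGroup.to_sup_of_normal_left'
    (IsPGroup.of_card (n := n) (by rw [Nat.card_zpowers, hxo]))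
    (IsPGroup.of_card (n := 1) (by rw [Nat.card_zpowers, huo, pow_one])) hnorm
  obtain ⟨T, hT⟩ := hS₀p.exists_le_sylow
  have hxT : x ∈ (T : Subgroup G) := hT (mem_sup_left (mem_zpowers x))
  have huT : u ∈ (T : Subgroup G) := hT (mem_sup_right (mem_zpowers u))
  have hTH : ∀ w ∈ (T : Subgroup G) ⊓ H, w ∈ zpowers x ∨ w * u ∈ zpowers x := fun w hw =>
    D.two_mem hgen (T.isPGroup'.to_le inf_le_left) inf_le_right ⟨huT, D.u_mem⟩ hw
  have huz : ∀ i : ℤ, u ≠ x ^ i := fun i e => D.u_not (e ▸ hzx (zpow_mem (mem_zpowers x) i))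
  by_cases hTle : (T : Subgroup G) ≤ H
  · left
    let d : DP (T : Subgroup G) :=
      { n := n, x := x, y := u, one_le := hn1, x_mem := hxT, y_mem := huT, orderOf_x := hxo,
        orderOf_y := huo, conj_y := hux
        y_not := fun ⟨i, hi⟩ => huz i hi.symm
        cover := fun g hg => by
          rcases hTH g ⟨hg, hTle hg⟩ with ⟨i, hi⟩ | ⟨i, hi⟩
          · exact Or.inl ⟨i, hi.symm⟩
          · exact Or.inr ⟨i, by rw [show x ^ i = g * u from hi, mul_assoc, D.uu, mul_one]⟩ }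
    have hz : d.z = j := by
      have hzA : d.z ∈ A := hzx (zpow_mem (mem_zpowers x) _)
      exact (D.cyc _ hzA (invol_mul_self d.orderOf_z)).resolve_left (invol_ne_one d.orderOf_z)
    have hcx : ∀ a ∈ D.odd, Commute d.x a := fun a ha => D.comm x hxA a ha.1
    have hcy : ∀ a ∈ D.odd, d.y * a * d.y⁻¹ = a⁻¹ := fun a ha => D.inv a ha.1
    have hle : D.odd ⊔ (T : Subgroup G) ≤ H := sup_le (fun a ha => D.le ha.1) hTle
    have h : Cen d D.odd :=
      { comm := fun a ha b hb => D.comm a ha.1 b hb.1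
        odd := D.card_odd
        cent_x := hcx
        conj_y := fun a ha => (hcy a ha).symm ▸ inv_mem ha
        eq := by
          rw [hz, D.cent]
          refine le_antisymm (fun g hg => ?_) hle
          rcases D.cover g hg with hgA | hgu
          · obtain ⟨k, hk, i, rfl⟩ := D.exists_mul_zpow hgen hxo hgA
            exact mul_mem (mem_sup_left hk) (mem_sup_right (zpow_mem hxT i))
          · obtain ⟨k, hk, i, hki⟩ := D.exists_mul_zpow hgen hxo hgu
            rw [show g = g * u * u by rw [mul_assoc, D.uu, mul_one], hki]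
            exact mul_mem (mul_mem (mem_sup_left hk) (mem_sup_right (zpow_mem hxT i)))
              (mem_sup_right huT) }
    exact out_of_cen h hcy hns hO
  right
  -- the normalizer of `T ⊓ H` in `T`
  set S := (T : Subgroup G) ⊓ H with hS
  haveI : Group.IsNilpotent (T : Subgroup G) := T.isPGroup'.isNilpotent
  have hlt : S.subgroupOf (T : Subgroup G) < ⊤ :=
    lt_top_iff_ne_top.2 fun e => hTle ((subgroupOf_eq_top.1 e).trans inf_le_right)
  obtain ⟨⟨t, htT⟩, htN, htS⟩ := SetLike.exists_of_lt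
    (Group.normalizerCondition_of_isNilpotent _ hlt)
  have htn : ∀ s ∈ S, t * s * t⁻¹ ∈ S := fun s hs =>
    mem_subgroupOf.1 ((mem_normalizer_iff.1 htN ⟨s, hs.1⟩).1 (mem_subgroupOf.2 hs))
  have hjx : ∃ i : ℤ, j = x ^ i := by
    obtain ⟨i, hi⟩ := hgen j D.j_mem ⟨1, by rw [pow_one, ← D.oj]; exact pow_orderOf_eq_one j⟩
    exact ⟨i, hi.symm⟩
  obtain ⟨m, hm⟩ := hjx
  have hjS : j ∈ S := ⟨hm ▸ zpow_mem hxT m, D.le D.j_mem⟩
  have hn : n = 1 := by
    by_contra hne
    set w := t * j * t⁻¹ with hw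
    have hwS := htn j hjS
    have hwo : orderOf w = 2 := conj_invol t D.oj
    have hxS : x ∈ S := ⟨hxT, D.le hxA⟩
    have hcw : Commute x w := by
      have hx' : t⁻¹ * x * t ∈ S := by
        have : (⟨x, hxT⟩ : (T : Subgroup G)) ∈ S.subgroupOf (T : Subgroup G) := mem_subgroupOf.2 hxS
        have h2 := mem_subgroupOf.1 ((mem_normalizer_iff.1 (inv_mem htN) _).1 this)
        simpa [mul_assoc] using h2
      have hc1 : Commute (t⁻¹ * x * t) j := by
        have := hx'.2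
        rw [← D.cent] at this
        exact mem_centralizer_singleton_iff.1 this
      have := hc1.map (MulAut.conj t).toMonoidHom
      simpa [hw, mul_assoc] using this
    rcases hTH w hwS with ⟨i, hi⟩ | ⟨i, hi⟩
    · have hwA : w ∈ A := hi ▸ hzx (zpow_mem (mem_zpowers x) i)
      have hwj := (D.cyc w hwA (invol_mul_self hwo)).resolve_left (invol_ne_one hwo)
      refine htS (mem_subgroupOf.2 ⟨htT, ?_⟩)
      rw [← D.cent]
      exact mem_centralizer_singleton_iff.2 (mul_inv_eq_iff_eq_mul.1 (hw ▸ hwj))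
    · have e : w = x ^ i * u := by rw [show x ^ i = w * u from hi, mul_assoc, D.uu, mul_one]
      rw [e] at hcw
      have hcu : Commute x u := by
        have := ((Commute.refl x).zpow_right i).inv_right.mul_right hcw
        rwa [inv_mul_cancel_left] at this
      have h1 : x = x⁻¹ := by
        rw [← hux, ← hcu.eq, mul_inv_cancel_right]
      have h2 : x ^ 2 = 1 := by rw [sq]; nth_rewrite 2 [h1]; exact mul_inv_cancel x
      have h3 := orderOf_dvd_of_pow_eq_one h2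
      rw [hxo] at h3
      have : 2 ^ n ≤ 2 ^ 1 := Nat.le_of_dvd (by norm_num) h3
      exact hne (le_antisymm ((Nat.pow_le_pow_iff_right (le_refl 2)).1 this) hn1)
  have hfour : ∀ W : Subgroup G, IsPGroup 2 W → W ≤ H → Nat.card W ≤ 4 := fun W hW hWH => by
    have := D.card_two_subgroup_le hgen hW hWH
    rw [hxo, hn] at this
    exact this
  refine ⟨hfour, T, hjS.1, ?_, ?_⟩
  · obtain ⟨k, hk⟩ := IsPGroup.iff_card.1 T.isPGroup'
    have h4 : 4 ∣ Nat.card S := by
      have hju : j ≠ u := fun e => D.u_not (e ▸ D.j_mem)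
      have F : Four j u := ⟨D.oj, huo, (mem_centralizer_singleton_iff.1
        (D.cent ▸ D.u_mem : u ∈ centralizer ({j} : Set G))).symm, hju⟩
      have hle : F.grp ≤ S := F.grp_le hjS ⟨huT, D.u_mem⟩
      refine dvd_trans ?_ (card_dvd_of_le hle)
      obtain ⟨e, he⟩ := IsPGroup.iff_card.1 F.isPGroup
      rw [he]
      rcases e with _ | _ | e
      · exact absurd (Subgroup.card_eq_one.1 (he.trans (pow_zero 2)))
          fun hb => invol_ne_one D.oj (mem_bot.1 (hb ▸ F.z_mem))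
      · haveI := isCyclic_of_prime_card (he.trans (pow_one 2))
        exact (F.not_isCyclic inferInstance).elim
      · exact pow_dvd_pow 2 (by omega : 2 ≤ e + 1 + 1)
    have hlt' : Nat.card S < Nat.card (T : Subgroup G) := by
      refine lt_of_le_of_ne (Nat.le_of_dvd Nat.card_pos (card_dvd_of_le inf_le_left)) fun e => hTle ?_
      exact (eq_of_le_of_card_ge inf_le_left e.ge).ge.trans inf_le_right
    have h4' := Nat.le_of_dvd Nat.card_pos h4
    rw [hk] at hlt' ⊢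
    rcases k with _ | _ | _ | k
    · omega
    · omega
    · omega
    · calc 8 = 2 ^ 3 := rfl
        _ ≤ 2 ^ (k + 1 + 1 + 1) := Nat.pow_le_pow_right two_pos (by omega)
  · refine le_antisymm (hfour _ (T.isPGroup'.to_le inf_le_left) inf_le_right) ?_
    have hju : j ≠ u := fun e => D.u_not (e ▸ D.j_mem)
    have F : Four j u := ⟨D.oj, huo, (mem_centralizer_singleton_iff.1
      (D.cent ▸ D.u_mem : u ∈ centralizer ({j} : Set G))).symm, hju⟩
    have hle : F.grp ≤ S := F.grp_le hjS ⟨huT, D.u_mem⟩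
    refine le_trans ?_ (Nat.le_of_dvd Nat.card_pos (card_dvd_of_le hle))
    obtain ⟨e, he⟩ := IsPGroup.iff_card.1 F.isPGroup
    rw [he]
    rcases e with _ | _ | e
    · exact absurd (Subgroup.card_eq_one.1 (he.trans (pow_zero 2)))
        fun hb => invol_ne_one D.oj (mem_bot.1 (hb ▸ F.z_mem))
    · haveI := isCyclic_of_prime_card (he.trans (pow_one 2))
      exact (F.not_isCyclic inferInstance).elim
    · calc 4 = 2 ^ 2 := rfl
        _ ≤ 2 ^ (e + 1 + 1) := Nat.pow_le_pow_right two_pos (by omega)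

end Dih

end CfsgLib.DGroup
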