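import Cfsg.Agent.Lib.DGroup.SLTwo
import Cfsg.Agent.Lib.DGroup.Cyclic
import Cfsg.Agent.Lib.CharsMore.AbCent.Main
import Cfsg.Agent.Lib.Transfer.ThompsonTransfer
import Cfsg.Agent.Lib.FTCons.SmallSylowTwo

/-!
# `H` of exponent two, and `A` with two involutions
-/

set_option autoImplicit false
set_option linter.unusedSectionVars false
set_option linter.style.haveILetI false

namespace CfsgLib.DGroup

open Subgroup CfsgLib.Involutions

universe u

variable {G : Type u} [Group G] [Finite G]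

/-- Conjugating a 2-subgroup into a given Sylow subgroup. -/
theorem exists_conj_le (Q : Sylow 2 G) {W : Subgroup G} (hW : IsPGroup 2 W) :
    ∃ g : G, ∀ w ∈ W, g * w * g⁻¹ ∈ (Q : Subgroup G) := by
  haveI : Fact (Nat.Prime 2) := ⟨Nat.prime_two⟩
  obtain ⟨R, hR⟩ := hW.exists_le_sylow
  obtain ⟨g, hg⟩ := MulAction.exists_smul_eq G R Q
  refine ⟨g, fun w hw => ?_⟩
  rw [← hg, Sylow.coe_subgroup_smul]
  exact ⟨w, hR hw, rfl⟩

/-- An involution generates a 2-group. -/
theorem isPGroup_zpowers_invol {t : G} (ht : orderOf t = 2) : IsPGroup 2 (zpowers t) :=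
  IsPGroup.of_card (n := 1) (by rw [Nat.card_zpowers, ht, pow_one])

theorem isSolvable_of_isCyclic (T : Sylow 2 G) (h : IsCyclic (T : Subgroup G)) :
    Group.IsSolvable G := by
  haveI : Fact (Nat.Prime 2) := ⟨Nat.prime_two⟩
  by_cases h2 : 2 ∣ Nat.card G
  · refine CfsgLib.FTCons.isSolvable_of_normalizer_le_centralizer
      (fun G _ _ hodd => CfsgLib.FT.isSolvable_of_odd hodd) T ?_
    exact IsCyclic.normalizer_le_centralizer ((Nat.minFac_eq_two_iff _).2 h2) h
  · exact CfsgLib.FT.isSolvable_of_odd (Nat.odd_iff.2 (Nat.two_dvd_ne_zero.1 h2))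

theorem four_le_card_of_iso (hns : ¬ Group.IsSolvable G) {F : Type} [Field F] [Fintype F]
    [CharP F 2] {A : Type} [CommGroup A] (e : G ≃* Matrix.SpecialLinearGroup (Fin 2) F × A) :
    4 ≤ Fintype.card F := by
  by_contra hlt
  have h1 : 1 < Fintype.card F := Fintype.one_lt_card
  obtain ⟨k, -, hk⟩ := FiniteField.card F 2
  have hk1 : (k : ℕ) = 1 := by
    by_contra hne
    have h2 : 2 ^ 2 ≤ 2 ^ (k : ℕ) := Nat.pow_le_pow_right two_pos (by have := k.pos; omega)
    omega
  rw [hk1, pow_one] at hk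
  haveI : Group.IsSolvable (Matrix.SpecialLinearGroup (Fin 2) F) :=
    CfsgLib.Recog.isSolvable_of_card_lt_sixty (by
      rw [CfsgLib.Classical.card_SL_two, Nat.card_eq_fintype_card, hk]; norm_num)
  exact hns (Group.isSolvable_of_isSolvable_injective (f := e.toMonoidHom) e.injective)

/-- A group in which `H` is elementary abelian and the centralizer of each of its involutions. -/
theorem out_of_exponent_two (H : Subgroup G) (h4 : 4 ∣ Nat.card H) (h2 : ∀ a ∈ H, a * a = 1)
    (hC : ∀ t ∈ H, t ≠ 1 → centralizer ({t} : Set G) = H) (hns : ¬ Group.IsSolvable G) :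
    ∃ (N : Subgroup G) (_ : N.Normal), Odd (Nat.card N) ∧ Out (G ⧸ N) := by
  haveI : Fact (Nat.Prime 2) := ⟨Nat.prime_two⟩
  have hHp : IsPGroup 2 H := fun a => ⟨1, Subtype.ext (by
    rw [pow_one, Subgroup.coe_pow, sq]; exact h2 a a.2)⟩
  have hcomm : ∀ a ∈ H, ∀ b ∈ H, a * b = b * a := fun a ha b hb => by
    have := h2 _ (mul_mem ha hb)
    calc a * b = a * b * 1 := (mul_one _).symm
      _ = a * b * ((b * a) * (b * a)) := by rw [h2 _ (mul_mem hb ha)]
      _ = a * (b * b) * a * (b * a) := by group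
      _ = b * a := by rw [h2 b hb, mul_one, h2 a ha, one_mul]
  obtain ⟨T, hT⟩ := hHp.exists_le_sylow
  have hTH : (T : Subgroup G) = H := by
    refine le_antisymm ?_ hT
    haveI : Nontrivial (T : Subgroup G) := Finite.one_lt_card_iff_nontrivial.1 (by
      have := Nat.le_of_dvd Nat.card_pos h4
      have := Nat.le_of_dvd Nat.card_pos (card_dvd_of_le hT)
      omega)
    haveI := T.isPGroup'.center_nontrivial
    obtain ⟨k, hk⟩ := IsPGroup.iff_card.1 (T.isPGroup'.to_subgroup (center (T : Subgroup G)))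
    have hk0 : 2 ∣ Nat.card (center (T : Subgroup G)) := by
      have h1 : 1 < Nat.card (center (T : Subgroup G)) :=
        Finite.one_lt_card_iff_nontrivial.2 inferInstance
      rcases k with _ | k
      · rw [hk] at h1; simp at h1
      · rw [hk]; exact dvd_pow_self 2 (by omega)
    obtain ⟨w, hw⟩ := exists_prime_orderOf_dvd_card' 2 hk0
    set z : G := ((w : (T : Subgroup G)) : G)
    have hzo : orderOf z = 2 := by rw [orderOf_coe, orderOf_coe]; exact hw
    have hzc : ∀ v ∈ (T : Subgroup G), v * z = z * v := fun v hv =>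
      congrArg Subtype.val (mem_center_iff.1 w.2 ⟨v, hv⟩)
    obtain ⟨⟨a, haH⟩, ha⟩ := exists_prime_orderOf_dvd_card' 2
      ((show 2 ∣ 4 by norm_num).trans h4)
    rw [Subgroup.orderOf_mk] at ha
    have hzH : z ∈ H := by
      rw [← hC a haH (invol_ne_one ha)]
      exact mem_centralizer_singleton_iff.2 (hzc a (hT haH)).symm
    intro v hv
    rw [← hC z hzH (invol_ne_one hzo)]
    exact mem_centralizer_singleton_iff.2 (hzc v hv)
  have hsetup : CharsMore.AbCent.Setup T := by
    refine ⟨fun hc => ?_, fun hn => ?_, fun t ht => ?_⟩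
    · rw [hTH] at hc
      obtain ⟨g, hg⟩ := hc.exists_ofOrder_eq_natCard
      have h1 : orderOf g ∣ 2 := orderOf_dvd_of_pow_eq_one (Subtype.ext (by
        rw [Subgroup.coe_pow, sq]; exact h2 g g.2))
      rw [hg] at h1
      have := Nat.le_of_dvd (by norm_num) h1
      have := Nat.le_of_dvd Nat.card_pos h4
      omega
    · haveI := hn
      refine hns (isSolvable_of_odd_index (T : Subgroup G) ?_
        (Nat.odd_iff.2 (Nat.two_dvd_ne_zero.1 T.not_dvd_index)))
      haveI := T.isPGroup'.isNilpotent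
      infer_instance
    · obtain ⟨g, hg⟩ := exists_conj_le T (isPGroup_zpowers_invol ht)
      have hgt := hg t (mem_zpowers t)
      rw [hTH] at hgt
      have hne : g * t * g⁻¹ ≠ 1 := fun e => invol_ne_one ht (conj_eq_one_iff.1 e)
      have key : ∀ a ∈ centralizer ({t} : Set G), g * a * g⁻¹ ∈ H := fun a ha => by
        rw [← hC _ hgt hne]
        exact mem_centralizer_singleton_iff.2
          (Commute.map (mem_centralizer_singleton_iff.1 ha : Commute a t) (MulAut.conj g).toMonoidHom)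
      refine ⟨⟨fun a b => Subtype.ext ?_⟩⟩
      have := hcomm _ (key a a.2) _ (key b b.2)
      exact conj_injective (x := g) (by
        show g * ((a : G) * b) * g⁻¹ = g * ((b : G) * a) * g⁻¹
        calc g * ((a : G) * b) * g⁻¹ = g * a * g⁻¹ * (g * b * g⁻¹) := by group
          _ = g * b * g⁻¹ * (g * a * g⁻¹) := this
          _ = _ := by group)
  obtain ⟨F, iF, iFt, A, iA, iAf, hchar, hodd, ⟨e⟩⟩ := CharsMore.AbCent.exists_iso_prod hsetup
  have hq := four_le_card_of_iso hns e
  let π : G →* Matrix.SpecialLinearGroup (Fin 2) F := (MonoidHom.fst _ _).comp e.toMonoidHom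
  have hπ : Function.Surjective π := fun x => ⟨e.symm (x, 1), by simp [π]⟩
  refine ⟨π.ker, inferInstance, ?_, F, iF, iFt, by omega, Or.inl
    ⟨(QuotientGroup.quotientKerEquivOfSurjective π hπ).trans CfsgLib.Recog.pslEquivSL⟩⟩
  have h1 := π.ker.index_mul_card
  rw [Subgroup.index_ker, MonoidHom.range_eq_top.2 hπ, card_top, Nat.card_congr e.toEquiv,
    Nat.card_prod] at h1
  rw [Nat.eq_of_mul_eq_mul_left Nat.card_pos h1]
  exact hodd

/-- `H` over the abelian `A` with two involutions, each with centralizer `H`. -/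
structure Gen (H A : Subgroup G) (u : G) : Prop where
  le : A ≤ H
  comm : ∀ a ∈ A, ∀ b ∈ A, a * b = b * a
  u_mem : u ∈ H
  u_not : u ∉ A
  uu : u * u = 1
  inv : ∀ a ∈ A, u * a * u⁻¹ = a⁻¹
  cover : ∀ h ∈ H, h ∈ A ∨ h * u ∈ A
  cent : ∀ b ∈ A, orderOf b = 2 → centralizer ({b} : Set G) = H
  two : ∃ a b : G, a ∈ A ∧ b ∈ A ∧ orderOf a = 2 ∧ orderOf b = 2 ∧ a ≠ b
  not_all : ¬ ∀ a ∈ A, a * a = 1

namespace Gen

variable {H A : Subgroup G} {u : G} (D : Gen H A u)
include D

theorem sq_outside {v : G} (hv : v ∈ H) (hvA : v ∉ A) : v * v = 1 := by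
  have hvu := (D.cover v hv).resolve_left hvA
  calc v * v = v * u * (u * (v * u) * u⁻¹) := by
        rw [show v * u * (u * (v * u) * u⁻¹) = v * (u * u) * v by group, D.uu, mul_one]
    _ = 1 := by rw [D.inv _ hvu, mul_inv_cancel]

theorem central {b : G} (hb : b ∈ A) (hbo : orderOf b = 2) {h : G} (hh : h ∈ H) :
    h * b = b * h := mem_centralizer_singleton_iff.1 ((D.cent b hb hbo).symm ▸ hh)

theorem not_isConj {v g : G} (hv : v ∈ H) (hvA : v ∉ A) : g * v * g⁻¹ ∉ A := by
  intro hgA
  have hvo : orderOf v = 2 := by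
    haveI : Fact (Nat.Prime 2) := ⟨Nat.prime_two⟩
    exact orderOf_eq_prime (by rw [sq, D.sq_outside hv hvA]) fun e => hvA (e ▸ A.one_mem)
  have hgC := D.cent _ hgA (conj_invol g hvo)
  have key : ∀ a : G, a * v = v * a → g * a * g⁻¹ ∈ H := fun a ha => by
    rw [← hgC]
    exact mem_centralizer_singleton_iff.2 (Commute.map (ha : Commute a v) (MulAut.conj g).toMonoidHom)
  -- an involution of `A` mapped into `A`
  obtain ⟨c, hcA, hco, hcg⟩ : ∃ c, c ∈ A ∧ orderOf c = 2 ∧ g * c * g⁻¹ ∈ A := by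
    obtain ⟨a, b, ha, hb, hao, hbo, hab⟩ := D.two
    have hga := key a (D.central ha hao hv).symm
    have hgb := key b (D.central hb hbo hv).symm
    by_cases h1 : g * a * g⁻¹ ∈ A
    · exact ⟨a, ha, hao, h1⟩
    by_cases h2 : g * b * g⁻¹ ∈ A
    · exact ⟨b, hb, hbo, h2⟩
    refine ⟨a * b, mul_mem ha hb, ?_, ?_⟩
    · haveI : Fact (Nat.Prime 2) := ⟨Nat.prime_two⟩
      refine orderOf_eq_prime ?_ fun e => hab ?_
      · rw [(show Commute a b from D.comm a ha b hb).mul_pow]
        rw [show a ^ 2 = 1 from orderOf_dvd_iff_pow_eq_one.1 hao.dvd,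
          show b ^ 2 = 1 from orderOf_dvd_iff_pow_eq_one.1 hbo.dvd, one_mul]
      · rw [mul_eq_one_iff_eq_inv] at e
        rw [e, invol_inv hbo]
    · have e1 := (D.cover _ hga).resolve_left h1
      have e2 := (D.cover _ hgb).resolve_left h2
      have e3 : u * (g * b * g⁻¹ * u) * u⁻¹ ∈ A := by rw [D.inv _ e2]; exact inv_mem e2
      have := mul_mem e1 e3
      rwa [show g * a * g⁻¹ * u * (u * (g * b * g⁻¹ * u) * u⁻¹) =
        g * a * g⁻¹ * (u * u) * (g * b * g⁻¹) by group, D.uu, mul_one,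
        show g * a * g⁻¹ * (g * b * g⁻¹) = g * (a * b) * g⁻¹ by group] at this
  have hcC : centralizer ({g * c * g⁻¹} : Set G) = H := D.cent _ hcg (conj_invol g hco)
  -- so `g` normalises `H`, and `v` is central in `H`
  have hgu : g * u * g⁻¹ ∈ H := by
    rw [← hcC]
    exact mem_centralizer_singleton_iff.2
      (Commute.map (D.central hcA hco D.u_mem : Commute u c) (MulAut.conj g).toMonoidHom)
  have hgH : ∀ h ∈ H, h * v = v * h := fun h hh => by
    have h1 : g * h * g⁻¹ ∈ H := by
      rw [← hcC]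
      exact mem_centralizer_singleton_iff.2
        (Commute.map (D.central hcA hco hh : Commute h c) (MulAut.conj g).toMonoidHom)
    have h2 := D.central hgA (conj_invol g hvo) h1
    refine conj_injective (x := g) ?_
    show g * (h * v) * g⁻¹ = g * (v * h) * g⁻¹
    calc g * (h * v) * g⁻¹ = g * h * g⁻¹ * (g * v * g⁻¹) := by group
      _ = g * v * g⁻¹ * (g * h * g⁻¹) := h2
      _ = _ := by group
  -- then `A` has exponent two and `v` lies in it
  have hvu := (D.cover v hv).resolve_left hvA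
  have hgvC := key v rfl
  have hA2 : ∀ a ∈ A, a * a = 1 := fun a ha => by
    have h1 : v * a * v⁻¹ = a⁻¹ := by
      have e : v = v * u * u := by rw [mul_assoc, D.uu, mul_one]
      calc v * a * v⁻¹ = v * u * u * a * (v * u * u)⁻¹ := by rw [← e]
        _ = v * u * (u * a * u⁻¹) * (v * u)⁻¹ := by group
        _ = a⁻¹ := by rw [D.inv a ha, D.comm _ hvu _ (A.inv_mem ha), mul_inv_cancel_right]
    rw [← hgH a (D.le ha), mul_inv_cancel_right] at h1
    exact mul_eq_one_iff_eq_inv.2 h1
  exact D.not_all hA2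

end Gen

end CfsgLib.DGroup
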