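import Cfsg.Agent.Lib.PLocal.QdControl
import Cfsg.Agent.Lib.Involutions.DihedralFusion

/-!
# Groups with dihedral Sylow 2-subgroups do not involve `Qd(p)`
-/

set_option autoImplicit false
set_option linter.style.haveILetI false

namespace CfsgLib.DGroup

open Subgroup CfsgLib.Involutions Cfsg CfsgLib.PLocal

universe u

theorem exists_pair_SL {p : ℕ} [Fact p.Prime] (hp : p ≠ 2) :
    ∃ i j : Matrix.SpecialLinearGroup (Fin 2) (ZMod p),
      i * i ≠ 1 ∧ i * i * (i * i) = 1 ∧ j * i * j⁻¹ = i⁻¹ ∧ j * j = i * i := by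
  obtain ⟨a, b, hab⟩ := ZMod.sq_add_sq p (-1)
  have h2 : (2 : ZMod p) ≠ 0 := by
    intro e
    have : (p : ℕ) ∣ 2 := (ZMod.natCast_eq_zero_iff 2 p).1 (by exact_mod_cast e)
    exact hp ((Nat.prime_dvd_prime_iff_eq Fact.out Nat.prime_two).1 this)
  let i : Matrix.SpecialLinearGroup (Fin 2) (ZMod p) :=
    ⟨!![0, 1; -1, 0], by simp [Matrix.det_fin_two]⟩
  let j : Matrix.SpecialLinearGroup (Fin 2) (ZMod p) :=
    ⟨!![a, b; b, -a], by rw [Matrix.det_fin_two_of]; linear_combination -hab⟩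
  have hi : (i * i : Matrix.SpecialLinearGroup (Fin 2) (ZMod p)).1 = !![-1, 0; 0, -1] := by
    show (!![0, 1; -1, 0] : Matrix (Fin 2) (Fin 2) (ZMod p)) * !![0, 1; -1, 0] = _
    simp
  refine ⟨i, j, fun e => ?_, ?_, ?_, ?_⟩
  · have h := congrFun (congrFun (congrArg Subtype.val e) 0) 0
    rw [hi] at h
    simp at h
    exact h2 (by linear_combination -h)
  · refine Subtype.ext ?_
    rw [Matrix.SpecialLinearGroup.coe_mul, hi, Matrix.SpecialLinearGroup.coe_one]
    simp [Matrix.one_fin_two]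
  · rw [mul_inv_eq_iff_eq_mul]
    refine Subtype.ext ?_
    rw [Matrix.SpecialLinearGroup.coe_mul, Matrix.SpecialLinearGroup.coe_mul,
      Matrix.SpecialLinearGroup.coe_inv]
    show (!![a, b; b, -a] : Matrix (Fin 2) (Fin 2) (ZMod p)) * !![0, 1; -1, 0] =
      Matrix.adjugate !![0, 1; -1, 0] * !![a, b; b, -a]
    simp [Matrix.adjugate_fin_two_of]
  · refine Subtype.ext ?_
    rw [hi]
    show (!![a, b; b, -a] : Matrix (Fin 2) (Fin 2) (ZMod p)) * !![a, b; b, -a] = _
    rw [Matrix.mul_fin_two]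
    ext s t
    fin_cases s <;> fin_cases t <;> simp <;> first | linear_combination hab | linear_combination -hab | ring

variable {G : Type u} [Group G] [Finite G] {P : Sylow 2 G}

theorem not_invHom_qd (d : DP (P : Subgroup G)) {p : ℕ} [Fact p.Prime] (hp : p ≠ 2) :
    ¬ InvHom ↥(qd p) G := by
  rintro ⟨K, F, hF⟩
  haveI : Fact (Nat.Prime 2) := ⟨Nat.prime_two⟩
  let π : ↥K →* Matrix.SpecialLinearGroup (Fin 2) (ZMod p) := qdBlock.comp F
  have hπ : Function.Surjective π := fun g => by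
    obtain ⟨k, hk⟩ := hF (qdElt 0 g)
    exact ⟨k, by show qdBlock (F k) = g; rw [hk, qdBlock_qdElt]⟩
  obtain ⟨i, j, hi2, hi4, hji, hjj⟩ := exists_pair_SL (p := p) hp
  have hi : orderOf i = 2 ^ 2 := by
    refine orderOf_eq_prime_pow (by rwa [pow_one, sq]) ?_
    rw [show 2 ^ (1 + 1) = 2 + 2 from rfl, pow_add, sq, hi4]
  -- `⟨i, j⟩` is a 2-group
  have hjn : zpowers j ≤ normalizer (zpowers i : Set _) := by
    rw [zpowers_le]
    refine mem_normalizer_iff_map_conj_eq.2 ?_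
    rw [MonoidHom.map_zpowers]
    show zpowers (j * i * j⁻¹) = zpowers i
    rw [hji, zpowers_inv]
  have hj : orderOf j = 2 ^ 2 := by
    refine orderOf_eq_prime_pow (by rwa [pow_one, sq, hjj]) ?_
    rw [show 2 ^ (1 + 1) = 2 + 2 from rfl, pow_add, sq, hjj, hi4]
  have h2 : IsPGroup 2 (zpowers i ⊔ zpowers j : Subgroup _) := by
    refine IsPGroup.to_sup_of_normal_left' ?_ ?_ hjn
    · exact IsPGroup.of_card (n := 2) (by rw [Nat.card_zpowers, hi])
    · exact IsPGroup.of_card (n := 2) (by rw [Nat.card_zpowers, hj])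
  obtain ⟨T, hT⟩ := h2.exists_le_sylow
  obtain ⟨S⟩ : Nonempty (Sylow 2 K) := inferInstance
  obtain ⟨g, hg⟩ := MulAction.exists_smul_eq (Matrix.SpecialLinearGroup (Fin 2) (ZMod p)) (S.mapSurjective (f := π) hπ) T
  obtain ⟨k, rfl⟩ := hπ g
  have hTeq : (T : Subgroup _) = ((k • S : Sylow 2 K) : Subgroup K).map π := by
    rw [← hg]
    ext a
    rw [Sylow.coe_subgroup_smul, Sylow.coe_subgroup_smul, Sylow.coe_mapSurjective,
      CfsgLib.Coprime.mem_conj_smul, mem_map, mem_map]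
    constructor
    · rintro ⟨b, hb, e⟩
      refine ⟨k * b * k⁻¹, CfsgLib.Coprime.mem_conj_smul.2 (by simpa [mul_assoc] using hb), ?_⟩
      rw [map_mul, map_mul, map_inv, e]; group
    · rintro ⟨b, hb, rfl⟩
      refine ⟨_, CfsgLib.Coprime.mem_conj_smul.1 hb, ?_⟩
      rw [map_mul, map_mul, map_inv]
  set S' : Sylow 2 K := k • S
  have hU : IsPGroup 2 ((S' : Subgroup K).map K.subtype) := S'.isPGroup'.map _
  obtain ⟨Q, hQ⟩ := hU.exists_le_sylow
  obtain ⟨c, hc⟩ := MulAction.exists_smul_eq G Q P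
  have hmem : ∀ w ∈ (T : Subgroup _), ∃ b : K, π b = w ∧ MulAut.conj c (b : G) ∈ (P : Subgroup G) := by
    intro w hw
    rw [hTeq] at hw
    obtain ⟨b, hb, rfl⟩ := hw
    exact ⟨b, rfl, by rw [← hc, Sylow.coe_subgroup_smul]; exact ⟨_, hQ ⟨b, hb, rfl⟩, rfl⟩⟩
  obtain ⟨b, rfl, hbP⟩ := hmem i (hT (mem_sup_left (mem_zpowers i)))
  obtain ⟨b', rfl, hb'P⟩ := hmem j (hT (mem_sup_right (mem_zpowers j)))
  have hsq : ∀ (e : K) (m : ℤ), MulAut.conj c (e : G) = d.x ^ m * d.y → π e * π e = 1 := fun e m he => by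
    have : e * e = 1 := by
      refine Subtype.ext ((MulAut.conj c).injective ?_)
      rw [coe_mul, map_mul, coe_one, map_one, he]
      exact invol_mul_self (d.orderOf_r m)
    rw [← map_mul, this, map_one]
  rcases d.cover _ hbP with ⟨m, hm⟩ | ⟨m, hm⟩
  · rcases d.cover _ hb'P with ⟨l, hl⟩ | ⟨l, hl⟩
    · have hcomm : b' * b * b'⁻¹ = b := by
        refine Subtype.ext ((MulAut.conj c).injective ?_)
        rw [coe_mul, coe_mul, coe_inv, map_mul, map_mul, map_inv, hm, hl, ← zpow_add,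
          ← zpow_neg, ← zpow_add]
        congr 1; ring
      rw [← map_inv π b', ← map_mul, ← map_mul, hcomm] at hji
      refine hi2 ?_
      nth_rewrite 2 [hji]
      rw [mul_inv_cancel]
    · exact hi2 (by rw [← hjj]; exact hsq _ _ hl)
  · exact hi2 (hsq _ _ hm)

end CfsgLib.DGroup
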