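import Cfsg.Agent.Lib.DGroup.Odd
import Cfsg.Agent.Lib.DGroup.Qd

/-!
# Commuting pairs of involutions and the local configuration

`Config G` collects what is known about a simple group with dihedral Sylow 2-subgroups in which
involution centralisers are (abelian of odd order) extended by the Sylow subgroup acting as `±1`.
-/

set_option autoImplicit false
set_option linter.style.haveILetI false
set_option linter.unusedSectionVars false

namespace CfsgLib.DGroup

open Subgroup Cfsg CfsgLib.PLocal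

universe u

variable {G : Type u} [Group G]

/-- Distinct commuting involutions. -/
structure Four (z u : G) : Prop where
  oz : orderOf z = 2
  ou : orderOf u = 2
  comm : Commute z u
  ne : z ≠ u

theorem mul_self_of_two {a : G} (h : orderOf a = 2) : a * a = 1 := by
  have := pow_orderOf_eq_one a
  rwa [h, sq] at this

namespace Four

variable {z u : G} (F : Four z u)
include F

theorem zz : z * z = 1 := mul_self_of_two F.oz
theorem uu : u * u = 1 := mul_self_of_two F.ou

theorem mul_ne : z * u ≠ 1 := fun e =>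
  F.ne (calc z = z * (z * u) := by rw [e, mul_one]
    _ = u := by rw [← mul_assoc, F.zz, one_mul])

theorem orderOf_mul : orderOf (z * u) = 2 := by
  refine orderOf_eq_prime ?_ F.mul_ne
  rw [sq, F.comm.symm.mul_mul_mul_comm, F.zz, F.uu, one_mul]

theorem symm : Four u z := ⟨F.ou, F.oz, F.comm.symm, F.ne.symm⟩

theorem left : Four z (z * u) := by
  refine ⟨F.oz, F.orderOf_mul, (Commute.refl z).mul_right F.comm, fun e => ?_⟩
  have h1 : u = 1 := mul_left_cancel (a := z) (e.symm.trans (mul_one z).symm)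
  have h2 := F.ou
  rw [h1, orderOf_one] at h2
  omega

theorem right : Four u (z * u) := by
  refine ⟨F.ou, F.orderOf_mul, F.comm.symm.mul_right (Commute.refl u), fun e => ?_⟩
  have h1 : z = 1 := mul_right_cancel (b := u) (by rw [one_mul]; exact e.symm)
  have h2 := F.oz
  rw [h1, orderOf_one] at h2
  omega

theorem mul_mul : z * (z * u) = u := by rw [← mul_assoc, F.zz, one_mul]

theorem mul_mul' : u * (z * u) = z := by rw [F.comm.eq, ← mul_assoc, F.uu, one_mul]

/-- The four-group `{1, z, u, z * u}`. -/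
def grp : Subgroup G where
  carrier := {g | g = 1 ∨ g = z ∨ g = u ∨ g = z * u}
  mul_mem' := by
    have a1 := F.zz
    have a2 := F.uu
    have a3 := F.mul_mul
    have a4 := F.mul_mul'
    have a5 : u * z = z * u := F.comm.eq.symm
    have a6 : z * u * z = u := by rw [mul_assoc, a5, a3]
    have a7 : z * u * u = z := by rw [mul_assoc, a2, mul_one]
    have a8 : z * u * (z * u) = 1 := by rw [mul_assoc, a4, a1]
    rintro a b (rfl | rfl | rfl | rfl) (rfl | rfl | rfl | rfl) <;>
      simp [a1, a2, a3, a4, a5, a6, a7, a8]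
  one_mem' := Or.inl rfl
  inv_mem' := by
    rintro a (rfl | rfl | rfl | rfl)
    · exact Or.inl inv_one
    · exact Or.inr (Or.inl (inv_eq_of_mul_eq_one_right F.zz))
    · exact Or.inr (Or.inr (Or.inl (inv_eq_of_mul_eq_one_right F.uu)))
    · refine Or.inr (Or.inr (Or.inr ?_))
      rw [mul_inv_rev, inv_eq_of_mul_eq_one_right F.zz, inv_eq_of_mul_eq_one_right F.uu]
      exact F.comm.eq.symm

theorem z_mem : z ∈ F.grp := Or.inr (Or.inl rfl)
theorem u_mem : u ∈ F.grp := Or.inr (Or.inr (Or.inl rfl))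

theorem grp_le {M : Subgroup G} (hz : z ∈ M) (hu : u ∈ M) : F.grp ≤ M := by
  rintro a (rfl | rfl | rfl | rfl)
  exacts [one_mem M, hz, hu, mul_mem hz hu]

theorem mul_self {a : G} (ha : a ∈ F.grp) : a * a = 1 := by
  rcases ha with rfl | rfl | rfl | rfl
  exacts [one_mul 1, F.zz, F.uu, mul_self_of_two F.orderOf_mul]

theorem isPGroup : IsPGroup 2 F.grp := fun a =>
  ⟨1, Subtype.ext (by rw [pow_one, sq]; exact F.mul_self a.2)⟩

theorem isMulCommutative : IsMulCommutative F.grp := ⟨⟨fun a b => by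
  have h := F.mul_self (mul_mem a.2 b.2)
  have ha := F.mul_self a.2
  have hb := F.mul_self b.2
  refine Subtype.ext ?_
  show (a : G) * b = b * a
  calc (a : G) * b = a * b * ((b * a) * (b * a)) := by
        rw [F.mul_self (mul_mem b.2 a.2), mul_one]
    _ = (a * (b * b) * a) * (b * a) := by group
    _ = b * a := by rw [hb, mul_one, ha, one_mul]⟩⟩

theorem not_isCyclic : ¬ IsCyclic F.grp := by
  rintro ⟨⟨g, hg⟩, hgen⟩
  have hmem : ∀ a ∈ F.grp, a = 1 ∨ a = g := fun a ha => by
    obtain ⟨k, hk⟩ := hgen ⟨a, ha⟩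
    have hk' : g ^ k = a := congrArg Subtype.val hk
    rcases Int.even_or_odd k with ⟨m, rfl⟩ | ⟨m, rfl⟩
    · left; rw [← hk', ← two_mul, _root_.zpow_mul, zpow_two, F.mul_self hg, _root_.one_zpow]
    · right; rw [← hk', zpow_add, _root_.zpow_mul, zpow_two, F.mul_self hg, _root_.one_zpow,
        one_mul, zpow_one]
  have hz1 : z ≠ 1 := fun e => by have := F.oz; rw [e, orderOf_one] at this; omega
  have hu1 : u ≠ 1 := fun e => by have := F.ou; rw [e, orderOf_one] at this; omega
  exact F.ne (((hmem z F.z_mem).resolve_left hz1).trans ((hmem u F.u_mem).resolve_left hu1).symm)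

theorem card_coprime [Finite G] {N : Subgroup G} (hN : Odd (Nat.card N)) :
    (Nat.card F.grp).Coprime (Nat.card N) := by
  haveI : Fact (Nat.Prime 2) := ⟨Nat.prime_two⟩
  obtain ⟨k, hk⟩ := IsPGroup.iff_card.1 F.isPGroup
  rw [hk]
  exact Nat.Coprime.pow_left k (Nat.coprime_two_left.2 hN)

/-- A subgroup of odd order is generated by its three centralisers. -/
theorem le_of_parts [Finite G] {N R : Subgroup G} (hN : Odd (Nat.card N))
    (hn : F.grp ≤ normalizer (N : Set G)) (h1 : ∀ n ∈ N, Commute z n → n ∈ R)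
    (h2 : ∀ n ∈ N, Commute u n → n ∈ R) (h3 : ∀ n ∈ N, Commute (z * u) n → n ∈ R) : N ≤ R := by
  haveI := F.isMulCommutative
  refine CfsgLib.Coprime.le_of_centralizer_le_of_not_isCyclic F.not_isCyclic hn
    (F.card_coprime hN) ?_
  rintro a (rfl | rfl | rfl | rfl) ha n hn' <;>
    obtain ⟨hnN, hnc⟩ := mem_inf.1 hn' <;>
    have hc := (mem_centralizer_singleton_iff.1 hnc).symm
  exacts [absurd rfl ha, h1 n hnN hc, h2 n hnN hc, h3 n hnN hc]

end Four

/-- The local configuration. -/
structure Config (G : Type u) [Group G] : Prop where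
  comm : ∀ t : G, orderOf t = 2 → ∀ a b : G, Odd (orderOf a) → Odd (orderOf b) →
    Commute t a → Commute t b → Commute a b
  inv : ∀ z u : G, Four z u → ∀ a : G, Odd (orderOf a) → Commute z a → u * a * u⁻¹ = a⁻¹
  cycle : ∀ z u : G, Four z u → ∃ g : G, Odd (orderOf g) ∧
    g * z * g⁻¹ = u ∧ g * u * g⁻¹ = z * u
  thin : ∀ t : G, orderOf t = 2 → ∀ Y : Subgroup G, Y ≠ ⊤ → centralizer ({t} : Set G) ≤ Y → Thin Y
  norm : ∀ t a : G, orderOf t = 2 → Odd (orderOf a) → Commute t a →
    centralizer ({t} : Set G) ≤ normalizer (zpowers a : Set G)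
  exists_ne : ∀ t : G, orderOf t = 2 → ∃ a : G, a ≠ 1 ∧ Odd (orderOf a) ∧ Commute t a
  qdFree : ∀ p : ℕ, ∀ _ : Fact p.Prime, p ≠ 2 → ¬ InvHom ↥(qd p) G

namespace Config

variable [Finite G] (h : Config G) {z u : G} (F : Four z u)
include h F

theorem eq_one_of_fix {a : G} (ha : Odd (orderOf a)) (hz : Commute z a) (hu : Commute u a) :
    a = 1 := by
  have := h.inv z u F a ha hz
  rw [hu.eq, mul_inv_cancel_right] at this
  exact eq_one_of_inv_eq ha this.symm

theorem inv' {a : G} (ha : Odd (orderOf a)) (hu : Commute u a) : z * a * z⁻¹ = a⁻¹ :=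
  h.inv u z F.symm a ha hu

theorem commute_cross {B : Subgroup G} (hB : ∀ b ∈ B, Commute z b) {n : G} (ho : Odd (orderOf n))
    (hc : Commute u n) (hn : n ∈ normalizer (B : Set G)) {b : G} (hb : b ∈ B) : Commute n b := by
  have h1 : z * n * z⁻¹ = n⁻¹ := h.inv' F ho hc
  have h2 : z * (n * b * n⁻¹) * z⁻¹ = n * b * n⁻¹ := by
    rw [(hB _ ((mem_normalizer_iff.1 hn b).1 hb)).eq, mul_inv_cancel_right]
  have h3 : z * b * z⁻¹ = b := by rw [(hB b hb).eq, mul_inv_cancel_right]
  rw [show z * (n * b * n⁻¹) * z⁻¹ = (z * n * z⁻¹) * (z * b * z⁻¹) * (z * n * z⁻¹)⁻¹ by group,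
    h1, h3, inv_inv] at h2
  refine commute_of_commute_sq ho ?_
  show n * n * b = b * (n * n)
  calc n * n * b = n * (n * b * n⁻¹) * n := by group
    _ = n * (n⁻¹ * b * n) * n := by rw [← h2]
    _ = b * (n * n) := by group

/-- A subgroup centralised by `z` is centralised by the odd subgroups normalised by the four-group
that normalise it. -/
theorem commute_onePart {B N : Subgroup G} (hBo : ∀ b ∈ B, Odd (orderOf b))
    (hB : ∀ b ∈ B, Commute z b) (hN : Odd (Nat.card N)) (hW : F.grp ≤ normalizer (N : Set G))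
    (hNB : N ≤ normalizer (B : Set G)) {n b : G} (hn : n ∈ N) (hb : b ∈ B) : Commute n b := by
  suffices hle : N ≤ centralizer (B : Set G) from (mem_centralizer_iff.1 (hle hn) b hb).symm
  refine F.le_of_parts hN hW (fun m hm hc => ?_) (fun m hm hc => ?_) (fun m hm hc => ?_) <;>
    refine mem_centralizer_iff.2 fun c hc' => (Commute.symm ?_)
  · exact h.comm z F.oz m c (odd_orderOf_of_mem hN hm) (hBo c hc') hc (hB c hc')
  · exact h.commute_cross F hB (odd_orderOf_of_mem hN hm) hc (hNB hm) hc'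
  · exact h.commute_cross F.left hB (odd_orderOf_of_mem hN hm) hc (hNB hm) hc'

/-- If `z * u` is fixed-point-free on `B`, then odd elements of `C(z)` normalising `B`
centralise it. -/
theorem commute_twoPart {B : Subgroup G} (hW : F.grp ≤ normalizer (B : Set G))
    (hf : ∀ b ∈ B, Commute (z * u) b → b = 1) {k : G} (hk : Odd (orderOf k)) (hz : Commute z k)
    (hn : k ∈ normalizer (B : Set G)) {b : G} (hb : b ∈ B) : Commute k b := by
  have hw : ∀ c ∈ B, z * u * c * (z * u)⁻¹ = c⁻¹ := fun c hc =>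
    inverts_of_fpf (mul_self_of_two F.orderOf_mul) (hW (mul_mem F.z_mem F.u_mem)) hf hc
  have hu : ∀ c ∈ B, u * c * u⁻¹ = (z * c * z⁻¹)⁻¹ := fun c hc => by
    conv_lhs => rw [← F.mul_mul]
    rw [show z * (z * u) * c * (z * (z * u))⁻¹ = z * (z * u * c * (z * u)⁻¹) * z⁻¹ by group,
      hw c hc]
    group
  set b' := z * b * z⁻¹
  have hb' : b' ∈ B := (mem_normalizer_iff.1 (hW F.z_mem) b).1 hb
  have hbb : z * b' * z⁻¹ = b := by
    show z * (z * b * z⁻¹) * z⁻¹ = b
    rw [show z * (z * b * z⁻¹) * z⁻¹ = (z * z) * b * (z * z)⁻¹ by group, F.zz, one_mul, inv_one,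
      mul_one]
  have e1 := hu _ ((mem_normalizer_iff.1 hn b').1 hb')
  rw [show u * (k * b' * k⁻¹) * u⁻¹ = (u * k * u⁻¹) * (u * b' * u⁻¹) * (u * k * u⁻¹)⁻¹ by group,
    h.inv z u F k hk hz, hu b' hb', hbb, inv_inv,
    show z * (k * b' * k⁻¹) * z⁻¹ = (z * k * z⁻¹) * (z * b' * z⁻¹) * (z * k * z⁻¹)⁻¹ by group,
    hz.eq, mul_inv_cancel_right, hbb] at e1
  refine commute_of_commute_sq hk ?_
  show k * k * b = b * (k * k)
  have e2 : k⁻¹ * b * k = k * b * k⁻¹ := by
    have := congrArg (·⁻¹) e1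
    simpa [mul_assoc] using this
  calc k * k * b = k * (k * b * k⁻¹) * k := by group
    _ = k * (k⁻¹ * b * k) * k := by rw [← e2]
    _ = b * (k * k) := by group

end Config

end CfsgLib.DGroup
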