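import Cfsg.Agent.Lib.DGroup.Proper

/-!
# The subgroup of index two containing `⟨x ^ 2, y⟩`
-/

set_option autoImplicit false
set_option linter.unusedSectionVars false
set_option linter.style.haveILetI false

namespace CfsgLib.DGroup

open Subgroup CfsgLib.Involutions

universe u

variable {G : Type u} [Group G] [Finite G]

theorem mem_of_index_two_of_odd {H : Subgroup G} (h2 : H.index = 2) {g : G}
    (hg : Odd (orderOf g)) : g ∈ H := by
  obtain ⟨m, hm⟩ := hg
  have e : (g ^ (m + 1)) ^ 2 = g := by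
    rw [← pow_mul, show (m + 1) * 2 = orderOf g + 1 by omega, pow_succ, pow_orderOf_eq_one, one_mul]
  rw [← e, sq, mul_mem_iff_of_index_two h2]

variable {P : Sylow 2 G} (d : DP (P : Subgroup G)) {H : Subgroup G}

/-- The hypotheses on the subgroup of index two. -/
structure Even2 (H : Subgroup G) : Prop where
  index : H.index = 2
  x_not : d.x ∉ H
  y_mem : d.y ∈ H
  two : 2 ≤ d.n

variable {d} (e : Even2 d H)
include e

theorem Even2.zpow_iff (i : ℤ) : d.x ^ i ∈ H ↔ Even i := by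
  have hsq : d.x ^ (2 : ℤ) ∈ H := by
    rw [zpow_two, mul_mem_iff_of_index_two e.index]
  rcases Int.even_or_odd i with ⟨m, rfl⟩ | ⟨m, rfl⟩
  · refine iff_of_true ?_ ⟨m, rfl⟩
    rw [← two_mul, _root_.zpow_mul]
    exact zpow_mem hsq m
  · refine iff_of_false (fun hmem => e.x_not ?_) (Int.not_even_iff_odd.2 ⟨m, rfl⟩)
    rw [zpow_add, zpow_one, _root_.zpow_mul] at hmem
    exact (mul_mem_cancel_left (zpow_mem hsq m)).1 hmem

theorem Even2.r_iff (i : ℤ) : d.r i ∈ H ↔ Even i := by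
  rw [← e.zpow_iff i]
  exact mul_mem_cancel_right e.y_mem

theorem Even2.not_dvd_index : ¬ 2 ∣ (((P : Subgroup G) ⊓ H).subgroupOf H).index := by
  intro hd
  refine P.not_dvd_index ?_
  haveI := Subgroup.normal_of_index_eq_two e.index
  have h1 : ((P : Subgroup G) ⊓ H).relIndex H * H.index = ((P : Subgroup G) ⊓ H).index :=
    relIndex_mul_index inf_le_right
  have h2 : ((P : Subgroup G) ⊓ H).relIndex (P : Subgroup G) * (P : Subgroup G).index =
      ((P : Subgroup G) ⊓ H).index := relIndex_mul_index inf_le_left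
  have hsup : ((P : Subgroup G) ⊓ H).relIndex (P : Subgroup G) = 2 := by
    refine relIndex_eq_two_iff.2 ⟨d.x, d.x_mem, fun b hb => ?_⟩
    simp only [mem_inf]
    by_cases hbH : b ∈ H
    · refine Or.inr ⟨⟨hb, hbH⟩, fun h => e.x_not ?_⟩
      exact (mul_mem_cancel_left hbH).1 h.2
    · refine Or.inl ⟨⟨mul_mem hb d.x_mem, ?_⟩, fun h => hbH h.2⟩
      rw [mul_mem_iff_of_index_two e.index]
      exact iff_of_false hbH e.x_not
  rw [hsup] at h2
  obtain ⟨k, hk⟩ := hd
  rw [relIndex, hk, e.index, mul_comm, ← h2] at h1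
  exact ⟨k, (Nat.eq_of_mul_eq_mul_left two_pos h1).symm⟩

/-- The Sylow subgroup `P ⊓ H` of `H`. -/
noncomputable def evenSylow : Sylow 2 H :=
  haveI : Fact (Nat.Prime 2) := ⟨Nat.prime_two⟩
  ((P.isPGroup'.to_le inf_le_left).comap_subtype (K := H)).toSylow e.not_dvd_index

theorem mem_evenSylow {g : H} : g ∈ (evenSylow e : Subgroup H) ↔ (g : G) ∈ (P : Subgroup G) := by
  show g ∈ ((P : Subgroup G) ⊓ H).subgroupOf H ↔ _
  rw [mem_subgroupOf, mem_inf]
  exact and_iff_left g.2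

/-- The dihedral data of `⟨x ^ 2, y⟩`. -/
noncomputable def evenDP : DP ((evenSylow e : Sylow 2 H) : Subgroup H) where
  n := d.n - 1
  x := ⟨d.x ^ (2 : ℤ), (e.zpow_iff 2).2 even_two⟩
  y := ⟨d.y, e.y_mem⟩
  one_le := by have := e.two; omega
  x_mem := (mem_evenSylow e).2 (zpow_mem d.x_mem _)
  y_mem := (mem_evenSylow e).2 d.y_mem
  orderOf_x := by
    rw [Subgroup.orderOf_mk, show (2 : ℤ) = ((2 : ℕ) : ℤ) from rfl, zpow_natCast,
      orderOf_pow' _ two_ne_zero, d.orderOf_x]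
    obtain ⟨m, hm⟩ : ∃ m, d.n = m + 1 := ⟨d.n - 1, by have := e.two; omega⟩
    rw [hm, Nat.add_sub_cancel, Nat.gcd_eq_right (dvd_pow_self 2 (by omega)), pow_succ,
      Nat.mul_div_cancel _ two_pos]
  orderOf_y := (Subgroup.orderOf_mk _ _).trans d.orderOf_y
  conj_y := Subtype.ext (by
    show d.y * d.x ^ (2 : ℤ) * d.y⁻¹ = (d.x ^ (2 : ℤ))⁻¹
    rw [← conj_zpow, d.conj_y, _root_.inv_zpow])
  y_not := by
    rintro ⟨i, hi⟩
    refine d.y_not ⟨2 * i, ?_⟩
    have := congrArg Subtype.val hi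
    simpa [_root_.zpow_mul] using this
  cover := by
    intro g hg
    rw [mem_evenSylow] at hg
    rcases d.cover g hg with ⟨i, hi⟩ | ⟨i, hi⟩
    · obtain ⟨m, rfl⟩ := (e.zpow_iff i).1 (hi ▸ g.2)
      exact Or.inl ⟨m, Subtype.ext (by rw [coe_zpow, hi, ← _root_.zpow_mul]; congr 1; ring)⟩
    · obtain ⟨m, rfl⟩ := (e.r_iff i).1 (by rw [show d.r i = g from hi.symm]; exact g.2)
      exact Or.inr ⟨m, Subtype.ext (by
        rw [Subgroup.coe_mul, coe_zpow, hi, ← _root_.zpow_mul]; congr 2; ring)⟩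

theorem coe_evenDP_z : ((evenDP e).z : G) = d.z := by
  show (((⟨d.x ^ (2 : ℤ), _⟩ : H) ^ _ : H) : G) = _
  rw [coe_zpow, ← _root_.zpow_mul]
  show _ = d.x ^ d.half
  congr 1
  obtain ⟨m, hm⟩ : ∃ m, d.n = m + 2 := ⟨d.n - 2, by have := e.two; omega⟩
  show 2 * (2 : ℤ) ^ (d.n - 1 - 1) = 2 ^ (d.n - 1)
  rw [hm, show m + 2 - 1 - 1 = m by omega, show m + 2 - 1 = m + 1 by omega, pow_succ']

theorem coe_evenDP_r (i : ℤ) : ((evenDP e).r i : G) = d.r (2 * i) := by
  show (((⟨d.x ^ (2 : ℤ), _⟩ : H) ^ i * ⟨d.y, e.y_mem⟩ : H) : G) = _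
  rw [Subgroup.coe_mul, coe_zpow, ← _root_.zpow_mul]
  rfl

theorem map_evenDP_TG (i : ℤ) : ((evenDP e).TG i).map H.subtype = d.TG (2 * i) := by
  rw [DP.TG, DP.TG, MonoidHom.map_closure]
  congr 1
  rw [Set.image_pair, coe_subtype, coe_evenDP_z e, coe_evenDP_r e]

theorem mem_evenDP_TG {i : ℤ} {a : H} : a ∈ (evenDP e).TG i ↔ (a : G) ∈ d.TG (2 * i) := by
  rw [← map_evenDP_TG e i]
  exact ⟨fun h => mem_map_of_mem _ h, fun ⟨b, hb, e'⟩ => Subtype.ext e' ▸ hb⟩

theorem not_F2_evenDP {i : ℤ} (hf : ¬ d.F2 (2 * i)) : ¬ (evenDP e).F2 i := by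
  intro hF
  simp only [DP.F2, not_forall] at hf
  obtain ⟨y, hy, hodd, a, ha, hc⟩ := hf
  have hyH := mem_of_index_two_of_odd e.index hodd
  have haH : a ∈ H := by
    obtain ⟨b, -, rfl⟩ := (map_evenDP_TG e i).symm ▸ ha
    exact b.2
  refine hc (congrArg Subtype.val
    (hF ⟨y, hyH⟩ ?_ (by rwa [Subgroup.orderOf_mk]) ⟨a, haH⟩ ((mem_evenDP_TG e).2 ha)).eq)
  refine mem_normalizer_iff.2 fun b => ?_
  rw [mem_evenDP_TG e, mem_evenDP_TG e]
  exact mem_normalizer_iff.1 hy b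

variable {R : Subgroup G} (h : Cen d R)
include h

theorem Cen.R_le_even : R ≤ H := fun _ ha =>
  mem_of_index_two_of_odd e.index (h.odd.of_dvd_nat (Subgroup.orderOf_dvd_natCard R ha))

theorem Cen.even : Cen (evenDP e) (R.subgroupOf H) where
  comm a ha b hb := Subtype.ext (h.comm a ha b hb).eq
  odd := by
    rw [Nat.card_congr (subgroupOfEquivOfLe (Cen.R_le_even e h)).toEquiv]
    exact h.odd
  cent_x a ha := Subtype.ext ((h.cent_x a ha).zpow_left 2).eq
  conj_y a ha := h.conj_y a ha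
  eq := by
    ext g
    rw [mem_centralizer_singleton_iff]
    constructor
    · intro hg
      have hg' : Commute d.z (g : G) := by
        rw [← coe_evenDP_z e]; exact (congrArg Subtype.val hg).symm
      obtain ⟨a, ha, s, hs, he⟩ := h.exists_mul hg'
      have haH := Cen.R_le_even e h ha
      have hsH : s ∈ H := (mul_mem_cancel_left haH).1 (he ▸ g.2)
      rw [show g = (⟨a, haH⟩ : H) * ⟨s, hsH⟩ from Subtype.ext he]
      exact mul_mem (mem_sup_left ha) (mem_sup_right ((mem_evenSylow e).2 hs))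
    · intro hg
      have hz : ((evenDP e).z : G) = d.z := coe_evenDP_z e
      refine Subtype.ext ?_
      rw [Subgroup.coe_mul, Subgroup.coe_mul, hz]
      have hle : R.subgroupOf H ⊔ ((evenSylow e : Sylow 2 H) : Subgroup H) ≤
          (centralizer ({d.z} : Set G)).subgroupOf H :=
        sup_le (fun a ha => mem_subgroupOf.2 (h.R_le ha))
          fun a ha => mem_subgroupOf.2 (h.P_le ((mem_evenSylow e).1 ha))
      exact mem_centralizer_singleton_iff.1 (mem_subgroupOf.1 (hle hg))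

end CfsgLib.DGroup
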