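import Cfsg.Agent.Lib.DGroup.Count

/-!
# The order in the presence of two classes of involutions
-/

set_option autoImplicit false
set_option linter.unusedSectionVars false
set_option linter.style.haveILetI false

namespace CfsgLib.DGroup

open Subgroup CfsgLib.Involutions

variable {G : Type*} [Group G] [Finite G] {P : Sylow 2 G} {d : DP (P : Subgroup G)}

theorem isConj_r (i j : ℤ) (h : Even (i - j)) : IsConj (d.r j) (d.r i) := by
  obtain ⟨m, hm⟩ := h
  exact isConj_iff.2 ⟨d.x ^ m, by rw [d.conj_r]; congr 1; omega⟩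

theorem isConj_z_r_zero (h : ¬ d.F2 0) : IsConj d.z (d.r 0) := by
  obtain ⟨c, -, -, h1, -⟩ := d.exists_cycle h
  exact isConj_iff.2 ⟨c, h1⟩

/-- Every involution is conjugate to `z` or `r 1`. -/
theorem cases_invol (h : ¬ d.F2 0) {t : G} (ht : orderOf t = 2) :
    IsConj d.z t ∨ IsConj (d.r 1) t := by
  obtain ⟨Q, hQ⟩ := (IsPGroup.of_card (p := 2) (n := 1)
    (by rw [Nat.card_zpowers, ht, pow_one]) : IsPGroup 2 (zpowers t)).exists_le_sylow
  obtain ⟨g, hg⟩ := MulAction.exists_smul_eq G Q P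
  have hmem : g * t * g⁻¹ ∈ (P : Subgroup G) := by
    rw [← hg, Sylow.coe_subgroup_smul]
    exact ⟨t, hQ (mem_zpowers t), rfl⟩
  have hc : IsConj t (g * t * g⁻¹) := isConj_iff.2 ⟨g, rfl⟩
  have ho : orderOf (g * t * g⁻¹) = 2 := conj_invol g ht
  rcases d.cover _ hmem with ⟨i, hi⟩ | ⟨i, hi⟩
  · rw [hi] at ho hc
    have h1 := pow_orderOf_eq_one (d.x ^ i)
    rw [ho, sq, ← zpow_add, d.zpow_eq_one, ← two_mul] at h1
    rcases d.zpow_of_half_dvd ((Int.mul_dvd_mul_iff_left two_ne_zero).1 h1) with e | e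
    · rw [e, orderOf_one] at ho; omega
    · exact Or.inl (e ▸ hc).symm
  · rw [hi, show d.x ^ i * d.y = d.r i from rfl] at hc
    rcases Int.even_or_odd i with he | ho'
    · exact Or.inl ((isConj_z_r_zero h).trans ((isConj_r i 0 (by simpa using he)).trans hc.symm))
    · exact Or.inr ((isConj_r i 1 (ho'.sub_odd odd_one)).trans hc.symm)

variable {R K : Subgroup G} (h : Cen d R) (hinv : ∀ a ∈ R, d.y * a * d.y⁻¹ = a⁻¹)

include h hinv in
/-- Every `a * r i` with `a ∈ R` is conjugate to `r i`. -/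
theorem isConj_mul_r (i : ℤ) {a : G} (ha : a ∈ R) : IsConj (d.r i) (a * d.r i) := by
  obtain ⟨m, hm⟩ := h.odd
  have hpow : a ^ (2 * m + 1) = 1 := by
    have := orderOf_dvd_iff_pow_eq_one.1 (Subgroup.orderOf_dvd_natCard R ha)
    rwa [hm] at this
  set b := a ^ (m + 1) with hbdef
  have hb : b ∈ R := pow_mem ha _
  refine isConj_iff.2 ⟨b, ?_⟩
  have e1 : d.r i * b⁻¹ * (d.r i)⁻¹ = b := by
    rw [h.r_conj_eq i (inv_mem hb), hinv _ (inv_mem hb), inv_inv]
  rw [show b * d.r i * b⁻¹ = b * (d.r i * b⁻¹ * (d.r i)⁻¹) * d.r i by group, e1, hbdef, ← pow_add,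
    show m + 1 + (m + 1) = (2 * m + 1) + 1 by ring, pow_add, hpow, one_mul, pow_one]

include h in
/-- An involution of the form `a * x ^ i` with `a ∈ R` is `z`. -/
theorem eq_z_of_invol {a : G} {i : ℤ} (ha : a ∈ R) (ho : orderOf (a * d.x ^ i) = 2) :
    a * d.x ^ i = d.z := by
  have hc : Commute a (d.x ^ i) := ((h.cent_x a ha).zpow_left i).symm
  have h1 := pow_orderOf_eq_one (a * d.x ^ i)
  rw [ho, hc.mul_pow] at h1
  obtain ⟨e1, e2⟩ := h.mul_inj (pow_mem ha 2) (one_mem R)
    (pow_mem (zpow_mem d.x_mem i) 2) (one_mem _) (by rw [h1, one_mul])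
  have ha1 : a = 1 := by
    obtain ⟨m, hm⟩ := h.odd
    have := orderOf_dvd_iff_pow_eq_one.1 (Subgroup.orderOf_dvd_natCard R ha)
    rwa [hm, pow_succ, pow_mul, e1, one_pow, one_mul] at this
  rw [ha1, one_mul] at ho ⊢
  rw [sq, ← zpow_add, d.zpow_eq_one, ← two_mul] at e2
  rcases d.zpow_of_half_dvd ((Int.mul_dvd_mul_iff_left two_ne_zero).1 e2) with e | e
  · rw [e, orderOf_one] at ho; omega
  · exact e

include h in
/-- The involutions of `C(z)`. -/
theorem invol_cent {t : G} (ht : orderOf t = 2) (hc : Commute d.z t) :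
    t = d.z ∨ ∃ a ∈ R, ∃ i : ℤ, t = a * d.r i := by
  obtain ⟨a, ha, s, hs, rfl⟩ := h.exists_mul hc
  rcases d.cover s hs with ⟨i, rfl⟩ | ⟨i, rfl⟩
  · exact Or.inl (eq_z_of_invol h ha ht)
  · exact Or.inr ⟨a, ha, i, rfl⟩

include h in
theorem mem_zpowers_prod {a b : G} {i j : ℤ} (ha : a ∈ R) (hb : b ∈ R)
    (hinv : ∀ a ∈ R, d.y * a * d.y⁻¹ = a⁻¹) {w : G}
    (hw : w ∈ zpowers (a * d.r i * (b * d.r j))) (ho : orderOf w = 2) : w = d.z := by
  have e : a * d.r i * (b * d.r j) = (a * b⁻¹) * d.x ^ (i - j) := by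
    have e1 : d.r i * b * (d.r i)⁻¹ = b⁻¹ := by rw [h.r_conj_eq i hb, hinv b hb]
    rw [show a * d.r i * (b * d.r j) = a * (d.r i * b * (d.r i)⁻¹) * (d.r i * d.r j) by group, e1,
      d.r_mul_r]
  rw [e] at hw
  obtain ⟨m, rfl⟩ := hw
  have hab : a * b⁻¹ ∈ R := mul_mem ha (inv_mem hb)
  have hc : Commute (a * b⁻¹) (d.x ^ (i - j)) := ((h.cent_x _ hab).zpow_left _).symm
  simp only [hc.mul_zpow, ← zpow_mul] at ho ⊢
  exact eq_z_of_invol h (zpow_mem hab m) ho

include h hinv in
theorem card_pairs_z (hn : 2 ≤ d.n) (hf : ¬ d.F2 0) (hns : d.F2 1) :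
    Nat.card (Pairs d.z (d.r 1) d.z) =
      (2 ^ (d.n - 1) * Nat.card R) * (2 ^ (d.n - 1) * Nat.card R) := by
  classical
  have hnc : ¬ IsConj d.z (d.r 1) := fun e => d.r_not_isConj_z hns e.symm
  have hodd1 : ∀ i : ℤ, IsConj d.z (d.r i) → Even i := fun i hi => by
    by_contra ho
    exact hnc (hi.trans (isConj_r i 1 ((Int.not_even_iff_odd.1 ho).sub_odd odd_one)).symm)
  have hev1 : ∀ i : ℤ, IsConj (d.r 1) (d.r i) → Odd i := fun i hi => by
    by_contra ho
    exact hnc (((isConj_z_r_zero hf).trans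
      (isConj_r i 0 (by simpa using Int.not_odd_iff_even.1 ho))).trans hi.symm)
  let N := 2 ^ (d.n - 1)
  have hord : 2 * d.half = 2 * (N : ℤ) := by simp [DP.half, N]
  let f : (R × Fin N) × (R × Fin N) → Pairs d.z (d.r 1) d.z := fun p =>
    ⟨((p.1.1 : G) * d.r (2 * (p.1.2 : ℕ)), (p.2.1 : G) * d.r (2 * (p.2.2 : ℕ) + 1)), by
      have hs : IsConj d.z ((p.1.1 : G) * d.r (2 * (p.1.2 : ℕ))) :=
        ((isConj_z_r_zero hf).trans (isConj_r _ 0 (by simp))).trans (isConj_mul_r h hinv _ p.1.1.2)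
      have ht : IsConj (d.r 1) ((p.2.1 : G) * d.r (2 * (p.2.2 : ℕ) + 1)) :=
        (isConj_r _ 1 (by simp)).trans (isConj_mul_r h hinv _ p.2.1.2)
      refine ⟨hs, ht, ?_⟩
      refine mem_zpowers_prod h p.1.1.2 p.2.1.2 hinv (pow_mem (mem_zpowers _) _) (half_invol ?_)
      by_contra ho
      exact hnc ((hs.trans (isConj_of_odd_prod (isConj_invol hs d.orderOf_z)
        (isConj_invol ht (d.orderOf_r 1)) (Nat.not_even_iff_odd.1 ho))).trans ht.symm)⟩
  have hf' : Function.Bijective f := by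
    constructor
    · rintro ⟨⟨a, m⟩, ⟨b, l⟩⟩ ⟨⟨a', m'⟩, ⟨b', l'⟩⟩ e
      obtain ⟨e1, e2⟩ := Prod.ext_iff.1 (congrArg Subtype.val e)
      obtain ⟨ea, em⟩ := h.mul_inj a.2 a'.2 (d.r_mem _) (d.r_mem _) e1
      obtain ⟨eb, el⟩ := h.mul_inj b.2 b'.2 (d.r_mem _) (d.r_mem _) e2
      have key : ∀ u v : Fin N, 2 * d.half ∣ 2 * ((u : ℕ) : ℤ) - 2 * ((v : ℕ) : ℤ) → u = v := by
        intro u v hd
        rw [hord, ← mul_sub] at hd
        have := (Int.mul_dvd_mul_iff_left two_ne_zero).1 hd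
        have h0 : ((u : ℕ) : ℤ) - (v : ℕ) = 0 := by
          refine Int.eq_zero_of_abs_lt_dvd this (abs_lt.2 ?_)
          have := u.2; have := v.2
          omega
        exact Fin.ext (by omega)
      rw [d.r_inj] at em el
      refine Prod.ext (Prod.ext (Subtype.ext ea) (key _ _ em))
        (Prod.ext (Subtype.ext eb) (key _ _ ?_))
      simpa using el
    · rintro ⟨⟨s, t⟩, hs, ht, hw⟩
      have hso := isConj_invol hs d.orderOf_z
      have hto := isConj_invol ht (d.orderOf_r 1)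
      have heven : Even (orderOf (s * t)) := by
        by_contra ho
        exact hnc ((hs.trans (isConj_of_odd_prod hso hto (Nat.not_even_iff_odd.1 ho))).trans ht.symm)
      have hcs : Commute d.z s := hw ▸ half_comm_left hso hto heven
      have hct : Commute d.z t := hw ▸ half_comm_right hso hto heven
      have htz : t ≠ d.z := fun e => hnc ((e ▸ ht : IsConj (d.r 1) d.z)).symm
      have hsz : s ≠ d.z := by
        intro e
        -- then `s * t` is an involution different from `z`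
        have h2 : orderOf (s * t) = 2 := by
          refine (invol_iff).2 ⟨?_, fun e' => hnc ?_⟩
          · have hc : Commute s t := e ▸ hct
            calc s * t * (s * t) = (s * s) * (t * t) := hc.symm.mul_mul_mul_comm s t
              _ = 1 := by rw [invol_mul_self hso, invol_mul_self hto, one_mul]
          · rw [mul_eq_one_iff_inv_eq, invol_inv hso] at e'
            exact hs.trans (e' ▸ ht.symm)
        have hw' : (s * t) ^ (orderOf (s * t) / 2) = d.z := hw
        rw [h2, Nat.div_self two_pos, pow_one] at hw'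
        exact invol_ne_one hto (mul_eq_left.1 (hw'.trans e.symm))
      obtain ⟨a, ha, i, rfl⟩ := (invol_cent h hso hcs).resolve_left hsz
      obtain ⟨b, hb, j, rfl⟩ := (invol_cent h hto hct).resolve_left htz
      have hi : Even i := hodd1 i (hs.trans (isConj_mul_r h hinv i ha).symm)
      have hj : Odd j := hev1 j (ht.trans (isConj_mul_r h hinv j hb).symm)
      have hNpos : (0 : ℤ) < (N : ℤ) := by positivity
      obtain ⟨i', rfl⟩ : ∃ i', i = 2 * i' := hi.two_dvd
      obtain ⟨j', rfl⟩ := hj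
      refine ⟨((⟨a, ha⟩, ⟨(i' % N).toNat, ?_⟩), (⟨b, hb⟩, ⟨(j' % N).toNat, ?_⟩)), ?_⟩
      · have := Int.emod_lt_of_pos i' hNpos
        have := Int.emod_nonneg i' hNpos.ne'
        omega
      · have := Int.emod_lt_of_pos j' hNpos
        have := Int.emod_nonneg j' hNpos.ne'
        omega
      · refine Subtype.ext (Prod.ext ?_ ?_)
        · show a * d.r _ = a * d.r _
          congr 1
          rw [d.r_inj, hord, Int.toNat_of_nonneg (Int.emod_nonneg i' hNpos.ne'), Int.emod_def]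
          exact ⟨-(i' / N), by ring⟩
        · show b * d.r _ = b * d.r _
          congr 1
          rw [d.r_inj, hord, Int.toNat_of_nonneg (Int.emod_nonneg j' hNpos.ne'), Int.emod_def]
          exact ⟨-(j' / N), by ring⟩
  rw [← Nat.card_eq_of_bijective f hf', Nat.card_prod, Nat.card_prod, Nat.card_fin]
  ring

/-- The centralizer of the noncentral involution class. -/
structure Outer (d : DP (P : Subgroup G)) (K : Subgroup G) : Prop where
  odd : Odd (Nat.card K)
  inv : ∀ k ∈ K, d.z * k * d.z⁻¹ = k⁻¹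
  eq : centralizer ({d.r 1} : Set G) = K ⊔ d.TG 1

namespace Outer

variable (ho : Outer d K)
include ho

theorem commute_u {k : G} (hk : k ∈ K) : Commute (d.r 1) k :=
  (mem_centralizer_singleton_iff.1 (ho.eq ▸ mem_sup_left hk)).symm

theorem comm {a b : G} (ha : a ∈ K) (hb : b ∈ K) : Commute a b := by
  have h1 := ho.inv (a * b) (mul_mem ha hb)
  rw [conj_mul.symm, ho.inv a ha, ho.inv b hb, ← mul_inv_rev] at h1
  exact (inv_injective h1).symm

theorem eq_one_of_sq {k : G} (hk : k ∈ K) (h2 : k * k = 1) : k = 1 := by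
  obtain ⟨m, hm⟩ := ho.odd
  have := orderOf_dvd_iff_pow_eq_one.1 (Subgroup.orderOf_dvd_natCard K hk)
  rwa [hm, pow_succ, pow_mul, sq, h2, one_pow, one_mul] at this

theorem TG_le_normalizer : d.TG 1 ≤ normalizer (K : Set G) := by
  rw [DP.TG, closure_le]
  rintro e (rfl | rfl)
  · refine mem_normalizer_iff.2 fun k => ⟨fun hk => by rw [ho.inv k hk]; exact inv_mem hk,
      fun hk => ?_⟩
    have h1 : d.z * (d.z * k * d.z⁻¹) * d.z⁻¹ = k := by
      rw [invol_inv d.orderOf_z, show d.z * (d.z * k * d.z) * d.z = (d.z * d.z) * k * (d.z * d.z)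
        by group, invol_mul_self d.orderOf_z, one_mul, mul_one]
    rw [← h1, ho.inv _ hk]
    exact inv_mem hk
  · refine mem_normalizer_iff.2 fun k => ⟨fun hk => ?_, fun hk => ?_⟩
    · rwa [(ho.commute_u hk).eq, mul_inv_cancel_right]
    · have e := (ho.commute_u hk).eq
      rw [inv_mul_cancel_right] at e
      have : d.r 1 * k * (d.r 1)⁻¹ = k := by
        refine mul_left_cancel (a := d.r 1) ?_
        rw [e]
      rwa [← this]

theorem exists_mul {g : G} (hg : Commute (d.r 1) g) :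
    ∃ k ∈ K, ∃ e ∈ d.TG 1, g = k * e := by
  have hg' : g ∈ K ⊔ d.TG 1 := ho.eq ▸ mem_centralizer_singleton_iff.2 hg.eq.symm
  rw [← SetLike.mem_coe, coe_mul_of_right_le_normalizer_left _ _ ho.TG_le_normalizer] at hg'
  obtain ⟨k, hk, e, he, rfl⟩ := hg'
  exact ⟨k, hk, e, he, rfl⟩

theorem isConj_mul {e : G} (hinv' : ∀ k ∈ K, e * k * e⁻¹ = k⁻¹) {k : G} (hk : k ∈ K) :
    IsConj e (k * e) := by
  obtain ⟨m, hm⟩ := ho.odd
  have hpow : k ^ (2 * m + 1) = 1 := by
    have := orderOf_dvd_iff_pow_eq_one.1 (Subgroup.orderOf_dvd_natCard K hk)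
    rwa [hm] at this
  refine isConj_iff.2 ⟨k ^ (m + 1), ?_⟩
  have e1 : e * (k ^ (m + 1))⁻¹ * e⁻¹ = k ^ (m + 1) := by
    rw [hinv' _ (inv_mem (pow_mem hk _)), inv_inv]
  rw [show k ^ (m + 1) * e * (k ^ (m + 1))⁻¹ =
    k ^ (m + 1) * (e * (k ^ (m + 1))⁻¹ * e⁻¹) * e by group, e1, ← pow_add,
    show m + 1 + (m + 1) = (2 * m + 1) + 1 by ring, pow_add, hpow, one_mul, pow_one]

theorem inv_zu {k : G} (hk : k ∈ K) : d.z * d.r 1 * k * (d.z * d.r 1)⁻¹ = k⁻¹ := by
  rw [show d.z * d.r 1 * k * (d.z * d.r 1)⁻¹ = d.z * (d.r 1 * k * (d.r 1)⁻¹) * d.z⁻¹ by group,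
    (ho.commute_u hk).eq, mul_inv_cancel_right, ho.inv k hk]

theorem card_cent : Nat.card (centralizer ({d.r 1} : Set G)) = Nat.card K * 4 := by
  haveI := d.isKleinFour_TG 1
  have h4 : Nat.card (d.TG 1) = 4 := IsKleinFour.card_four
  let f : K × d.TG 1 → centralizer ({d.r 1} : Set G) := fun p =>
    ⟨(p.1 : G) * p.2, ho.eq ▸ mul_mem (mem_sup_left p.1.2) (mem_sup_right p.2.2)⟩
  have hf : Function.Bijective f := by
    refine ⟨?_, ?_⟩
    · rintro ⟨a, s⟩ ⟨b, t⟩ e
      have e' : (a : G) * s = b * t := congrArg Subtype.val e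
      have e1 : (b : G)⁻¹ * a = t * (s : G)⁻¹ :=
        calc (b : G)⁻¹ * a = (b : G)⁻¹ * (a * s) * (s : G)⁻¹ := by group
          _ = t * (s : G)⁻¹ := by rw [e']; group
      have hT : (b : G)⁻¹ * a ∈ d.TG 1 := e1 ▸ mul_mem t.2 (inv_mem s.2)
      have hab : a = b := Subtype.ext (inv_mul_eq_one.1
        (ho.eq_one_of_sq (mul_mem (inv_mem b.2) a.2) (klein_sq (d.isKleinFour_TG 1) hT))).symm
      subst hab
      exact Prod.ext rfl (Subtype.ext (mul_left_cancel e'))
    · rintro ⟨g, hg⟩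
      obtain ⟨k, hk, e, he, rfl⟩ := ho.exists_mul (mem_centralizer_singleton_iff.1 hg).symm
      exact ⟨(⟨k, hk⟩, ⟨e, he⟩), rfl⟩
  rw [← Nat.card_eq_of_bijective f hf, Nat.card_prod, h4]

theorem card_pairs_u (hn : 2 ≤ d.n) (hf : ¬ d.F2 0) (hns : d.F2 1) :
    Nat.card (Pairs d.z (d.r 1) (d.r 1)) = Nat.card K * Nat.card K := by
  classical
  have hnc : ¬ IsConj d.z (d.r 1) := fun e => d.r_not_isConj_z hns e.symm
  have hzu : IsConj (d.r 1) (d.z * d.r 1) := by
    rw [d.z_mul_r]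
    exact isConj_r _ 1 (by simpa using d.even_half (by omega))
  have hzuo : orderOf (d.z * d.r 1) = 2 := by rw [d.z_mul_r]; exact d.orderOf_r _
  -- involutions of the coset
  have hcases : ∀ g : G, orderOf g = 2 → Commute (d.r 1) g →
      g = d.r 1 ∨ ∃ k ∈ K, g = k * d.z ∨ g = k * (d.z * d.r 1) := by
    intro g hgo hc
    obtain ⟨k, hk, e, he, rfl⟩ := ho.exists_mul hc
    rcases d.mem_TG.1 he with rfl | rfl | rfl | rfl
    · rw [mul_one] at hgo ⊢
      exact absurd (ho.eq_one_of_sq hk (invol_mul_self hgo)) (invol_ne_one hgo)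
    · exact Or.inr ⟨k, hk, Or.inl rfl⟩
    · left
      have h2 := invol_mul_self hgo
      rw [(ho.commute_u hk).mul_mul_mul_comm k (d.r 1), invol_mul_self (d.orderOf_r 1),
        mul_one] at h2
      rw [ho.eq_one_of_sq hk h2, one_mul]
    · exact Or.inr ⟨k, hk, Or.inr rfl⟩
  let f : K × K → Pairs d.z (d.r 1) (d.r 1) := fun p =>
    ⟨((p.1 : G) * d.z, (p.2 : G) * (d.z * d.r 1)), by
      have hs := ho.isConj_mul ho.inv p.1.2
      have ht : IsConj (d.r 1) ((p.2 : G) * (d.z * d.r 1)) :=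
        hzu.trans (ho.isConj_mul (fun k hk => ho.inv_zu hk) p.2.2)
      have hso := isConj_invol hs d.orderOf_z
      have hto := isConj_invol ht (d.orderOf_r 1)
      have heven : Even (orderOf ((p.1 : G) * d.z * ((p.2 : G) * (d.z * d.r 1)))) := by
        by_contra h'
        exact hnc ((hs.trans (isConj_of_odd_prod hso hto (Nat.not_even_iff_odd.1 h'))).trans ht.symm)
      refine ⟨hs, ht, ?_⟩
      -- the product lies in `K × ⟨r 1⟩`, whose only involution is `r 1`
      have e : (p.1 : G) * d.z * ((p.2 : G) * (d.z * d.r 1)) =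
          ((p.1 : G) * (p.2 : G)⁻¹) * d.r 1 := by
        rw [← ho.inv p.2 p.2.2, invol_inv d.orderOf_z]; group
      have hk := mul_mem p.1.2 (inv_mem p.2.2)
      have hw := half_invol heven
      rw [half, e] at *
      set m := orderOf ((p.1 : G) * (p.2 : G)⁻¹ * d.r 1) / 2
      rw [(ho.commute_u hk).symm.mul_pow] at hw ⊢
      rcases Nat.even_or_odd m with ⟨l, hl⟩ | ⟨l, hl⟩
      · have hu : d.r 1 ^ m = 1 := by
          rw [hl, ← two_mul, pow_mul, sq, invol_mul_self (d.orderOf_r 1), one_pow]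
        rw [hu, mul_one] at hw
        exact absurd (ho.eq_one_of_sq (pow_mem hk m) (invol_mul_self hw)) (invol_ne_one hw)
      · have hu : d.r 1 ^ m = d.r 1 := by
          rw [hl, pow_succ, pow_mul, sq, invol_mul_self (d.orderOf_r 1), one_pow, one_mul]
        rw [hu] at hw ⊢
        have h2 := invol_mul_self hw
        rw [(ho.commute_u (pow_mem hk m)).mul_mul_mul_comm _ (d.r 1),
          invol_mul_self (d.orderOf_r 1), mul_one] at h2
        rw [ho.eq_one_of_sq (pow_mem hk m) h2, one_mul]⟩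
  have hf' : Function.Bijective f := by
    constructor
    · rintro ⟨a, b⟩ ⟨a', b'⟩ e
      obtain ⟨e1, e2⟩ := Prod.ext_iff.1 (congrArg Subtype.val e)
      exact Prod.ext (Subtype.ext (mul_right_cancel e1)) (Subtype.ext (mul_right_cancel e2))
    · rintro ⟨⟨s, t⟩, hs, ht, hw⟩
      have hso := isConj_invol hs d.orderOf_z
      have hto := isConj_invol ht (d.orderOf_r 1)
      have heven : Even (orderOf (s * t)) := by
        by_contra h'
        exact hnc ((hs.trans (isConj_of_odd_prod hso hto (Nat.not_even_iff_odd.1 h'))).trans ht.symm)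
      have hcs : Commute (d.r 1) s := hw ▸ half_comm_left hso hto heven
      have hct : Commute (d.r 1) t := hw ▸ half_comm_right hso hto heven
      have hS : ∃ k ∈ K, s = k * d.z := by
        rcases hcases s hso hcs with rfl | ⟨k, hk, rfl | rfl⟩
        · exact absurd hs hnc
        · exact ⟨k, hk, rfl⟩
        · exact absurd (hs.trans (ho.isConj_mul (fun k hk => ho.inv_zu hk) hk).symm |>.trans hzu.symm) hnc
      obtain ⟨k, hk, rfl⟩ := hS
      have hT : ∃ k ∈ K, t = k * (d.z * d.r 1) := by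
        rcases hcases t hto hct with rfl | ⟨l, hl, rfl | rfl⟩
        · exfalso
          have h2 : orderOf (k * d.z * d.r 1) = 2 := by
            rw [mul_assoc]
            exact isConj_invol (ho.isConj_mul (fun k hk => ho.inv_zu hk) hk) hzuo
          have hw' : (k * d.z * d.r 1) ^ (orderOf (k * d.z * d.r 1) / 2) = d.r 1 := hw
          rw [h2, Nat.div_self two_pos, pow_one] at hw'
          exact invol_ne_one hso (mul_eq_right.1 hw')
        · exact absurd ((ho.isConj_mul ho.inv hl).trans ht.symm) hnc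
        · exact ⟨l, hl, rfl⟩
      obtain ⟨l, hl, rfl⟩ := hT
      exact ⟨(⟨k, hk⟩, ⟨l, hl⟩), rfl⟩
  rw [← Nat.card_eq_of_bijective f hf', Nat.card_prod]

end Outer

include h hinv in
/-- The order of a group with two classes of involutions. -/
theorem card_two (ho : Outer d K) (hn : 2 ≤ d.n) (hf : ¬ d.F2 0) (hns : d.F2 1) :
    Nat.card G = 4 * Nat.card K * (2 ^ (d.n - 1) * Nat.card R) *
      (2 ^ (d.n - 1) * Nat.card R + Nat.card K) := by
  have hnc : ¬ IsConj d.z (d.r 1) := fun e => d.r_not_isConj_z hns e.symm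
  rw [thompson_formula d.orderOf_z (d.orderOf_r 1) hnc (fun t ht => cases_invol hf ht),
    card_pairs_z h hinv hn hf hns, ho.card_pairs_u hn hf hns, ho.card_cent, h.card_cent, d.card_eq,
    show (2 : ℕ) ^ d.n = 2 * 2 ^ (d.n - 1) by rw [← pow_succ', show d.n - 1 + 1 = d.n by omega]]
  ring

end CfsgLib.DGroup
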