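import Cfsg.Agent.Lib.DGroup.Shift
import Cfsg.Agent.Lib.DGroup.Two
import Cfsg.Agent.Lib.DGroup.IndexTwo
import Cfsg.Agent.Lib.DGroup.Config

/-!
# No fusion in proper subgroups containing `C(z)`
-/

set_option autoImplicit false
set_option linter.unusedSectionVars false
set_option linter.style.haveILetI false

namespace CfsgLib.DGroup

open Subgroup CfsgLib.Involutions

universe u

variable {G : Type u} [Group G] [Finite G] {P : Sylow 2 G} {d : DP (P : Subgroup G)} {R : Subgroup G}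

theorem not_F2_of_simple [IsSimpleGroup G] (hna : ¬ IsMulCommutative G)
    (d : DP (P : Subgroup G)) (i : ℤ) : ¬ d.F2 i := fun hF => by
  obtain ⟨H, hH⟩ := d.exists_index_two hF
  rcases (Subgroup.normal_of_index_eq_two hH).eq_bot_or_eq_top with e | e
  · rw [e, Subgroup.index_bot] at hH
    haveI : Fact (Nat.Prime 2) := ⟨Nat.prime_two⟩
    haveI := isCyclic_of_prime_card hH
    exact hna IsCyclic.isMulCommutative
  · rw [e, Subgroup.index_top] at hH; omega

theorem le_normalizer_zpowers_of_commute' {a b : G} (hab : Commute a b) :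
    a ∈ normalizer (zpowers b : Set G) :=
  centralizer_le_normalizer _ (by
    rw [mem_centralizer_iff]
    rintro _ ⟨k, rfl⟩
    exact (hab.zpow_right k).eq.symm)

theorem eq_one_of_odd_of_mem_two {T : Subgroup G} (hT : IsPGroup 2 T) {g : G} (hg : g ∈ T)
    (ho : Odd (orderOf g)) : g = 1 := by
  obtain ⟨k, hk⟩ := IsPGroup.iff_orderOf.1 hT ⟨g, hg⟩
  rw [Subgroup.orderOf_mk] at hk
  rw [← orderOf_eq_one_iff, hk]
  rw [hk] at ho
  rcases k with _ | k
  · rfl
  · exact absurd ho (by simp [Nat.odd_pow_iff])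

namespace Cen

variable (h : Cen d R)
include h

theorem commute_P {a : G} (ha : a ∈ R) (hy : Commute a d.y) {s : G} (hs : s ∈ (P : Subgroup G)) :
    Commute a s := by
  rcases d.cover s hs with ⟨i, rfl⟩ | ⟨i, rfl⟩
  · exact ((h.cent_x a ha).zpow_left i).symm
  · exact h.commute_r_of_commute_y i ha hy

theorem eq_cent_of_sixty {M : Subgroup G} (hC : centralizer ({d.z} : Set G) ≤ M)
    (h60 : Nat.card G = 60) (hi : M.index = 5) (hR : R ≠ ⊥) :
    centralizer ({d.z} : Set G) = M ∧ Nat.card R = 3 := by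
  have hM : Nat.card M = 12 := by
    have := M.card_mul_index
    rw [hi, h60] at this
    omega
  have hdvd := card_dvd_of_le hC
  rw [hM, h.card_cent, d.card_eq] at hdvd
  have hR1 : Nat.card R ≠ 1 := fun e => hR (Subgroup.eq_bot_of_card_eq R e)
  have hn1 : d.n = 1 := by
    by_contra hne
    have h8 : 8 ∣ 12 := by
      refine (Dvd.dvd.mul_left ?_ (Nat.card R)).trans hdvd
      rw [show (8 : ℕ) = 2 * 2 ^ 2 from rfl]
      exact mul_dvd_mul_left 2 (pow_dvd_pow 2 (by have := d.one_le; omega))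
    omega
  rw [hn1] at hdvd
  have hR3 : Nat.card R ∣ 3 := by
    obtain ⟨k, hk⟩ := hdvd
    exact ⟨k, by rw [mul_assoc] at hk; linarith⟩
  have hR3' : Nat.card R = 3 := ((Nat.dvd_prime Nat.prime_three).1 hR3).resolve_left hR1
  refine ⟨eq_of_le_of_card_ge hC ?_, hR3'⟩
  rw [hM, h.card_cent, d.card_eq, hn1, hR3']
  norm_num

variable [IsSimpleGroup G] (hna : ¬ IsMulCommutative G)
include hna

theorem centralizer_z_ne_top : centralizer ({d.z} : Set G) ≠ ⊤ := fun e => by
  have hz : d.z ∈ center G := mem_center_iff.2 fun g =>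
    mem_centralizer_singleton_iff.1 (e ▸ mem_top g)
  rcases (inferInstance : (center G).Normal).eq_bot_or_eq_top with e' | e'
  · exact invol_ne_one d.orderOf_z (mem_bot.1 (e' ▸ hz))
  · exact hna ⟨⟨fun a b => mem_center_iff.1 (e' ▸ mem_top b) a⟩⟩

/-- `y` inverts `R`. -/
theorem inv_y {a : G} (ha : a ∈ R) : d.y * a * d.y⁻¹ = a⁻¹ := by
  suffices hbot : R ⊓ centralizer ({d.y} : Set G) = ⊥ by
    set b := d.y * a * d.y⁻¹ with hb
    have hbR := h.conj_y a ha
    have hyy := invol_mul_self d.orderOf_y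
    have hc : Commute d.y (a * b) := by
      refine mul_inv_eq_iff_eq_mul.1 ?_
      rw [show d.y * (a * b) * d.y⁻¹ = b * ((d.y * d.y) * a * (d.y * d.y)⁻¹) by rw [hb]; group, hyy,
        one_mul, inv_one, mul_one]
      exact (h.comm b hbR a ha).eq
    have : a * b ∈ R ⊓ centralizer ({d.y} : Set G) :=
      ⟨mul_mem ha hbR, mem_centralizer_singleton_iff.2 hc.eq.symm⟩
    rw [hbot, mem_bot] at this
    exact eq_inv_of_mul_eq_one_right this
  by_contra hne
  set R₀ := R ⊓ centralizer ({d.y} : Set G) with hR₀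
  have hR₀c : ∀ a ∈ R₀, a ∈ R ∧ Commute a d.y := fun a ha =>
    ⟨ha.1, mem_centralizer_singleton_iff.1 ha.2⟩
  have hC : centralizer ({d.z} : Set G) ≤ normalizer (R₀ : Set G) := by
    rw [h.eq]
    refine le_trans (sup_le (fun b hb => ?_) fun s hs => ?_) (centralizer_le_normalizer _)
    · exact mem_centralizer_iff.2 fun c hc => (h.comm c (hR₀c c hc).1 b hb).eq
    · exact mem_centralizer_iff.2 fun c hc => (h.commute_P (hR₀c c hc).1 (hR₀c c hc).2 hs).eq
  have hMtop : normalizer (R₀ : Set G) ≠ ⊤ := fun e => by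
    rcases (normalizer_eq_top_iff.1 e).eq_bot_or_eq_top with e' | e'
    · exact hne e'
    · refine hna ⟨⟨fun b c => ?_⟩⟩
      exact (h.comm b (hR₀c b (e' ▸ mem_top b)).1 c (hR₀c c (e' ▸ mem_top c)).1).eq
  have hfus : ∀ i, Fused d (normalizer (R₀ : Set G)) i := by
    intro i
    have hf := not_F2_of_simple hna d i
    simp only [DP.F2, not_forall] at hf
    obtain ⟨y, hy, hodd, b, hb, hc⟩ := hf
    refine ⟨y, ?_, hy, hodd, b, hb, hc⟩
    rw [mem_normalizer_iff_map_conj_eq]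
    refine eq_of_le_of_card_ge ?_ (card_map_of_injective (MulAut.conj y).injective).ge
    rintro _ ⟨c, hc', rfl⟩
    obtain ⟨hcR, hcy⟩ := hR₀c c hc'
    have key : ∀ v ∈ d.TG i, Commute v (y * c * y⁻¹) := by
      intro v hv
      have hv' : y⁻¹ * v * y ∈ d.TG i := by
        have := (mem_normalizer_iff.1 (inv_mem hy) v).1 hv
        simpa using this
      have := (h.commute_P hcR hcy (d.TG_le i hv')).symm.map (MulAut.conj y).toMonoidHom
      simpa [mul_assoc] using this
    show y * c * y⁻¹ ∈ R₀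
    have hco : Odd (orderOf (y * c * y⁻¹)) := by
      rw [show y * c * y⁻¹ = MulAut.conj y c from rfl, MulEquiv.orderOf_eq]
      exact h.odd_of_mem hcR
    have hR' := h.mem_R hco (key _ (d.z_mem_TG i))
    exact ⟨hR', mem_centralizer_singleton_iff.2
      (h.commute_y_of_commute_r i hR' (key _ (d.r_mem_TG i)).symm).eq⟩
  obtain ⟨h60, hidx⟩ := h.card_eq_sixty hna (not_F2_of_simple hna d) hMtop hC hfus
  have hR : R ≠ ⊥ := fun e => hne (le_bot_iff.1 (inf_le_left.trans e.le))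
  obtain ⟨hCM, hR3⟩ := h.eq_cent_of_sixty hC h60 hidx hR
  obtain ⟨y, hy, hn, hodd, b, hb, hc⟩ := hfus 0
  rw [← hCM] at hy
  have hyR := h.mem_R hodd (mem_centralizer_singleton_iff.1 hy).symm
  have hR₀R : R₀ = R := by
    haveI : Fact (Nat.Prime 3) := ⟨Nat.prime_three⟩
    refine eq_of_le_of_card_ge inf_le_left ?_
    rcases (Nat.dvd_prime Nat.prime_three).1 (hR3 ▸ card_dvd_of_le (inf_le_left : R₀ ≤ R)) with e | e
    · exact absurd (Subgroup.eq_bot_of_card_eq _ e) hne
    · rw [e, hR3]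
  exact hc (h.commute_P hyR (hR₀c y (hR₀R.symm ▸ hyR)).2 (d.TG_le 0 hb))

theorem not_fused_cent (i : ℤ) : ¬ Fused d (centralizer ({d.z} : Set G)) i := by
  rintro ⟨y, hy, hn, hodd, b, hb, hc⟩
  have hyR := h.mem_R hodd (mem_centralizer_singleton_iff.1 hy).symm
  have e : d.r i * y * (d.r i)⁻¹ = y⁻¹ := by rw [h.r_conj_eq i hyR, h.inv_y hna hyR]
  have hm := d.TG_le i ((mem_normalizer_iff.1 hn _).1 (d.r_mem_TG i))
  have hm2 : y * d.r i * y⁻¹ * (d.r i)⁻¹ ∈ (P : Subgroup G) := mul_mem hm (inv_mem (d.r_mem i))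
  rw [show y * d.r i * y⁻¹ * (d.r i)⁻¹ = y * (d.r i * y * (d.r i)⁻¹)⁻¹ by group, e, inv_inv] at hm2
  have h2 := h.disjoint (mul_mem hyR hyR) hm2
  have hy1 := eq_one_of_mul_self (h.odd_of_mem hyR) h2
  exact hc (hy1 ▸ Commute.one_left b)

theorem false_of_all {M : Subgroup G} (hMtop : M ≠ ⊤) (hC : centralizer ({d.z} : Set G) ≤ M)
    (hR : R ≠ ⊥) (hfus : ∀ i, Fused d M i) : False := by
  obtain ⟨h60, hidx⟩ := h.card_eq_sixty hna (not_F2_of_simple hna d) hMtop hC hfus
  obtain ⟨hCM, -⟩ := h.eq_cent_of_sixty hC h60 hidx hR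
  exact h.not_fused_cent hna 0 (hCM.symm ▸ hfus 0)

end Cen

theorem outer_bound {b k N : ℕ} (hN : 2 ≤ N) (hb : 0 < b) (hk : k ≤ b)
    (hle : 3 * N ^ 2 * b ^ 2 ≤ 4 * k * (N * b + k)) : N = 2 ∧ k = b := by
  have h1 : 4 * k * (N * b + k) ≤ 4 * b * (N * b + b) :=
    Nat.mul_le_mul (Nat.mul_le_mul_left 4 hk) (Nat.add_le_add_left hk _)
  have h2 : 3 * N ^ 2 * b ^ 2 ≤ (4 * N + 4) * b ^ 2 := by
    refine (hle.trans h1).trans (le_of_eq ?_)
    ring
  have h3 : 3 * N ^ 2 ≤ 4 * N + 4 := Nat.le_of_mul_le_mul_right h2 (pow_pos hb 2)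
  have hN2 : N = 2 := by nlinarith
  subst hN2
  refine ⟨rfl, le_antisymm hk ?_⟩
  by_contra hlt
  push Not at hlt
  nlinarith

theorem Cen.false_of_mixed [IsSimpleGroup G] (h : Cen d R) (hna : ¬ IsMulCommutative G)
    {M : Subgroup G} (hMtop : M ≠ ⊤) (hC : centralizer ({d.z} : Set G) ≤ M) (hR : R ≠ ⊥)
    (h0 : Fused d M 0) (h1 : ¬ Fused d M 1) : False := by
  classical
  have hT := not_F2_of_simple hna d
  have hinv := fun a ha => h.inv_y hna (a := a) ha
  have hn : 2 ≤ d.n := by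
    by_contra hne
    have : d.n = 1 := by have := d.one_le; omega
    exact h1 (h0.even d (h.x_mem hC) (Or.inr this))
  have hPM : (P : Subgroup G) ≤ M := h.P_le.trans hC
  have hRM : R ≤ M := h.R_le.trans hC
  set d' := subDP d hPM with hd'
  have h' : Cen d' (R.subgroupOf M) := h.sub hPM hRM
  have hf : ¬ d'.F2 0 := (not_F2_subDP_iff d hPM 0).2 h0
  have hns : d'.F2 1 := by
    by_contra hF
    exact h1 ((not_F2_subDP_iff d hPM 1).1 hF)
  have hinv' : ∀ a ∈ R.subgroupOf M, d'.y * a * d'.y⁻¹ = a⁻¹ := fun a ha => Subtype.ext (hinv _ ha)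
  set uu := d.r 1 with huu
  obtain ⟨g, hg⟩ := isConj_iff.1 (d.isConj_z hT (d.orderOf_r 1))
  set K₁ := R.map (MulAut.conj g).toMonoidHom with hK₁
  have hmemK : ∀ {v : G}, Odd (orderOf v) → Commute uu v → v ∈ K₁ := by
    intro v hv hc
    refine ⟨g⁻¹ * v * g, h.mem_R ?_ ?_, by show g * (g⁻¹ * v * g) * g⁻¹ = v; group⟩
    · rwa [show g⁻¹ * v * g = MulAut.conj g⁻¹ v by simp, MulEquiv.orderOf_eq]
    · have := hc.map (MulAut.conj g⁻¹).toMonoidHom
      rw [huu, ← hg] at this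
      simpa [mul_assoc] using this
  have hKu : ∀ v ∈ K₁, Commute uu v ∧ Odd (orderOf v) ∧ d.z * v * d.z⁻¹ = v⁻¹ := by
    rintro _ ⟨a, ha, rfl⟩
    refine ⟨?_, ?_, ?_⟩
    · rw [huu, ← hg]
      exact (h.commute_z ha).map (MulAut.conj g).toMonoidHom
    · show Odd (orderOf (MulAut.conj g a))
      rw [MulEquiv.orderOf_eq]
      exact h.odd_of_mem ha
    · set w := g⁻¹ * d.z * g with hw
      have hwo : orderOf w = 2 := by
        rw [hw, show g⁻¹ * d.z * g = MulAut.conj g⁻¹ d.z by simp, MulEquiv.orderOf_eq]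
        exact d.orderOf_z
      have hwc : Commute d.z w := by
        have := (d.commute_z (d.r_mem 1)).symm.map (MulAut.conj g⁻¹).toMonoidHom
        rw [← hg] at this
        simpa [hw, mul_assoc] using this
      have hwz : w ≠ d.z := fun e => d.z_ne_r 1 (by
        rw [← hg]
        calc d.z = g * w * g⁻¹ := by rw [hw]; group
          _ = g * d.z * g⁻¹ := by rw [e])
      obtain ⟨b, hb, i, hbi⟩ := (invol_cent h hwo hwc).resolve_left hwz
      show d.z * (g * a * g⁻¹) * d.z⁻¹ = (g * a * g⁻¹)⁻¹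
      rw [show d.z * (g * a * g⁻¹) * d.z⁻¹ = g * (w * a * w⁻¹) * g⁻¹ by rw [hw]; group, hbi,
        show b * d.r i * a * (b * d.r i)⁻¹ = b * (d.r i * a * (d.r i)⁻¹) * b⁻¹ by group,
        h.r_conj_eq i ha, hinv a ha, (h.comm b hb a⁻¹ (inv_mem ha)).eq, mul_inv_cancel_right]
      group
  -- the centralizer of `r 1` in `M`
  set C' := M ⊓ centralizer ({uu} : Set G) with hC'
  set K := K₁ ⊓ M with hK
  have hKC : K ≤ C' := fun v hv => ⟨hv.2, mem_centralizer_singleton_iff.2 (hKu v hv.1).1.eq.symm⟩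
  have hTC : d.TG 1 ≤ C' := fun t ht => ⟨hPM (d.TG_le 1 ht), mem_centralizer_singleton_iff.2
    (klein_comm (d.isKleinFour_TG 1) ht (d.r_mem_TG 1))⟩
  have hKodd : Odd (Nat.card K) := by
    refine Odd.of_dvd_nat ?_ (card_dvd_of_le (inf_le_left : K ≤ K₁))
    rw [hK₁, card_map_of_injective (MulAut.conj g).injective]
    exact h.odd
  have hC'n : C' ≤ normalizer (K₁ : Set G) := by
    intro c hc
    rw [mem_normalizer_iff_map_conj_eq]
    refine eq_of_le_of_card_ge ?_ (card_map_of_injective (MulAut.conj c).injective).ge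
    rintro _ ⟨v, hv, rfl⟩
    obtain ⟨h1', h2', -⟩ := hKu v hv
    refine hmemK ?_ ?_
    · show Odd (orderOf (MulAut.conj c v))
      rwa [MulEquiv.orderOf_eq]
    · show Commute uu (c * v * c⁻¹)
      have hcu : Commute c uu := mem_centralizer_singleton_iff.1 hc.2
      exact (hcu.symm.mul_right h1').mul_right hcu.symm.inv_right
  have hdvd : Nat.card C' ∣ Nat.card (P : Subgroup G) * Nat.card K := by
    have hle : C' ⊔ K₁ ≤ centralizer ({uu} : Set G) :=
      sup_le inf_le_right fun v hv => mem_centralizer_singleton_iff.2 (hKu v hv).1.eq.symm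
    have hcu : Nat.card (centralizer ({uu} : Set G)) = Nat.card R * Nat.card (P : Subgroup G) := by
      rw [← h.card_cent]
      refine (Nat.card_congr ((MulAut.conj g).toEquiv.subtypeEquiv fun v => ?_)).symm
      show v ∈ centralizer ({d.z} : Set G) ↔ MulAut.conj g v ∈ centralizer ({uu} : Set G)
      rw [mem_centralizer_singleton_iff, mem_centralizer_singleton_iff, huu, ← hg]
      show v * d.z = d.z * v ↔ _
      rw [MulAut.conj_apply, show g * v * g⁻¹ * (g * d.z * g⁻¹) = g * (v * d.z) * g⁻¹ by group,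
        show g * d.z * g⁻¹ * (g * v * g⁻¹) = g * (d.z * v) * g⁻¹ by group]
      exact ⟨fun e => by rw [e], fun e => conj_injective e⟩
    have e := CfsgLib.Coprime.card_sup_mul_card_inf hC'n
    have hinf : C' ⊓ K₁ = K := le_antisymm (fun v hv => ⟨hv.2, hv.1.1⟩) fun v hv => ⟨hKC hv, hv.1⟩
    rw [hinf] at e
    have hcK : Nat.card K₁ = Nat.card R := card_map_of_injective (MulAut.conj g).injective
    obtain ⟨m, hm⟩ := card_dvd_of_le hle
    rw [hcu] at hm
    refine ⟨m, Nat.eq_of_mul_eq_mul_left (Nat.card_pos (α := R)) ?_⟩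
    calc Nat.card R * (Nat.card (P : Subgroup G) * Nat.card K)
        = Nat.card (C' ⊔ K₁ : Subgroup G) * Nat.card K * m := by rw [← mul_assoc, hm]; ring
      _ = Nat.card R * (Nat.card C' * m) := by rw [e, hcK]; ring
  have h8 : ¬ 8 ∣ Nat.card C' := by
    intro h8
    haveI : Fact (Nat.Prime 2) := ⟨Nat.prime_two⟩
    have hu' : (⟨uu, hPM (d.r_mem 1)⟩ : M) = d'.r 1 := Subtype.ext (coe_subDP_r d hPM 1).symm
    obtain ⟨T, hT8⟩ := Sylow.exists_subgroup_card_pow_prime (G := C') 2 (n := 3) h8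
    set T₀ := T.map C'.subtype ⊔ zpowers uu
    have hTu : T.map C'.subtype ≤ centralizer ({uu} : Set G) :=
      (map_subtype_le _).trans inf_le_right
    have hTp : IsPGroup 2 T₀ := by
      refine IsPGroup.to_sup_of_normal_right' ((IsPGroup.of_card hT8).map _)
        (IsPGroup.of_card (n := 1) (by rw [Nat.card_zpowers, d.orderOf_r 1, pow_one])) ?_
      intro t ht
      exact le_normalizer_zpowers_of_commute' (mem_centralizer_singleton_iff.1 (hTu ht))
    have hT₀M : T₀ ≤ M := sup_le ((map_subtype_le _).trans inf_le_left) (zpowers_le.2 (hPM (d.r_mem 1)))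
    obtain ⟨Q, hQ⟩ := (hTp.of_equiv (subgroupOfEquivOfLe hT₀M).symm).exists_le_sylow
    obtain ⟨m, hm⟩ := MulAction.exists_smul_eq M Q (P.subtype hPM)
    have hcon : ∀ t : M, (t : G) ∈ T₀ → m * t * m⁻¹ ∈ ((P.subtype hPM : Sylow 2 M) : Subgroup M) :=
      fun t ht => by
        rw [← hm, Sylow.coe_subgroup_smul]
        exact ⟨t, hQ (mem_subgroupOf.2 ht), rfl⟩
    have huP := hcon ⟨uu, hPM (d.r_mem 1)⟩ (mem_sup_right (mem_zpowers _))
    rw [hu'] at huP
    have hmo : orderOf (m * d'.r 1 * m⁻¹) = 2 := conj_invol m (d'.orderOf_r 1)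
    rcases d'.cover _ huP with ⟨i, hi⟩ | ⟨i, hi⟩
    · have hsq := invol_mul_self hmo
      rw [hi] at hmo hsq
      rw [← zpow_add, d'.zpow_eq_one, ← two_mul] at hsq
      have := (d'.zpow_of_half_dvd ((Int.mul_dvd_mul_iff_left two_ne_zero).1 hsq)).resolve_left
        (invol_ne_one hmo)
      exact d'.r_not_isConj_z hns (isConj_iff.2 ⟨m, hi.trans this⟩)
    · have hle : (T₀.subgroupOf M).map (MulAut.conj m).toMonoidHom ≤ d'.TG i := by
        rintro _ ⟨t, ht, rfl⟩
        refine d'.mem_TG_of_commute (hcon t ht) ?_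
        rw [show d'.r i = m * d'.r 1 * m⁻¹ from hi.symm]
        refine Commute.map (?_ : Commute t (d'.r 1)) (MulAut.conj m).toMonoidHom
        refine Subtype.ext ?_
        rw [Subgroup.coe_mul, Subgroup.coe_mul, ← hu']
        have ht' : (t : G) ∈ centralizer ({uu} : Set G) :=
          (sup_le hTu (zpowers_le.2 (mem_centralizer_singleton_iff.2 rfl))) (mem_subgroupOf.1 ht)
        exact mem_centralizer_singleton_iff.1 ht'
      have hc4 := Nat.le_of_dvd Nat.card_pos (card_dvd_of_le hle)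
      rw [card_map_of_injective (MulAut.conj m).injective,
        Nat.card_congr (subgroupOfEquivOfLe hT₀M).toEquiv, (d'.isKleinFour_TG i).card_four] at hc4
      have h88 : Nat.card (T.map C'.subtype) ≤ Nat.card T₀ :=
        Nat.le_of_dvd Nat.card_pos (card_dvd_of_le le_sup_left)
      rw [card_map_of_injective C'.subtype_injective, hT8] at h88
      omega
  -- so `C' = K ⊔ TG 1`
  have hnK : d.TG 1 ≤ normalizer (K : Set G) :=
    CfsgLib.Coprime.le_normalizer_inf_inf (hTC.trans hC'n)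
      (((d.TG_le 1).trans hPM).trans Subgroup.le_normalizer)
  have hcard4 : Nat.card (d.TG 1 ⊔ K : Subgroup G) = 4 * Nat.card K := by
    rw [CfsgLib.Coprime.card_sup_of_inf_eq_bot hnK, (d.isKleinFour_TG 1).card_four]
    refine CfsgLib.Coprime.inf_eq_bot_of_coprime ?_
    rw [(d.isKleinFour_TG 1).card_four, show (4 : ℕ) = 2 ^ 2 from rfl]
    exact (Nat.coprime_two_left.2 hKodd).pow_left 2
  have hC'eq : C' = K ⊔ d.TG 1 := by
    refine (eq_of_le_of_card_ge (sup_le hKC hTC) ?_).symm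
    rw [sup_comm, hcard4]
    refine Nat.le_of_dvd (by have := Nat.card_pos (α := K); omega) ?_
    obtain ⟨a, b, ha, hb, hab⟩ := Nat.dvd_mul.1 hdvd
    rw [d.card_eq, ← pow_succ'] at ha
    obtain ⟨e, he, rfl⟩ := (Nat.dvd_prime_pow Nat.prime_two).1 ha
    have he2 : e ≤ 2 := by
      by_contra hlt
      exact h8 (hab ▸ (pow_dvd_pow 2 (by omega : 3 ≤ e)).mul_right b)
    rw [← hab]
    exact mul_dvd_mul (pow_dvd_pow 2 he2) hb
  have ho : Outer d' (K.subgroupOf M) := by
    refine ⟨?_, ?_, ?_⟩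
    · rw [Nat.card_congr (subgroupOfEquivOfLe inf_le_right).toEquiv]
      exact hKodd
    · intro k hk
      refine Subtype.ext ?_
      rw [Subgroup.coe_mul, Subgroup.coe_mul, Subgroup.coe_inv, Subgroup.coe_inv,
        coe_subDP_z d hPM]
      exact (hKu _ (mem_subgroupOf.1 hk).1).2.2
    · have e1 : centralizer ({d'.r 1} : Set M) = C'.subgroupOf M := by
        ext v
        rw [mem_centralizer_singleton_iff, mem_subgroupOf, hC', mem_inf,
          mem_centralizer_singleton_iff, huu, ← coe_subDP_r d hPM 1, Subtype.ext_iff]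
        exact ⟨fun e => ⟨v.2, e⟩, fun e => e.2⟩
      have e2 : (d.TG 1).subgroupOf M = d'.TG 1 := by
        ext v
        rw [mem_subgroupOf, mem_subDP_TG d hPM]
      rw [e1, hC'eq, subgroupOf_sup inf_le_right ((d.TG_le 1).trans hPM), e2]
  have hM2 := card_two h' hinv' ho (show 2 ≤ d'.n from hn) hf hns
  rw [Nat.card_congr (subgroupOfEquivOfLe (inf_le_right : K ≤ M)).toEquiv,
    Nat.card_congr (subgroupOfEquivOfLe hRM).toEquiv, show d'.n = d.n from rfl] at hM2
  have hkb : Nat.card K ≤ Nat.card R := by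
    have ec : Nat.card K₁ = Nat.card R := card_map_of_injective (MulAut.conj g).injective
    rw [← ec]
    exact Nat.le_of_dvd Nat.card_pos (card_dvd_of_le (inf_le_left : K ≤ K₁))
  -- the subgroup of index two
  obtain ⟨H, hH⟩ := d'.exists_index_two hns
  haveI hHn := Subgroup.normal_of_index_eq_two hH
  have hzH : d'.z ∈ H := by
    show d'.x ^ d'.half ∈ H
    obtain ⟨q, hq⟩ := d'.even_half (show d'.n ≠ 1 by rw [show d'.n = d.n from rfl]; omega)
    rw [hq, zpow_add, mul_mem_iff_of_index_two hH]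
  have hr0H : d'.r 0 ∈ H := by
    obtain ⟨c, -, -, hc, -⟩ := d'.exists_cycle hf
    rw [← hc]
    exact hHn.conj_mem _ hzH c
  have hyH : d'.y ∈ H := by
    have : d'.r 0 = d'.y := by show d'.x ^ (0 : ℤ) * d'.y = d'.y; rw [zpow_zero, one_mul]
    exact this ▸ hr0H
  have hxH : d'.x ∉ H := fun hx => index_ne_two_of_sylow_le' _ (fun a ha => by
    rcases d'.cover a ha with ⟨i, rfl⟩ | ⟨i, rfl⟩
    · exact zpow_mem hx i
    · exact mul_mem (zpow_mem hx i) hyH) hH
  have e : Even2 d' H := ⟨hH, hxH, hyH, hn⟩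
  set d2 := evenDP e with hd2
  have h2 : Cen d2 ((R.subgroupOf M).subgroupOf H) := Cen.even e h'
  have hT2 : ∀ i, ¬ d2.F2 i := fun i => not_F2_evenDP e ((not_F2_subDP_iff d hPM _).2
    (h0.even d (h.x_mem hC) (Or.inl ⟨i, by ring⟩)))
  have hcz2 : cz d2 = Nat.card R * (2 * 2 ^ (d.n - 1)) := by
    rw [cz, h2.card_cent, d2.card_eq,
      Nat.card_congr (subgroupOfEquivOfLe (Cen.R_le_even e h')).toEquiv,
      Nat.card_congr (subgroupOfEquivOfLe hRM).toEquiv]
    rfl
  have hce2 : ce d2 = 4 := by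
    rw [ce, h2.card_pair 0, Nat.mul_eq_left (by norm_num)]
    refine Subgroup.card_eq_one.2 (eq_bot_iff.2 fun v hv => mem_bot.2 ?_)
    obtain ⟨hv1, hv2⟩ := mem_inf.1 hv
    have hv2' : ((v : M) : G) * d.y = d.y * ((v : M) : G) :=
      congrArg (fun w : H => ((w : M) : G)) (mem_centralizer_singleton_iff.1 hv2)
    have hi : d.y * ((v : M) : G) * d.y⁻¹ = ((v : M) : G)⁻¹ := hinv _ hv1
    rw [← hv2', mul_inv_cancel_right] at hi
    exact Subtype.ext (Subtype.ext (eq_one_of_inv_eq (h.odd_of_mem hv1) hi.symm))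
  have hHM : Nat.card M = 2 * Nat.card H := by
    rw [← H.card_mul_index, hH, mul_comm]
  obtain ⟨hlo, -⟩ := h2.bounds hT2
  rw [hcz2, hce2] at hlo
  set N := 2 ^ (d.n - 1) with hN
  set b := Nat.card R
  set k := Nat.card K
  have hb : 0 < b := Nat.card_pos
  have hN2' : 2 ≤ N := by
    rw [hN]; calc 2 = 2 ^ 1 := rfl
      _ ≤ 2 ^ (d.n - 1) := Nat.pow_le_pow_right two_pos (by omega)
  have hle : 3 * N ^ 2 * b ^ 2 ≤ 4 * k * (N * b + k) := by
    refine Nat.le_of_mul_le_mul_left ?_ (show 0 < 8 * (N * b) by positivity)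
    calc 8 * (N * b) * (3 * N ^ 2 * b ^ 2) = 3 * (b * (2 * N)) ^ 3 := by ring
      _ ≤ Nat.card H * 4 ^ 2 := hlo
      _ = 8 * (2 * Nat.card H) := by ring
      _ = 8 * (N * b) * (4 * k * (N * b + k)) := by rw [← hHM, hM2]; ring
  obtain ⟨hN2, hkb'⟩ := outer_bound hN2' hb hkb hle
  have hn2 : d.n = 2 := by
    have : 2 ^ (d.n - 1) = 2 ^ 1 := by rw [← hN, hN2]; rfl
    have := Nat.pow_right_injective le_rfl this
    omega
  have heq : Nat.card H * ce d2 ^ 2 = 3 * cz d2 ^ 3 := by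
    rw [hcz2, hce2]
    have : 2 * Nat.card H = 4 * k * (N * b) * (N * b + k) := by rw [← hHM, hM2]
    rw [hN2, hkb'] at this
    rw [hN2]
    nlinarith
  have hn2' : d2.n = 1 := by show d.n - 1 = 1; omega
  obtain ⟨N', hN'n, hN'top, hN'inv⟩ := (h2.bounds_of_klein hT2 hn2').2 heq
  haveI := hN'n
  -- the subgroup generated by the involutions
  set J : Subgroup H := closure {t | orderOf t = 2} with hJ
  have hJN : J ≤ N' := (closure_le _).2 hN'inv
  have hJinv : ∀ t : H, orderOf t = 2 → t ∈ J := fun t ht => subset_closure ht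
  have hPJ : ((evenSylow e : Sylow 2 H) : Subgroup H) ≤ J := by
    intro s hs
    rcases d2.cover s hs with ⟨i, rfl⟩ | ⟨i, rfl⟩
    · have : d2.x ∈ J := hJinv _ (by rw [d2.orderOf_x, hn2']; rfl)
      exact zpow_mem this i
    · exact hJinv _ (d2.orderOf_r i)
  have hRJ : (R.subgroupOf M).subgroupOf H ≤ J := by
    intro a ha
    have hy2 : d2.y ∈ J := hJinv _ d2.orderOf_y
    have hao : Odd (orderOf a) := odd_orderOf_of_mem h2.odd ha
    have hyinv : d2.y * a * d2.y⁻¹ = a⁻¹ := Subtype.ext (hinv' _ ha)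
    have h2m : a * a ∈ J := by
      have hJn : J.Normal := ⟨fun w hw c => by
        have : w ∈ J.comap (MulAut.conj c).toMonoidHom :=
          (closure_le _).2 (fun t ht => hJinv (c * t * c⁻¹) (conj_invol c ht)) hw
        exact this⟩
      have : a * d2.y * a⁻¹ * d2.y⁻¹ ∈ J := mul_mem (hJn.conj_mem _ hy2 a) (inv_mem hy2)
      rwa [show a * d2.y * a⁻¹ * d2.y⁻¹ = a * (d2.y * a * d2.y⁻¹)⁻¹ by group, hyinv, inv_inv]
        at this
    obtain ⟨m, hm⟩ := hao
    have ea : (a * a) ^ (m + 1) = a := by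
      rw [← sq, ← pow_mul, show 2 * (m + 1) = orderOf a + 1 by omega, pow_succ, pow_orderOf_eq_one,
        one_mul]
    exact ea ▸ pow_mem h2m _
  have hJthin : Thin J := by
    refine thin_of_not_fused (d := d2) hPJ fun i hi => ?_
    have hT3 : ∀ l, ¬ (subDP d2 hPJ).F2 l := fun l => (not_F2_subDP_iff d2 hPJ l).2
      (hi.even d2 (hPJ d2.x_mem) (Or.inr hn2'))
    obtain ⟨hlo3, -⟩ := (h2.sub hPJ hRJ).bounds hT3
    have hCJ : centralizer ({d2.z} : Set H) ≤ J := by rw [h2.eq]; exact sup_le hRJ hPJ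
    rw [h2.cz_sub hPJ hCJ, h2.ce_sub hPJ hRJ, ← heq] at hlo3
    have hJle := Nat.le_of_mul_le_mul_right hlo3 (pow_pos Nat.card_pos 2)
    exact hN'top (eq_top_iff.2 ((Subgroup.eq_top_of_card_eq J
      (le_antisymm (card_le_card_group J) hJle)).ge.trans hJN))
  -- back in `G`
  set Jg := (J.map H.subtype).map M.subtype with hJg
  have hJgM : Jg ≤ M := map_subtype_le _
  have hMJ : M ≤ normalizer (Jg : Set G) := by
    intro m hm
    rw [mem_normalizer_iff_map_conj_eq]
    refine eq_of_le_of_card_ge ?_ (card_map_of_injective (MulAut.conj m).injective).ge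
    rw [hJg, hJ, MonoidHom.map_closure, MonoidHom.map_closure, MonoidHom.map_closure]
    refine closure_mono ?_
    rintro _ ⟨_, ⟨_, ⟨t, ht, rfl⟩, rfl⟩, rfl⟩
    refine ⟨(⟨m, hm⟩ : M) * t * (⟨m, hm⟩ : M)⁻¹, ⟨⟨_, hHn.conj_mem _ t.2 _⟩, ?_, rfl⟩, rfl⟩
    show orderOf (⟨(⟨m, hm⟩ : M) * t * (⟨m, hm⟩ : M)⁻¹, _⟩ : H) = 2
    rw [Subgroup.orderOf_mk]
    exact conj_invol _ ((orderOf_coe t).trans ht)
  have hJgthin : Thin Jg := by
    show Odd (Nat.card (oddPart Jg))
    have : oddPart Jg = ((oddPart J).map H.subtype).map M.subtype := by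
      rw [oddPart, oddPart, MonoidHom.map_closure, MonoidHom.map_closure]
      congr 1
      ext v
      constructor
      · rintro ⟨⟨w, ⟨t, ht, rfl⟩, rfl⟩, ho'⟩
        refine ⟨_, ⟨t, ⟨ht, ?_⟩, rfl⟩, rfl⟩
        rwa [coe_subtype, coe_subtype, orderOf_coe, orderOf_coe] at ho'
      · rintro ⟨w, ⟨t, ⟨ht, ho'⟩, rfl⟩, rfl⟩
        exact ⟨⟨_, ⟨t, ht, rfl⟩, rfl⟩, by rwa [coe_subtype, coe_subtype, orderOf_coe, orderOf_coe]⟩
    rw [this, card_map_of_injective M.subtype_injective, card_map_of_injective H.subtype_injective]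
    exact hJthin
  set O := oddPart Jg with hO
  have hOM : O ≤ M := (oddPart_le Jg).trans hJgM
  have hMO : M ≤ normalizer (O : Set G) := hMJ.trans (normalizer_le_oddPart Jg)
  have hRO : R ≤ O := fun a ha => by
    refine mem_oddPart ?_ (h.odd_of_mem ha)
    have haH : (⟨a, hRM ha⟩ : M) ∈ H := Cen.R_le_even e h' (mem_subgroupOf.2 ha)
    exact ⟨⟨a, hRM ha⟩, ⟨⟨_, haH⟩, hRJ (mem_subgroupOf.2 (mem_subgroupOf.2 ha)), rfl⟩, rfl⟩
  have hK₁M : K₁ ≤ M := by
    have : K = K₁ := eq_of_le_of_card_ge inf_le_left (by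
      rw [card_map_of_injective (MulAut.conj g).injective]; exact hkb'.ge)
    exact this ▸ inf_le_right
  have hK₁O : K₁ ≤ O := fun v hv => by
    obtain ⟨-, hvo, hvz⟩ := hKu v hv
    refine mem_oddPart ?_ hvo
    have hzJ : d.z ∈ Jg := ⟨d'.z, ⟨⟨d'.z, hzH⟩, hJinv _ (by
      rw [Subgroup.orderOf_mk]; exact d'.orderOf_z), rfl⟩, coe_subDP_z d hPM⟩
    have h2m : v * v ∈ Jg := by
      have : v * d.z * v⁻¹ * d.z⁻¹ ∈ Jg :=
        mul_mem ((mem_normalizer_iff.1 (hMJ (hK₁M hv)) _).1 hzJ) (inv_mem hzJ)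
      rwa [show v * d.z * v⁻¹ * d.z⁻¹ = v * (d.z * v * d.z⁻¹)⁻¹ by group, hvz, inv_inv] at this
    obtain ⟨m, hm⟩ := hvo
    have ea : (v * v) ^ (m + 1) = v := by
      rw [← sq, ← pow_mul, show 2 * (m + 1) = orderOf v + 1 by omega, pow_succ, pow_orderOf_eq_one,
        one_mul]
    exact ea ▸ pow_mem h2m _
  obtain ⟨c, hcN, hco, hc1, hc2⟩ := d.exists_cycle (hT 1)
  have hxu : d.x * uu * d.x⁻¹ = d.z * uu := by
    have := d.conj_r 1 1
    rw [zpow_one] at this
    rw [this, d.z_mul_r, show d.half = 2 by rw [DP.half, hn2]; rfl]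
    rfl
  have F : Four d.z uu := ⟨d.orderOf_z, d.orderOf_r 1, d.commute_z (d.r_mem 1), d.z_ne_r 1⟩
  have hodd' : ∀ v : G, Odd (orderOf v) → Odd (orderOf (c * v * c⁻¹)) := fun v hv => by
    rwa [show c * v * c⁻¹ = MulAut.conj c v from rfl, MulEquiv.orderOf_eq]
  have hKzu : ∀ v, Odd (orderOf v) → Commute (d.z * uu) v → v ∈ O := by
    intro v hv hcv
    have hxM : d.x ∈ M := h.x_mem hC
    have h1' : d.x⁻¹ * v * d.x ∈ O := hK₁O (hmemK (by
      rwa [show d.x⁻¹ * v * d.x = MulAut.conj d.x⁻¹ v by simp, MulEquiv.orderOf_eq]) (by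
      have := hcv.map (MulAut.conj d.x⁻¹).toMonoidHom
      rw [← hxu] at this
      simpa [mul_assoc] using this))
    have := (mem_normalizer_iff.1 (hMO hxM) _).1 h1'
    simpa [mul_assoc] using this
  have hcO : O ≤ O.comap (MulAut.conj c).toMonoidHom := by
    refine F.le_of_parts hJgthin (F.grp_le (hMO (hPM d.z_mem)) (hMO (hPM (d.r_mem 1))))
      (fun v hv hv' => ?_) (fun v hv hv' => ?_) (fun v hv hv' => ?_)
    · refine hK₁O (hmemK (hodd' v (hJgthin.odd hv)) ?_)
      have := hv'.map (MulAut.conj c).toMonoidHom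
      rwa [show (MulAut.conj c).toMonoidHom d.z = uu from hc1] at this
    · refine hKzu _ (hodd' v (hJgthin.odd hv)) ?_
      have := hv'.map (MulAut.conj c).toMonoidHom
      rwa [show (MulAut.conj c).toMonoidHom uu = d.z * uu from hc2] at this
    · refine hRO (h.mem_R (hodd' v (hJgthin.odd hv)) ?_)
      have := hv'.map (MulAut.conj c).toMonoidHom
      rwa [map_mul, show (MulAut.conj c).toMonoidHom d.z = uu from hc1,
        show (MulAut.conj c).toMonoidHom uu = d.z * uu from hc2, F.mul_mul'] at this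
  set Y := normalizer (O : Set G)
  have hYtop : Y ≠ ⊤ := fun et => by
    rcases (normalizer_eq_top_iff.1 et).eq_bot_or_eq_top with e' | e'
    · exact hR (le_bot_iff.1 (e' ▸ hRO))
    · exact hMtop (top_le_iff.1 (e' ▸ hOM))
  have hcY : c ∈ Y := by
    rw [mem_normalizer_iff_map_conj_eq]
    exact eq_of_le_of_card_ge (map_le_iff_le_comap.2 hcO)
      (card_map_of_injective (MulAut.conj c).injective).ge
  have hfus1 : Fused d Y 1 := by
    refine ⟨c, hcY, hcN, hco, d.z, d.z_mem_TG 1, fun e' => d.z_ne_r 1 ?_⟩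
    rw [← hc1, e'.eq, mul_inv_cancel_right]
  refine h.false_of_all hna hYtop (hC.trans hMO) hR fun i => ?_
  rcases Int.even_or_odd i with he | ho'
  · exact (h0.mono d hMO).even d (h.x_mem (hC.trans hMO)) (Or.inl (by simpa using he))
  · exact hfus1.even d (h.x_mem (hC.trans hMO)) (Or.inl (ho'.sub_odd odd_one))

/-- No fusion in proper subgroups containing `C(z)`. -/
theorem Cen.not_fused [IsSimpleGroup G] (h : Cen d R) (hna : ¬ IsMulCommutative G) (hR : R ≠ ⊥)
    {M : Subgroup G} (hMtop : M ≠ ⊤) (hC : centralizer ({d.z} : Set G) ≤ M) (i : ℤ) :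
    ¬ Fused d M i := by
  intro hi
  by_cases hi1 : Fused d M (i + 1)
  · refine h.false_of_all hna hMtop hC hR fun l => ?_
    rcases Int.even_or_odd (l - i) with he | ho
    · exact hi.even d (h.x_mem hC) (Or.inl he)
    · refine hi1.even d (h.x_mem hC) (Or.inl ?_)
      rw [show l - (i + 1) = l - i - 1 by ring]
      exact ho.sub_odd odd_one
  · refine Cen.false_of_mixed (h.shift i) hna hMtop hC hR ?_ ?_
    · rw [fused_shiftDP, zero_add]; exact hi
    · rw [fused_shiftDP, add_comm]; exact hi1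

end CfsgLib.DGroup
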