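import Cfsg.Agent.Lib.Involutions.DihedralClasses
import Mathlib

/-!
# Involution centralizers `R ⊔ P` with `R` abelian and `P` dihedral

`P` is a dihedral Sylow 2-subgroup with central involution `z` and `R` an abelian subgroup of odd
order centralised by the cyclic maximal subgroup of `P`, with `C(z) = R ⊔ P`.
-/

set_option autoImplicit false
set_option linter.unusedSectionVars false
set_option linter.style.haveILetI false

namespace CfsgLib.DGroup

open Subgroup CfsgLib.Involutions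

variable {G : Type*} [Group G]

/-- The centralizer of the central involution of the dihedral Sylow subgroup `P` is `R ⊔ P`. -/
structure Cen {P : Sylow 2 G} (d : DP (P : Subgroup G)) (R : Subgroup G) : Prop where
  comm : ∀ a ∈ R, ∀ b ∈ R, Commute a b
  odd : Odd (Nat.card R)
  cent_x : ∀ a ∈ R, Commute d.x a
  conj_y : ∀ a ∈ R, d.y * a * d.y⁻¹ ∈ R
  eq : centralizer ({d.z} : Set G) = R ⊔ (P : Subgroup G)

namespace Cen

variable [Finite G] {P : Sylow 2 G} {d : DP (P : Subgroup G)} {R : Subgroup G} (h : Cen d R)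
include h

theorem r_conj_eq (i : ℤ) {a : G} (ha : a ∈ R) :
    d.r i * a * (d.r i)⁻¹ = d.y * a * d.y⁻¹ := by
  have hc : Commute (d.x ^ i) (d.y * a * d.y⁻¹) :=
    (h.cent_x _ (h.conj_y a ha)).zpow_left i
  show d.x ^ i * d.y * a * (d.x ^ i * d.y)⁻¹ = _
  rw [mul_inv_rev, show d.x ^ i * d.y * a * (d.y⁻¹ * (d.x ^ i)⁻¹) =
    d.x ^ i * (d.y * a * d.y⁻¹) * (d.x ^ i)⁻¹ by group, hc.eq, mul_inv_cancel_right]

theorem le_normalizer_R : (P : Subgroup G) ≤ normalizer (R : Set G) := by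
  have hmaps : ∀ s ∈ (P : Subgroup G), ∀ a ∈ R, s * a * s⁻¹ ∈ R := by
    intro s hs a ha
    rcases d.cover s hs with ⟨i, rfl⟩ | ⟨i, rfl⟩
    · rwa [((h.cent_x a ha).zpow_left i).eq, mul_inv_cancel_right]
    · rw [show d.x ^ i * d.y = d.r i from rfl, h.r_conj_eq i ha]
      exact h.conj_y a ha
  intro s hs
  refine mem_normalizer_iff.2 fun a => ⟨hmaps s hs a, fun hb => ?_⟩
  have := hmaps s⁻¹ (inv_mem hs) _ hb
  simpa [mul_assoc] using this

theorem R_le : R ≤ centralizer ({d.z} : Set G) := h.eq ▸ le_sup_left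

theorem P_le : (P : Subgroup G) ≤ centralizer ({d.z} : Set G) := h.eq ▸ le_sup_right

theorem commute_z {a : G} (ha : a ∈ R) : Commute d.z a := (h.cent_x a ha).zpow_left _

theorem exists_mul {g : G} (hg : Commute d.z g) :
    ∃ a ∈ R, ∃ s ∈ (P : Subgroup G), g = a * s := by
  have hg' : g ∈ R ⊔ (P : Subgroup G) := h.eq ▸ mem_centralizer_singleton_iff.2 hg.eq.symm
  rw [← SetLike.mem_coe, coe_mul_of_right_le_normalizer_left _ _ h.le_normalizer_R] at hg'
  obtain ⟨a, ha, s, hs, rfl⟩ := hg'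
  exact ⟨a, ha, s, hs, rfl⟩

theorem disjoint {g : G} (hR : g ∈ R) (hP : g ∈ (P : Subgroup G)) : g = 1 := by
  obtain ⟨k, hk⟩ := IsPGroup.iff_orderOf.1 P.isPGroup' ⟨g, hP⟩
  rw [Subgroup.orderOf_mk] at hk
  have hd : Odd (orderOf g) := h.odd.of_dvd_nat (Subgroup.orderOf_dvd_natCard R hR)
  rw [hk] at hd
  rcases k with _ | k
  · rwa [pow_zero, orderOf_eq_one_iff] at hk
  · exact absurd hd (by simp [Nat.odd_pow_iff])

theorem mul_inj {a b s u : G} (ha : a ∈ R) (hb : b ∈ R) (hs : s ∈ (P : Subgroup G))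
    (hu : u ∈ (P : Subgroup G)) (e : a * s = b * u) : a = b ∧ s = u := by
  have e1 : b⁻¹ * a = u * s⁻¹ :=
    calc b⁻¹ * a = b⁻¹ * (a * s) * s⁻¹ := by group
      _ = u * s⁻¹ := by rw [e]; group
  have h1 : b⁻¹ * a = 1 :=
    h.disjoint (mul_mem (inv_mem hb) ha) (e1 ▸ mul_mem hu (inv_mem hs))
  obtain rfl : a = b := (inv_mul_eq_one.1 h1).symm
  exact ⟨rfl, mul_left_cancel e⟩

theorem commute_y_of_commute_r (i : ℤ) {a : G} (ha : a ∈ R) (hc : Commute a (d.r i)) :
    Commute a d.y := by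
  have := h.r_conj_eq i ha
  rw [← hc.eq, mul_inv_cancel_right] at this
  exact (eq_mul_inv_iff_mul_eq.1 this)

theorem commute_r_of_commute_y (i : ℤ) {a : G} (ha : a ∈ R) (hc : Commute a d.y) :
    Commute a (d.r i) :=
  ((h.cent_x a ha).zpow_left i).symm.mul_right hc

theorem pair_split (i : ℤ) {g : G} (hz : Commute d.z g) (hr : Commute (d.r i) g) :
    ∃ a ∈ R ⊓ centralizer ({d.y} : Set G), ∃ s ∈ d.TG i, g = a * s := by
  obtain ⟨a, ha, s, hs, rfl⟩ := h.exists_mul hz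
  have hr' := d.r_mem i
  have e : d.r i * a * (d.r i)⁻¹ * (d.r i * s) = a * (s * d.r i) := by
    rw [show d.r i * a * (d.r i)⁻¹ * (d.r i * s) = d.r i * (a * s) by group, hr.eq, mul_assoc]
  have hconj : d.r i * a * (d.r i)⁻¹ ∈ R :=
    (mem_normalizer_iff.1 (h.le_normalizer_R hr') a).1 ha
  obtain ⟨e1, e2⟩ := h.mul_inj hconj ha (mul_mem hr' hs) (mul_mem hs hr') e
  have hca : Commute a (d.r i) := (mul_inv_eq_iff_eq_mul.1 e1).symm
  refine ⟨a, mem_inf.2 ⟨ha, mem_centralizer_singleton_iff.2 (h.commute_y_of_commute_r i ha hca).eq⟩,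
    s, d.mem_TG_of_commute hs e2.symm, rfl⟩

theorem mem_pair {i : ℤ} {g : G} :
    g ∈ centralizer ({d.z, d.r i} : Set G) ↔ Commute d.z g ∧ Commute (d.r i) g := by
  simp only [mem_centralizer_iff, Set.mem_insert_iff, Set.mem_singleton_iff, forall_eq_or_imp,
    forall_eq]
  exact Iff.rfl

theorem card_pair (i : ℤ) :
    Nat.card (centralizer ({d.z, d.r i} : Set G)) =
      4 * Nat.card (R ⊓ centralizer ({d.y} : Set G) : Subgroup G) := by
  haveI := d.isKleinFour_TG i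
  have h4 : Nat.card (d.TG i) = 4 := IsKleinFour.card_four
  let R₀ : Subgroup G := R ⊓ centralizer ({d.y} : Set G)
  have hmem : ∀ p : R₀ × d.TG i, (p.1 : G) * p.2 ∈ centralizer ({d.z, d.r i} : Set G) := by
    intro p
    obtain ⟨ha, hy⟩ := mem_inf.1 p.1.2
    have hc : Commute (p.1 : G) d.y := mem_centralizer_singleton_iff.1 hy
    have hs := d.TG_le i p.2.2
    refine h.mem_pair.2 ⟨(h.commute_z ha).mul_right (d.commute_z hs), ?_⟩
    refine ((h.commute_r_of_commute_y i ha hc).symm).mul_right ?_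
    rcases d.mem_TG.1 p.2.2 with e | e | e | e <;> rw [e]
    · exact Commute.one_right _
    · exact (d.commute_z (d.r_mem i)).symm
    · exact Commute.refl _
    · exact ((d.commute_z (d.r_mem i)).symm).mul_right (Commute.refl _)
  let f : R₀ × d.TG i → centralizer ({d.z, d.r i} : Set G) := fun p => ⟨_, hmem p⟩
  have hf : Function.Bijective f := by
    refine ⟨?_, ?_⟩
    · rintro ⟨a, s⟩ ⟨b, u⟩ e
      obtain ⟨e1, e2⟩ := h.mul_inj (mem_inf.1 a.2).1 (mem_inf.1 b.2).1 (d.TG_le i s.2)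
        (d.TG_le i u.2) (congrArg Subtype.val e)
      exact Prod.ext (Subtype.ext e1) (Subtype.ext e2)
    · rintro ⟨g, hg⟩
      obtain ⟨hz, hr⟩ := h.mem_pair.1 hg
      obtain ⟨a, ha, s, hs, rfl⟩ := h.pair_split i hz hr
      exact ⟨(⟨a, ha⟩, ⟨s, hs⟩), rfl⟩
  rw [← Nat.card_eq_of_bijective f hf, Nat.card_prod, h4, mul_comm]

theorem card_cent : Nat.card (centralizer ({d.z} : Set G)) =
    Nat.card R * Nat.card (P : Subgroup G) := by
  let f : R × (P : Subgroup G) → centralizer ({d.z} : Set G) :=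
    fun p => ⟨(p.1 : G) * p.2, mul_mem (h.R_le p.1.2) (h.P_le p.2.2)⟩
  have hf : Function.Bijective f := by
    refine ⟨?_, ?_⟩
    · rintro ⟨a, s⟩ ⟨b, u⟩ e
      obtain ⟨e1, e2⟩ := h.mul_inj a.2 b.2 s.2 u.2 (congrArg Subtype.val e)
      exact Prod.ext (Subtype.ext e1) (Subtype.ext e2)
    · rintro ⟨g, hg⟩
      have hc : Commute d.z g := (mem_centralizer_singleton_iff.1 hg).symm
      obtain ⟨a, ha, s, hs, rfl⟩ := h.exists_mul hc
      exact ⟨(⟨a, ha⟩, ⟨s, hs⟩), rfl⟩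
  rw [← Nat.card_eq_of_bijective f hf, Nat.card_prod]

end Cen

end CfsgLib.DGroup
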