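import Cfsg.Agent.Lib.DGroup.Basic
import Cfsg.Agent.Lib.Chars.Irr
import Mathlib

/-!
# Thompson's order formula for two classes of involutions
-/

set_option autoImplicit false
set_option linter.unusedSectionVars false
set_option linter.style.haveILetI false

namespace CfsgLib.DGroup

open Subgroup CfsgLib.Involutions

variable {G : Type*} [Group G] [Finite G]

/-- The involution of `⟨s, t⟩` centralizing both. -/
noncomputable def half (s t : G) : G := (s * t) ^ (orderOf (s * t) / 2)

theorem half_conj (c s t : G) :
    half (c * s * c⁻¹) (c * t * c⁻¹) = c * half s t * c⁻¹ := by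
  have e : c * s * c⁻¹ * (c * t * c⁻¹) = MulAut.conj c (s * t) := by
    rw [MulAut.conj_apply]; group
  rw [half, half, e, MulEquiv.orderOf_eq, ← map_pow, MulAut.conj_apply]

/-- Pairs of involutions from the classes of `a` and `b` with given common involution. -/
def Pairs (a b w : G) : Type _ := {p : G × G // IsConj a p.1 ∧ IsConj b p.2 ∧ half p.1 p.2 = w}

instance (a b w : G) : Finite (Pairs a b w) := Subtype.finite

theorem card_pairs_conj (a b : G) {w w' : G} (h : IsConj w w') :
    Nat.card (Pairs a b w) = Nat.card (Pairs a b w') := by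
  obtain ⟨c, rfl⟩ := isConj_iff.1 h
  refine Nat.card_congr (((MulAut.conj c).toEquiv.prodCongr (MulAut.conj c).toEquiv).subtypeEquiv ?_)
  rintro ⟨s, t⟩
  have k : ∀ q g : G, IsConj q g ↔ IsConj q (MulAut.conj c g) := fun q g =>
    ⟨fun hq => hq.trans (isConj_iff.2 ⟨c, rfl⟩), fun hq => hq.trans (isConj_iff.2 ⟨c, rfl⟩).symm⟩
  refine and_congr (k a s) (and_congr (k b t) ⟨fun hw => ?_, fun hw => ?_⟩)
  · show half (c * s * c⁻¹) (c * t * c⁻¹) = _
    rw [half_conj]; exact congrArg (fun q => c * q * c⁻¹) hw
  · have hw' : half (c * s * c⁻¹) (c * t * c⁻¹) = c * w * c⁻¹ := hw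
    rw [half_conj] at hw'
    exact (MulAut.conj c).injective hw'

/-- Thompson's order formula. -/
theorem thompson_formula {a b : G} (ha : orderOf a = 2) (hb : orderOf b = 2)
    (hnc : ¬ IsConj a b) (hall : ∀ t : G, orderOf t = 2 → IsConj a t ∨ IsConj b t) :
    Nat.card G = Nat.card (centralizer ({b} : Set G)) * Nat.card (Pairs a b a) +
      Nat.card (centralizer ({a} : Set G)) * Nat.card (Pairs a b b) := by
  classical
  haveI := Fintype.ofFinite G
  have heven : ∀ s t : G, IsConj a s → IsConj b t → Even (orderOf (s * t)) := fun s t hs ht => by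
    by_contra hodd
    exact hnc ((hs.trans (isConj_of_odd_prod (isConj_invol hs ha) (isConj_invol ht hb)
      (Nat.not_even_iff_odd.1 hodd))).trans ht.symm)
  let S : Finset (G × G) := Finset.univ.filter fun p => IsConj a p.1 ∧ IsConj b p.2
  have hS : S.card = Nat.card {x : G // IsConj a x} * Nat.card {x : G // IsConj b x} := by
    rw [Nat.card_eq_fintype_card, Nat.card_eq_fintype_card, Fintype.card_subtype,
      Fintype.card_subtype, ← Finset.card_product]
    congr 1
    ext p
    simp [S]
  have hfib : ∀ w, (S.filter fun p => half p.1 p.2 = w).card = Nat.card (Pairs a b w) := fun w => by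
    rw [Pairs, Nat.card_eq_fintype_card, Fintype.card_subtype]
    congr 1
    ext p
    simp [S, and_assoc]
  let U : Finset G := Finset.univ.filter fun w => IsConj a w
  let V : Finset G := Finset.univ.filter fun w => IsConj b w
  have hUV : Disjoint U V := by
    rw [Finset.disjoint_left]
    intro w hw hw'
    exact hnc ((Finset.mem_filter.1 hw).2.trans (Finset.mem_filter.1 hw').2.symm)
  have hU : U.card = Nat.card {x : G // IsConj a x} := by
    rw [Nat.card_eq_fintype_card, Fintype.card_subtype]
  have hV : V.card = Nat.card {x : G // IsConj b x} := by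
    rw [Nat.card_eq_fintype_card, Fintype.card_subtype]
  have hsum : S.card = Nat.card {x : G // IsConj a x} * Nat.card (Pairs a b a) +
      Nat.card {x : G // IsConj b x} * Nat.card (Pairs a b b) := by
    rw [Finset.card_eq_sum_card_fiberwise (t := U ∪ V) (f := fun p : G × G => half p.1 p.2) ?_,
      Finset.sum_union hUV]
    · simp only [hfib]
      rw [Finset.sum_congr (s₁ := U) rfl (g := fun _ => Nat.card (Pairs a b a))
          (fun w hw => card_pairs_conj a b (Finset.mem_filter.1 hw).2.symm),
        Finset.sum_congr (s₁ := V) rfl (g := fun _ => Nat.card (Pairs a b b))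
          (fun w hw => card_pairs_conj a b (Finset.mem_filter.1 hw).2.symm),
        Finset.sum_const, Finset.sum_const, smul_eq_mul, smul_eq_mul, hU, hV]
    · intro p hp
      obtain ⟨hs, ht⟩ := (Finset.mem_filter.1 hp).2
      rcases hall _ (half_invol (heven _ _ hs ht)) with h | h
      · exact Finset.mem_union_left _ (Finset.mem_filter.2 ⟨Finset.mem_univ _, h⟩)
      · exact Finset.mem_union_right _ (Finset.mem_filter.2 ⟨Finset.mem_univ _, h⟩)
  have ca := Chars.card_isConj_mul_card_centralizer a
  have cb := Chars.card_isConj_mul_card_centralizer b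
  have hg : 0 < Nat.card G := Nat.card_pos
  refine Nat.eq_of_mul_eq_mul_left hg ?_
  set A := Nat.card {x : G // IsConj a x}
  set B := Nat.card {x : G // IsConj b x}
  set u := Nat.card (centralizer ({a} : Set G))
  set v := Nat.card (centralizer ({b} : Set G))
  set p := Nat.card (Pairs a b a)
  set q := Nat.card (Pairs a b b)
  have e : A * B * (u * v) = (A * p + B * q) * (u * v) := by rw [← hS, hsum]
  calc Nat.card G * Nat.card G = A * u * (B * v) := by rw [ca, cb]
    _ = A * B * (u * v) := by ring
    _ = (A * p + B * q) * (u * v) := e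
    _ = A * u * (v * p) + B * v * (u * q) := by ring
    _ = Nat.card G * (v * p + u * q) := by rw [ca, cb]; ring

end CfsgLib.DGroup
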