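import Cfsg.Agent.Lib.DGroup.Even

/-!
# `A` with two involutions: `PSL(2, 2 ^ k)`
-/

set_option autoImplicit false
set_option linter.unusedSectionVars false
set_option linter.style.haveILetI false

namespace CfsgLib.DGroup

open Subgroup CfsgLib.Involutions CfsgLib.KnownB.PSLAut

universe u

variable {G : Type u} [Group G] [Finite G] {H A : Subgroup G} {u : G}

theorem Gen.exists_sylow (D : Gen H A u) : ∃ Q : Sylow 2 G, (Q : Subgroup G) ≤ H := by
  haveI : Fact (Nat.Prime 2) := ⟨Nat.prime_two⟩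
  obtain ⟨PH⟩ : Nonempty (Sylow 2 H) := inferInstance
  set S := (PH : Subgroup H).map H.subtype with hSdef
  have hSH : S ≤ H := map_subtype_le _
  have hSp : IsPGroup 2 S := PH.isPGroup'.map _
  -- central involutions lie in `S`
  have hES : ∀ b ∈ A, orderOf b = 2 → b ∈ S := by
    intro b hb hbo
    set b' : H := ⟨b, D.le hb⟩
    have hc : ∀ h : H, Commute h b' := fun h => Subtype.ext (D.central hb hbo h.2)
    have hp : IsPGroup 2 ((PH : Subgroup H) ⊔ zpowers b' : Subgroup H) := by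
      refine IsPGroup.to_sup_of_normal_right' PH.isPGroup'
        (isPGroup_zpowers_invol ((Subgroup.orderOf_mk _ _).trans hbo)) ?_
      intro h _
      exact le_normalizer_zpowers_of_commute' (hc h)
    have := PH.3 hp le_sup_left
    exact ⟨b', this.le (mem_sup_right (mem_zpowers b')), rfl⟩
  obtain ⟨Q, hQ⟩ := hSp.exists_le_sylow
  refine ⟨Q, ?_⟩
  have hQH : (Q : Subgroup G) ⊓ H = S := by
    refine le_antisymm (fun w hw => ?_) (le_inf hQ hSH)
    have hp : IsPGroup 2 (((Q : Subgroup G) ⊓ H).subgroupOf H) :=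
      (Q.isPGroup'.to_le inf_le_left).of_equiv (subgroupOfEquivOfLe inf_le_right).symm
    have hle : (PH : Subgroup H) ≤ ((Q : Subgroup G) ⊓ H).subgroupOf H := fun h hh =>
      mem_subgroupOf.2 ⟨hQ (mem_map_of_mem _ hh), h.2⟩
    exact ⟨⟨w, hw.2⟩, (PH.3 hp hle).le (mem_subgroupOf.2 hw), rfl⟩
  by_contra hle
  haveI : Group.IsNilpotent (Q : Subgroup G) := Q.isPGroup'.isNilpotent
  have hlt : S.subgroupOf (Q : Subgroup G) < ⊤ :=
    lt_top_iff_ne_top.2 fun e => hle ((subgroupOf_eq_top.1 e).trans hSH)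
  obtain ⟨⟨t, htQ⟩, htN, htS⟩ := SetLike.exists_of_lt
    (Group.normalizerCondition_of_isNilpotent _ hlt)
  have htn : ∀ (k : ℕ) (s : G), s ∈ S → t ^ k * s * (t ^ k)⁻¹ ∈ S := fun k s hs => by
    have h1 := (mem_normalizer_iff.1 (pow_mem htN k) ⟨s, hQ hs⟩).1 (mem_subgroupOf.2 hs)
    simpa using mem_subgroupOf.1 h1
  -- an element whose square is in `H`
  obtain ⟨r, hr, hr2⟩ : ∃ r : ℕ, t ^ r ∉ H ∧ t ^ r * t ^ r ∈ H := by
    classical
    have hex : ∃ k : ℕ, t ^ 2 ^ k ∈ H := by
      obtain ⟨k, hk⟩ := two_power_of_isPGroup Q.isPGroup' htQ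
      exact ⟨k, hk ▸ H.one_mem⟩
    have hspec := Nat.find_spec hex
    have h0 : 0 < Nat.find hex := by
      by_contra h0
      rw [show Nat.find hex = 0 by omega, pow_zero, pow_one] at hspec
      exact htS (mem_subgroupOf.2 (hQH ▸ (⟨htQ, hspec⟩ : t ∈ (Q : Subgroup G) ⊓ H)))
    refine ⟨2 ^ (Nat.find hex - 1), Nat.find_min hex (by omega), ?_⟩
    rw [← pow_add, ← two_mul, ← pow_succ', Nat.sub_add_cancel h0]
    exact hspec
  set v := t ^ r with hv
  let f : G → G := fun b => b * (v * b * v⁻¹)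
  have hf : ∀ b ∈ A, orderOf b = 2 → f b ∈ S ∧ v * f b * v⁻¹ = f b ∧ f b * f b = 1 ∧
      (f b = 1 → v * b * v⁻¹ = b) := by
    intro b hb hbo
    have hvb : v * b * v⁻¹ ∈ S := htn r b (hES b hb hbo)
    have hcb : Commute (v * b * v⁻¹) b := D.central hb hbo (hSH hvb)
    refine ⟨mul_mem (hES b hb hbo) hvb, ?_, ?_, fun h1 => ?_⟩
    · have h2 : v * v * b * (v * v)⁻¹ = b :=
        mul_inv_eq_iff_eq_mul.2 (D.central hb hbo hr2)
      calc v * f b * v⁻¹ = v * b * v⁻¹ * (v * v * b * (v * v)⁻¹) := by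
            show v * (b * (v * b * v⁻¹)) * v⁻¹ = _; group
        _ = f b := by rw [h2]; exact hcb.eq
    · show b * (v * b * v⁻¹) * (b * (v * b * v⁻¹)) = 1
      calc b * (v * b * v⁻¹) * (b * (v * b * v⁻¹))
          = b * (v * b * v⁻¹ * b) * (v * b * v⁻¹) := by group
        _ = b * b * (v * (b * b) * v⁻¹) := by rw [hcb.eq]; group
        _ = 1 := by rw [invol_mul_self hbo]; group
    · rw [eq_inv_of_mul_eq_one_right (h1 : b * (v * b * v⁻¹) = 1), invol_inv hbo]
  have hfix : ∀ w ∈ A, orderOf w = 2 → v * w * v⁻¹ = w → False := fun w hw hwo he => by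
    refine hr ?_
    rw [← D.cent w hw hwo]
    exact mem_centralizer_singleton_iff.2 (mul_inv_eq_iff_eq_mul.1 he)
  have hnA : ∀ b ∈ A, orderOf b = 2 → f b ∉ A := by
    intro b hb hbo hA
    obtain ⟨-, h2, h3, h4⟩ := hf b hb hbo
    by_cases h1 : f b = 1
    · exact hfix b hb hbo (h4 h1)
    · haveI : Fact (Nat.Prime 2) := ⟨Nat.prime_two⟩
      exact hfix _ hA (orderOf_eq_prime (by rw [sq]; exact h3) h1) h2
  obtain ⟨a, b, ha, hb, hao, hbo, hab⟩ := D.two
  have habo : orderOf (a * b) = 2 := by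
    haveI : Fact (Nat.Prime 2) := ⟨Nat.prime_two⟩
    refine orderOf_eq_prime ?_ fun e => hab ?_
    · rw [(show Commute a b from D.comm a ha b hb).mul_pow,
        show a ^ 2 = 1 from orderOf_dvd_iff_pow_eq_one.1 hao.dvd,
        show b ^ 2 = 1 from orderOf_dvd_iff_pow_eq_one.1 hbo.dvd, one_mul]
    · rw [mul_eq_one_iff_eq_inv.1 e, invol_inv hbo]
  obtain ⟨haS, -, -, -⟩ := hf a ha hao
  obtain ⟨hbS, -, -, -⟩ := hf b hb hbo
  have e1 := (D.cover _ (hSH haS)).resolve_left (hnA a ha hao)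
  have e2 := (D.cover _ (hSH hbS)).resolve_left (hnA b hb hbo)
  have e3 : u * (f b * u) * u⁻¹ ∈ A := by rw [D.inv _ e2]; exact inv_mem e2
  have hmul : f (a * b) = f a * f b := by
    have hvb : v * b * v⁻¹ ∈ S := htn r b (hES b hb hbo)
    have hva : v * a * v⁻¹ ∈ S := htn r a (hES a ha hao)
    have hc : Commute (v * a * v⁻¹) b := D.central hb hbo (hSH hva)
    show a * b * (v * (a * b) * v⁻¹) = a * (v * a * v⁻¹) * (b * (v * b * v⁻¹))
    calc a * b * (v * (a * b) * v⁻¹) = a * (b * (v * a * v⁻¹)) * (v * b * v⁻¹) := by group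
      _ = a * (v * a * v⁻¹) * (b * (v * b * v⁻¹)) := by rw [← hc.eq]; group
  refine hnA (a * b) (mul_mem ha hb) habo ?_
  rw [hmul]
  have := mul_mem e1 e3
  rwa [show f a * u * (u * (f b * u) * u⁻¹) = f a * (u * u) * f b by group, D.uu, mul_one] at this

/-- `A` with two involutions gives `PSL(2, 2 ^ k)`. -/
theorem Gen.out (D : Gen H A u) (hns : ¬ Group.IsSolvable G) :
    ∃ (N : Subgroup G) (_ : N.Normal), ¬ 4 ∣ Nat.card N ∧ Out (G ⧸ N) := by
  haveI : Fact (Nat.Prime 2) := ⟨Nat.prime_two⟩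
  obtain ⟨Q, hQH⟩ := D.exists_sylow
  -- elements outside `A` are outside the derived group
  have hout : ∀ v ∈ H, v ∉ A → v ∉ _root_.commutator G := by
    intro v hv hvA hvc
    have hvo : orderOf v = 2 := by
      exact orderOf_eq_prime (by rw [sq, D.sq_outside hv hvA]) fun e => hvA (e ▸ A.one_mem)
    obtain ⟨g, hg⟩ := exists_conj_le Q (isPGroup_zpowers_invol hvo)
    have hgQ := hg v (mem_zpowers v)
    have hrel : ((Q : Subgroup G) ⊓ A).relIndex (Q : Subgroup G) = 2 := by
      refine relIndex_eq_two_iff.2 ⟨g * v * g⁻¹, hgQ, fun b hb => ?_⟩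
      have hgnA := D.not_isConj (g := g) hv hvA
      have hgu := (D.cover _ (hQH hgQ)).resolve_left hgnA
      by_cases hbA : b ∈ A
      · exact Or.inr ⟨⟨hb, hbA⟩, fun h => hgnA ((mul_mem_cancel_left hbA).1 h.2)⟩
      · refine Or.inl ⟨⟨mul_mem hb hgQ, ?_⟩, fun h => hbA h.2⟩
        have hbu := (D.cover b (hQH hb)).resolve_left hbA
        have e3 : u * (g * v * g⁻¹ * u) * u⁻¹ ∈ A := by rw [D.inv _ hgu]; exact inv_mem hgu
        have := mul_mem hbu e3
        rwa [show b * u * (u * (g * v * g⁻¹ * u) * u⁻¹) = b * (u * u) * (g * v * g⁻¹) by group,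
          D.uu, mul_one] at this
    obtain ⟨M, hMn, hMi, hvM⟩ := CfsgLib.Transfer.exists_index_two_of_not_conj_mem Q inf_le_left hrel hvo
      fun g' h => D.not_isConj (g := g') hv hvA h.2
    refine hvM ?_
    have : _root_.commutator G ≤ M := by
      rw [_root_.commutator_def, commutator_le]
      intro a _ b _
      rw [commutatorElement_def, mul_mem_iff_of_index_two hMi, mul_mem_iff_of_index_two hMi,
        mul_mem_iff_of_index_two hMi, inv_mem_iff, inv_mem_iff]
      tauto
    exact this hvc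
  set G0 := _root_.commutator G with hG0
  have hA0 : ∀ v ∈ H, v ∈ G0 → v ∈ A := fun v hv hv0 => by
    by_contra hvA; exact hout v hv hvA hv0
  haveI hG0n : G0.Normal := by rw [hG0]; unfold _root_.commutator; infer_instance
  have hns0 : ¬ Group.IsSolvable G0 := fun hs => by
    refine hns (Base.isSolvable_of_normal G0 hs ?_)
    exact Group.isSolvable_of_comm fun a b => mul_comm (G := Abelianization G) a b
  obtain ⟨T0⟩ : Nonempty (Sylow 2 G0) := inferInstance
  have hsetup : CharsMore.AbCent.Setup T0 := by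
    refine ⟨fun hc => hns0 (isSolvable_of_isCyclic T0 hc), fun hn => ?_, fun t ht => ?_⟩
    · haveI := hn
      refine hns0 (isSolvable_of_odd_index (T0 : Subgroup G0) ?_
        (Nat.odd_iff.2 (Nat.two_dvd_ne_zero.1 T0.not_dvd_index)))
      haveI := T0.isPGroup'.isNilpotent
      infer_instance
    · have hto : orderOf (t : G) = 2 := by rw [orderOf_coe]; exact ht
      obtain ⟨g, hg⟩ := exists_conj_le Q (isPGroup_zpowers_invol hto)
      have hgt := hg _ (mem_zpowers (t : G))
      have hgA : g * t * g⁻¹ ∈ A := hA0 _ (hQH hgt) (hG0n.conj_mem _ t.2 g)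
      have key : ∀ a : G0, a ∈ centralizer ({t} : Set G0) → g * a * g⁻¹ ∈ A := fun a ha => by
        refine hA0 _ ?_ (hG0n.conj_mem _ a.2 g)
        rw [← D.cent _ hgA (conj_invol g hto)]
        exact mem_centralizer_singleton_iff.2 (Commute.map
          (congrArg Subtype.val (mem_centralizer_singleton_iff.1 ha) : Commute (a : G) (t : G))
          (MulAut.conj g).toMonoidHom)
      refine ⟨⟨fun a b => Subtype.ext (Subtype.ext ?_)⟩⟩
      have := D.comm _ (key a a.2) _ (key b b.2)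
      refine conj_injective (x := g) ?_
      show g * ((a : G0) * (b : G0) : G) * g⁻¹ = g * ((b : G0) * (a : G0) : G) * g⁻¹
      calc g * ((a : G0) * (b : G0) : G) * g⁻¹
          = g * (a : G0) * g⁻¹ * (g * (b : G0) * g⁻¹) := by group
        _ = g * (b : G0) * g⁻¹ * (g * (a : G0) * g⁻¹) := this
        _ = _ := by group
  obtain ⟨F, iF, iFt, A₀, iA, iAf, hchar, hodd, ⟨e⟩⟩ := CharsMore.AbCent.exists_iso_prod hsetup
  have hq := four_le_card_of_iso hns0 e
  have hperf := CfsgLib.Classical.SL_fin_commutator_eq_top (F := F) 2 le_rfl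
    (fun _ => by rw [Nat.card_eq_fintype_card]; exact hq)
  -- the embedding of `PSL(2, q)`
  let ι : Matrix.ProjectiveSpecialLinearGroup (Fin 2) F →* G :=
    G0.subtype.comp (e.symm.toMonoidHom.comp ((MonoidHom.inl _ A₀).comp
      CfsgLib.Recog.pslEquivSL.symm.toMonoidHom))
  have hι : Function.Injective ι := by
    intro a b h
    have h1 := e.symm.injective (G0.subtype_injective h)
    exact CfsgLib.Recog.pslEquivSL.symm.injective (congrArg Prod.fst h1)
  set L := ι.range with hL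
  have hLeq : L = (_root_.commutator G0).map G0.subtype := by
    refine le_antisymm ?_ ?_
    · rintro _ ⟨p, rfl⟩
      refine mem_map_of_mem _ ?_
      have hx : CfsgLib.Recog.pslEquivSL.symm p ∈
          _root_.commutator (Matrix.SpecialLinearGroup (Fin 2) F) := hperf ▸ mem_top _
      set φ := e.symm.toMonoidHom.comp (MonoidHom.inl (Matrix.SpecialLinearGroup (Fin 2) F) A₀)
      have h1 : (_root_.commutator (Matrix.SpecialLinearGroup (Fin 2) F)).map φ ≤
          _root_.commutator G0 := by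
        rw [_root_.commutator_def, _root_.commutator_def, Subgroup.map_commutator]
        exact commutator_mono le_top le_top
      exact h1 (mem_map_of_mem φ hx)
    · rintro _ ⟨x, hx, rfl⟩
      have h1 : (e x).2 = 1 := by
        have := Abelianization.commutator_subset_ker
          ((MonoidHom.snd _ A₀).comp e.toMonoidHom) hx
        exact MonoidHom.mem_ker.1 this
      refine ⟨CfsgLib.Recog.pslEquivSL (e x).1, ?_⟩
      show G0.subtype (e.symm (CfsgLib.Recog.pslEquivSL.symm
        (CfsgLib.Recog.pslEquivSL (e x).1), 1)) = _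
      rw [MulEquiv.symm_apply_apply, ← h1]
      exact congrArg G0.subtype (e.symm_apply_apply x)
  haveI hLn : L.Normal := by
    rw [hLeq]
    haveI : (_root_.commutator G0).Characteristic := by unfold _root_.commutator; infer_instance
    infer_instance
  have h01 : (0 : Fin 2) ≠ 1 := by decide
  have hX2 : ∀ c : F, (X 0 1 c : Matrix.ProjectiveSpecialLinearGroup (Fin 2) F) * X 0 1 c = 1 := by
    intro c
    rw [← X_add h01, CharTwo.add_self_eq_zero]
    have h0 := X_add (F := F) h01 0 0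
    rw [add_zero] at h0
    exact mul_eq_left.1 h0.symm
  -- the root subgroup, moved into `A`
  obtain ⟨g, hgA⟩ : ∃ g : G, ∀ c : F, g * ι (X 0 1 c) * g⁻¹ ∈ A := by
    let U : Multiplicative F →* G :=
      { toFun := fun c => ι (X 0 1 c.toAdd)
        map_one' := by
          have h0 := X_add (F := F) h01 0 0
          rw [add_zero] at h0
          show ι (X 0 1 (0 : F)) = 1
          rw [mul_eq_left.1 h0.symm, map_one]
        map_mul' := fun a b => by
          show ι (X 0 1 (a.toAdd + b.toAdd)) = _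
          rw [X_add h01, map_mul] }
    have hU : IsPGroup 2 U.range := fun w => by
      obtain ⟨w, c, rfl⟩ := w
      refine ⟨1, Subtype.ext ?_⟩
      rw [pow_one, Subgroup.coe_pow, sq]
      show ι (X 0 1 c.toAdd) * ι (X 0 1 c.toAdd) = 1
      rw [← map_mul, hX2, map_one]
    obtain ⟨g, hg⟩ := exists_conj_le Q hU
    refine ⟨g, fun c => hA0 _ (hQH (hg _ ⟨Multiplicative.ofAdd c, rfl⟩)) ?_⟩
    exact hG0n.conj_mem _ (SetLike.coe_mem _) g
  have hXo : ∀ c : F, c ≠ 0 → orderOf (g * ι (X 0 1 c) * g⁻¹) = 2 := fun c hc => by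
    refine orderOf_eq_prime ?_ fun h1 => X_ne_one h01 hc (hι ?_)
    · rw [sq, show g * ι (X 0 1 c) * g⁻¹ * (g * ι (X 0 1 c) * g⁻¹) =
        g * (ι (X 0 1 c) * ι (X 0 1 c)) * g⁻¹ by group, ← map_mul, hX2, map_one, mul_one,
        mul_inv_cancel]
    · rw [map_one]; exact conj_eq_one_iff.1 h1
  set C := centralizer (L : Set G) with hC
  haveI hCn : C.Normal := inferInstance
  have hHCL : H ≤ C ⊔ L := by
    intro h hh
    set k := g⁻¹ * h * g with hk
    have hfix : ∀ c : F, k * ι (X 0 1 c) * k⁻¹ = ι (X 0 1 c) := by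
      intro c
      by_cases hc : c = 0
      · subst hc
        have h0 := X_add (F := F) h01 0 0
        rw [add_zero] at h0
        rw [mul_eq_left.1 h0.symm, map_one, mul_one, mul_inv_cancel]
      · have h1 := D.central (hgA c) (hXo c hc) hh
        rw [hk, show g⁻¹ * h * g * ι (X 0 1 c) * (g⁻¹ * h * g)⁻¹ =
          g⁻¹ * (h * (g * ι (X 0 1 c) * g⁻¹) * h⁻¹) * g by group, h1]
        group
    let eL := MonoidHom.ofInjective hι
    let α : MulAut (Matrix.ProjectiveSpecialLinearGroup (Fin 2) F) :=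
      MulAut.congr eL.symm (MulAut.conjNormal (H := L) k)
    have hα : ∀ p, ι (α p) = k * ι p * k⁻¹ := fun p => by
      have h1 : eL (α p) = MulAut.conjNormal (H := L) k (eL p) := eL.apply_symm_apply _
      have h2 := congrArg Subtype.val h1
      rw [MulAut.conjNormal_apply] at h2
      exact h2
    obtain ⟨p, hp⟩ := mem_inn_of_fix α fun c => hι (by rw [hα, hfix])
    have hkC : (ι p)⁻¹ * k ∈ C := by
      refine mem_centralizer_iff.2 ?_
      rintro _ ⟨w, rfl⟩
      have h1 := hα w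
      rw [← hp] at h1
      change ι (p * w * p⁻¹) = k * ι w * k⁻¹ at h1
      rw [map_mul, map_mul, map_inv] at h1
      calc ι w * ((ι p)⁻¹ * k) = (ι p)⁻¹ * (ι p * ι w * (ι p)⁻¹) * k := by group
        _ = (ι p)⁻¹ * k * ι w := by rw [h1]; group
    have hkCL : k ∈ C ⊔ L := by
      have : k = ι p * ((ι p)⁻¹ * k) := by group
      rw [this]
      exact mul_mem (mem_sup_right ⟨p, rfl⟩) (mem_sup_left hkC)
    haveI : (C ⊔ L).Normal := sup_normal C L
    have := ‹(C ⊔ L).Normal›.conj_mem k hkCL g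
    rwa [hk, show g * (g⁻¹ * h * g) * g⁻¹ = h by group] at this
  set e₀ := g * ι (X 0 1 1) * g⁻¹ with he₀
  have he₀L : e₀ ∈ L := hLn.conj_mem _ ⟨_, rfl⟩ g
  have htop : C ⊔ L = ⊤ := by
    refine eq_top_iff.2 fun x _ => ?_
    obtain ⟨p₀, hp₀⟩ := he₀L
    obtain ⟨p₁, hp₁⟩ := hLn.conj_mem _ ⟨p₀, rfl⟩ x
    have ho : ∀ p, orderOf (ι p) = 2 → orderOf (CfsgLib.Recog.pslEquivSL.symm p) = 2 := fun p h => by
      rw [MulEquiv.orderOf_eq, ← orderOf_injective ι hι, h]
    obtain ⟨q, hq'⟩ := isConj_iff.1 (isConj_of_invol (ho p₀ (by rw [hp₀]; exact hXo 1 one_ne_zero))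
      (ho p₁ (by rw [hp₁, hp₀]; exact conj_invol x (hXo 1 one_ne_zero))))
    set l := ι (CfsgLib.Recog.pslEquivSL q)
    have hl : l * e₀ * l⁻¹ = x * e₀ * x⁻¹ := by
      rw [← hp₀, ← hp₁, ← map_inv, ← map_mul, ← map_mul]
      refine congrArg ι (CfsgLib.Recog.pslEquivSL.symm.injective ?_)
      rw [map_mul, map_mul, map_inv, MulEquiv.symm_apply_apply, hq']
    have hH : l⁻¹ * x ∈ H := by
      rw [← D.cent e₀ (hgA 1) (hXo 1 one_ne_zero)]
      refine mem_centralizer_singleton_iff.2 ?_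
      calc l⁻¹ * x * e₀ = l⁻¹ * (x * e₀ * x⁻¹) * x := by group
        _ = e₀ * (l⁻¹ * x) := by rw [← hl]; group
    have h1 := mul_mem (mem_sup_right (⟨_, rfl⟩ : l ∈ L) : l ∈ C ⊔ L) (hHCL hH)
    rwa [mul_inv_cancel_left] at h1
  have hCL : ∀ p, ι p ∈ C → p = 1 := fun p hp => by
    have hc : p ∈ center (Matrix.ProjectiveSpecialLinearGroup (Fin 2) F) :=
      mem_center_iff.2 fun w => hι (by
        rw [map_mul, map_mul]
        exact mem_centralizer_iff.1 hp _ ⟨w, rfl⟩)
    have hc' : CfsgLib.Recog.pslEquivSL.symm p ∈ center (Matrix.SpecialLinearGroup (Fin 2) F) :=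
      mem_center_iff.2 fun w => CfsgLib.Recog.pslEquivSL.injective (by
        rw [map_mul, map_mul, MulEquiv.apply_symm_apply]
        exact mem_center_iff.1 hc _)
    have hb := mem_bot.1 ((CfsgLib.Recog.center_SL_two_eq_bot (F := F)).le hc')
    exact CfsgLib.Recog.pslEquivSL.symm.injective (hb.trans (map_one _).symm)
  have hiso : Function.Bijective ((QuotientGroup.mk' C).comp ι) := by
    refine ⟨(injective_iff_map_eq_one _).2 fun p hp => hCL p ((QuotientGroup.eq_one_iff _).1 hp),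
      fun y => ?_⟩
    obtain ⟨x, rfl⟩ := QuotientGroup.mk'_surjective C y
    have hx : x ∈ ((C ⊔ L : Subgroup G) : Set G) := by rw [htop]; trivial
    rw [mul_normal] at hx
    obtain ⟨c, hc, l, ⟨p, rfl⟩, rfl⟩ := hx
    refine ⟨p, ?_⟩
    show QuotientGroup.mk' C (ι p) = QuotientGroup.mk' C (c * ι p)
    rw [map_mul, show QuotientGroup.mk' C c = 1 from (QuotientGroup.eq_one_iff c).2 hc, one_mul]
  refine ⟨C, hCn, fun h4 => ?_, F, iF, iFt, by omega, Or.inl
    ⟨(MulEquiv.ofBijective _ hiso).symm⟩⟩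
  obtain ⟨W, hW⟩ := Sylow.exists_subgroup_card_pow_prime (G := C) 2 (n := 2) (by simpa using h4)
  set W' := W.map C.subtype
  have hW'4 : Nat.card W' = 4 := by rw [card_map_of_injective C.subtype_injective, hW]; norm_num
  obtain ⟨g', hg'⟩ := exists_conj_le Q (IsPGroup.of_card (n := 2) (by rw [hW'4]; norm_num) :
    IsPGroup 2 W')
  set W'' := W'.map (MulAut.conj g').toMonoidHom
  have hmem : ∀ w ∈ W'', w ∈ (Q : Subgroup G) ∧ w ∈ C := by
    rintro _ ⟨w, hw, rfl⟩
    exact ⟨hg' w hw, hCn.conj_mem w (map_subtype_le _ hw) g'⟩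
  have hLH : ¬ L ≤ H := fun hle => by
    have hab : ∀ a ∈ L, ∀ b ∈ L, a * b = b * a := fun a ha b hb =>
      D.comm a (hA0 a (hle ha) (by rw [hLeq] at ha; exact map_subtype_le _ ha))
        b (hA0 b (hle hb) (by rw [hLeq] at hb; exact map_subtype_le _ hb))
    haveI : Group.IsSolvable (Matrix.SpecialLinearGroup (Fin 2) F) :=
      Group.isSolvable_of_comm fun a b => CfsgLib.Recog.pslEquivSL.injective (hι (by
        rw [map_mul, map_mul, map_mul, map_mul]
        exact hab _ ⟨_, rfl⟩ _ ⟨_, rfl⟩))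
    refine hns0 (Group.isSolvable_of_isSolvable_injective (f := e.toMonoidHom) e.injective)
  have hWA : W'' ⊓ A = ⊥ := by
    refine eq_bot_iff.2 fun w hw => mem_bot.2 ?_
    by_contra hw1
    obtain ⟨k, hk⟩ := IsPGroup.iff_orderOf.1 Q.isPGroup' ⟨w, (hmem w hw.1).1⟩
    rw [Subgroup.orderOf_mk] at hk
    rcases k with _ | k
    · exact hw1 (orderOf_eq_one_iff.1 (by rw [hk, pow_zero]))
    · set w' := w ^ 2 ^ k
      have hw'o : orderOf w' = 2 := by
        rw [orderOf_pow' _ (pow_ne_zero _ two_ne_zero), hk, pow_succ,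
          Nat.gcd_eq_right (dvd_mul_right _ _), Nat.mul_div_cancel_left _ (pow_pos two_pos k)]
      refine hLH fun l hl => ?_
      rw [← D.cent w' (pow_mem hw.2 _) hw'o]
      refine mem_centralizer_singleton_iff.2 ?_
      exact mem_centralizer_iff.1 (C.pow_mem (hmem w hw.1).2 _) l hl
  have hW''4 : Nat.card W'' = 4 := by
    rw [card_map_of_injective (MulAut.conj g').injective, hW'4]
  have hle2 : Nat.card W'' ≤ 2 := by
    by_contra hlt
    -- two elements outside `A` differ by an element of `A`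
    haveI : Nontrivial W'' := Finite.one_lt_card_iff_nontrivial.1 (by omega)
    obtain ⟨⟨a, ha⟩, ha1⟩ := exists_ne (1 : W'')
    have haA : a ∉ A := fun h => ha1 (Subtype.ext (mem_bot.1 (hWA ▸ ⟨ha, h⟩ : a ∈ (⊥ : Subgroup G))))
    have hall : ∀ b ∈ W'', b = 1 ∨ b = a := fun b hb => by
      by_cases hbA : b ∈ A
      · exact Or.inl (mem_bot.1 (hWA ▸ ⟨hb, hbA⟩ : b ∈ (⊥ : Subgroup G)))
      · right
        have e1 := (D.cover a (hQH (hmem a ha).1)).resolve_left haA
        have e2 := (D.cover b (hQH (hmem b hb).1)).resolve_left hbA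
        have hab : a * b⁻¹ ∈ A := by
          have := mul_mem e1 (inv_mem e2)
          rwa [show a * u * (b * u)⁻¹ = a * b⁻¹ by group] at this
        have := mem_bot.1 (hWA ▸ ⟨W''.mul_mem ha (W''.inv_mem hb), hab⟩ : a * b⁻¹ ∈ (⊥ : Subgroup G))
        exact (mul_inv_eq_one.1 this).symm
    have hsurj : Function.Surjective (fun b : Bool => bif b then (⟨a, ha⟩ : W'') else 1) := by
      rintro ⟨b, hb⟩
      rcases hall b hb with e' | e'
      · exact ⟨false, Subtype.ext e'.symm⟩
      · exact ⟨true, Subtype.ext e'.symm⟩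
    have := Nat.card_le_card_of_surjective _ hsurj
    simp at this
    omega
  omega

end CfsgLib.DGroup
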