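import Cfsg.Agent.Lib.KnownB.PSLAut.FieldAut
import Cfsg.Agent.Lib.Classical.Order

/-!
# Automorphisms of `PSL(2, q)` that fix no four-group
-/

set_option autoImplicit false
set_option linter.style.haveILetI false

namespace CfsgLib.DGroup

open Matrix CfsgLib.KnownB.PSLAut

variable {F : Type*} [Field F]

local notation "PSL2" => Matrix.ProjectiveSpecialLinearGroup (Fin 2) F
local notation "SL2" => Matrix.SpecialLinearGroup (Fin 2) F

theorem not_mem_center_SL2 {A : SL2}
    (h : (A : Matrix (Fin 2) (Fin 2) F) 0 1 ≠ 0 ∨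
      (A : Matrix (Fin 2) (Fin 2) F) 0 0 ≠ (A : Matrix (Fin 2) (Fin 2) F) 1 1) :
    A ∉ Subgroup.center SL2 := by
  intro hA
  obtain ⟨r, -, hr⟩ := Matrix.SpecialLinearGroup.mem_center_iff.1 hA
  rw [← hr] at h
  simp at h

variable [Finite F]

/-- A nontrivial field automorphism fixes two commuting involutions. -/
theorem exists_four_fixed (h2 : Odd (Nat.card F)) (σ : F ≃+* F) :
    ∃ s t : PSL2, orderOf s = 2 ∧ orderOf t = 2 ∧ Commute s t ∧ s ≠ t ∧
      fld σ s = s ∧ fld σ t = t := by
  obtain ⟨p, hp⟩ := CharP.exists F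
  haveI : NeZero p := ⟨fun h0 => by
    subst h0
    haveI := CharP.charP_to_charZero F
    exact not_finite F⟩
  obtain ⟨a, b, hab⟩ := CharP.sq_add_sq F p (-1)
  push_cast at hab
  have h20 : (2 : F) ≠ 0 := by
    intro h
    haveI := Fintype.ofFinite F
    haveI := ringChar.charP F
    have hc : ringChar F = 2 := by
      have h' : ((2 : ℕ) : F) = 0 := by exact_mod_cast h
      exact ((Nat.prime_dvd_prime_iff_eq (CharP.char_is_prime F (ringChar F)) Nat.prime_two).1
        (ringChar.dvd h'))
    have := FiniteField.even_card_iff_char_two.1 hc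
    rw [Nat.card_eq_fintype_card, Nat.odd_iff] at h2
    omega
  let J : SL2 := ⟨!![0, 1; -1, 0], by simp [Matrix.det_fin_two_of]⟩
  let K : SL2 := ⟨!![(a : F), b; b, -a], by
    rw [Matrix.det_fin_two_of]; linear_combination -hab⟩
  let m : SL2 := ⟨!![-1, 0; 0, -1], by simp [Matrix.det_fin_two_of]⟩
  have hm : m ∈ Subgroup.center SL2 := by
    refine Matrix.SpecialLinearGroup.mem_center_iff.2 ⟨-1, by simp, ?_⟩
    ext i j
    fin_cases i <;> fin_cases j <;> simp [m]
  have hJJ : J * J = m := Subtype.ext (by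
    show (!![0, 1; -1, 0] : Matrix (Fin 2) (Fin 2) F) * !![0, 1; -1, 0] = !![-1, 0; 0, -1]
    simp)
  have hKK : K * K = m := Subtype.ext (by
    show (!![(a : F), b; b, -a] : Matrix (Fin 2) (Fin 2) F) * !![(a : F), b; b, -a] =
      !![-1, 0; 0, -1]
    ext i j
    fin_cases i <;> fin_cases j <;> simp
    · linear_combination hab
    · ring
    · ring
    · linear_combination hab)
  have hJK : K * J = m * (J * K) := Subtype.ext (by
    show (!![(a : F), b; b, -a] : Matrix (Fin 2) (Fin 2) F) * !![0, 1; -1, 0] =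
      !![-1, 0; 0, -1] * (!![0, 1; -1, 0] * !![(a : F), b; b, -a])
    simp)
  have hord : ∀ A : SL2, A * A = m → A ∉ Subgroup.center SL2 →
      orderOf (QuotientGroup.mk A : PSL2) = 2 := fun A hA hne => by
    haveI : Fact (Nat.Prime 2) := ⟨Nat.prime_two⟩
    refine orderOf_eq_prime ?_ fun h => hne ((QuotientGroup.eq_one_iff A).1 h)
    rw [sq, ← QuotientGroup.mk_mul, hA]
    exact (QuotientGroup.eq_one_iff m).2 hm
  refine ⟨QuotientGroup.mk J, QuotientGroup.mk K,
    hord J hJJ (not_mem_center_SL2 (Or.inl (by simp [J]))),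
    hord K hKK (not_mem_center_SL2 ?_), ?_, ?_, ?_, ?_⟩
  · by_cases hb : (b : F) = 0
    · refine Or.inr ?_
      simp only [K]
      intro h
      simp at h
      have ha : (a : F) = 0 := by
        have : (2 : F) * (a : F) = 0 := by linear_combination h
        exact (mul_eq_zero.1 this).resolve_left h20
      rw [ha, hb] at hab
      simp at hab
    · exact Or.inl (by simpa [K] using hb)
  · show (QuotientGroup.mk J : PSL2) * QuotientGroup.mk K = QuotientGroup.mk K * QuotientGroup.mk J
    rw [← QuotientGroup.mk_mul, ← QuotientGroup.mk_mul, hJK]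
    have h1 : QuotientGroup.mk' (Subgroup.center SL2) m = 1 := (QuotientGroup.eq_one_iff m).2 hm
    have h2' := map_mul (QuotientGroup.mk' (Subgroup.center SL2)) m (J * K)
    rw [h1, one_mul] at h2'
    exact h2'.symm
  · intro h
    have h' := QuotientGroup.eq.1 h
    refine not_mem_center_SL2 ?_ h'
    have e : ((J⁻¹ * K : SL2) : Matrix (Fin 2) (Fin 2) F) = !![-(b : F), (a : F); a, b] := by
      rw [Matrix.SpecialLinearGroup.coe_mul, Matrix.SpecialLinearGroup.coe_inv]
      simp [J, K, Matrix.adjugate_fin_two]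
    rw [e]
    by_cases ha : (a : F) = 0
    · refine Or.inr ?_
      intro h
      simp at h
      have hb : (b : F) = 0 := by
        have : (2 : F) * (b : F) = 0 := by linear_combination -h
        exact (mul_eq_zero.1 this).resolve_left h20
      rw [ha, hb] at hab
      simp at hab
    · exact Or.inl (by simpa using ha)
  · rw [fld_mk]
    refine congrArg _ (Subtype.ext ?_)
    rw [fieldSL_coe]
    ext i j
    fin_cases i <;> fin_cases j <;> simp [J]
  · rw [fld_mk]
    refine congrArg _ (Subtype.ext ?_)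
    rw [fieldSL_coe]
    ext i j
    fin_cases i <;> fin_cases j <;> simp [K]

/-- An automorphism of order dividing two is inner-diagonal or fixes two commuting involutions. -/
theorem mem_range_δ_or (h2 : Odd (Nat.card F)) (α : MulAut PSL2) (hα : α * α = 1) :
    α ∈ (δ : GL (Fin 2) F →* MulAut PSL2).range ∨
      ∃ s t : PSL2, orderOf s = 2 ∧ orderOf t = 2 ∧ Commute s t ∧ s ≠ t ∧ α s = s ∧ α t = t := by
  obtain ⟨g, σ, e, he, rfl⟩ := decomp (le_refl 2) α
  rcases he with rfl | ⟨-, h3⟩
  swap
  · omega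
  rw [mul_one] at hα ⊢
  by_cases hσ : σ = 1
  · left
    rw [hσ, map_one, mul_one]
    exact ⟨g, rfl⟩
  right
  have hσ2 : σ * σ = 1 := by
    rw [show (δ g : MulAut PSL2) * fld σ * (δ g * fld σ) =
      δ g * (fld σ * δ g) * fld σ by simp only [mul_assoc], fld_δ, ← mul_assoc, ← map_mul,
      mul_assoc, ← map_mul] at hα
    exact (δ_fld_eq_one le_rfl hα).2
  have hord : orderOf σ = 2 := by
    haveI : Fact (Nat.Prime 2) := ⟨Nat.prime_two⟩
    exact orderOf_eq_prime (by rwa [sq]) hσ
  have hαo : orderOf ((δ g : MulAut PSL2) * fld σ) = 2 := by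
    haveI : Fact (Nat.Prime 2) := ⟨Nat.prime_two⟩
    exact orderOf_eq_prime (by rwa [sq]) fun h => hσ (δ_fld_eq_one le_rfl h).2
  obtain ⟨h, -, hh⟩ := field_coset (le_refl 2) two_pos hord _ ⟨g, rfl⟩ hαo
  obtain ⟨s, t, hs, ht, hc, hne, hfs, hft⟩ := exists_four_fixed h2 σ
  have hfix : ∀ w : PSL2, fld σ w = w → (δ g * fld σ : MulAut PSL2) (h w) = h w := fun w hw => by
    rw [hh, MulAut.mul_apply, MulAut.mul_apply]
    show h (fld σ (h⁻¹ (h w))) = h w
    rw [show h⁻¹ (h w) = w from h.symm_apply_apply w, hw]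
  exact ⟨h s, h t, by rw [MulEquiv.orderOf_eq, hs], by rw [MulEquiv.orderOf_eq, ht], hc.map h.toMonoidHom,
    fun e => hne (h.injective e), hfix s hfs, hfix t hft⟩

end CfsgLib.DGroup
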