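import Cfsg.Agent.Lib.DGroup.Basic
import Cfsg.Agent.Lib.Blocks.DihedralOrder
import Cfsg.Agent.Lib.Blocks.KleinPrincipal
import Cfsg.Agent.Lib.CharApps.AbelianSylow
import Cfsg.Agent.S4479

/-!
# Order bounds for one class of involutions

With `c = |C(z)|` and `e = |C(z, r)|`, the order formulas of Brauer give
`3 c³ ≤ |G| e² ≤ 18 c³`, and equality on the left forces a nonprincipal linear character when the
Sylow subgroup is a four-group.
-/

set_option autoImplicit false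
set_option linter.unusedSectionVars false
set_option linter.style.haveILetI false

namespace CfsgLib.DGroup

open Subgroup CfsgLib.Involutions CfsgLib.Chars CfsgLib.Blocks Cfsg

universe u

variable {G : Type u} [Group G] [Finite G]

/-- A character with constant value on the nontrivial elements of a cyclic subgroup of order
divisible by four is congruent to that value modulo four at the identity. -/
theorem four_dvd_deg_sub [Fintype G] (χ : IrrCharacter G) (C : Subgroup G) (δ : ℤ)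
    (h4 : 4 ∣ Nat.card C) (hval : ∀ a ∈ C, a ≠ 1 → (χ : G → ℂ) a = δ) :
    (4 : ℤ) ∣ (charDegree (χ : G → ℂ) : ℤ) - δ := by
  classical
  obtain ⟨m, hm⟩ := inner_irr_right_nat
    (isCharacter_restrict C (isCharacter_of_irr χ.2)) (principal C)
  rw [inner_def, ← Finset.add_sum_erase _ _ (Finset.mem_univ (1 : C)),
    Finset.sum_congr rfl (g := fun _ => (δ : ℂ)) (fun y hy => by
      rw [principal_apply, map_one, mul_one]
      exact hval y y.2 (fun e => Finset.ne_of_mem_erase hy (Subtype.ext e))),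
    Finset.sum_const, Finset.card_erase_of_mem (Finset.mem_univ _), Finset.card_univ,
    ← Nat.card_eq_fintype_card, principal_apply, map_one, mul_one, Subgroup.coe_one,
    CfsgLib.CharApps.deg_eq] at hm
  have hpos : 0 < Nat.card C := Nat.card_pos
  rw [inv_mul_eq_iff_eq_mul₀ (Nat.cast_ne_zero.2 hpos.ne'), nsmul_eq_mul,
    Nat.cast_sub (show 1 ≤ Nat.card C by omega)] at hm
  have e : (charDegree (χ : G → ℂ) : ℤ) + ((Nat.card C : ℤ) - 1) * δ = Nat.card C * (m : ℤ) := by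
    apply Int.cast_injective (α := ℂ)
    push_cast at hm ⊢
    linear_combination hm
  have h4' : (4 : ℤ) ∣ (Nat.card C : ℤ) := by exact_mod_cast h4
  have : (charDegree (χ : G → ℂ) : ℤ) - δ = Nat.card C * ((m : ℤ) - δ) := by linear_combination e
  rw [this]
  exact h4'.mul_right _

/-- The order of the centralizer of `z`. -/
noncomputable abbrev cz {P : Sylow 2 G} (d : DP (P : Subgroup G)) : ℕ :=
  Nat.card (centralizer ({d.z} : Set G))

/-- The order of the centralizer of `⟨z, r⟩`. -/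
noncomputable abbrev ce {P : Sylow 2 G} (d : DP (P : Subgroup G)) : ℕ :=
  Nat.card (centralizer ({d.z, d.r 0} : Set G))

namespace Cen

variable {P : Sylow 2 G} {d : DP (P : Subgroup G)} {R : Subgroup G} (h : Cen d R)
include h

theorem bounds_of_two_le (hT : ∀ i, ¬ d.F2 i) (hn : 2 ≤ d.n) :
    3 * (cz d) ^ 3 ≤ Nat.card G * (ce d) ^ 2 ∧ Nat.card G * (ce d) ^ 2 ≤ 18 * (cz d) ^ 3 := by
  classical
  haveI := Fintype.ofFinite G
  haveI : Fact (Nat.Prime 2) := ⟨Nat.prime_two⟩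
  obtain ⟨M, hM⟩ := CfsgLib.CharApps.exists_pModular 2
  haveI := isPrime_of_isPModular hM
  set N := 2 ^ d.n with hN
  haveI : NeZero N := ⟨pow_ne_zero _ two_ne_zero⟩
  obtain ⟨ζ, hζ⟩ : ∃ ζ : ℂ, IsPrimitiveRoot ζ N :=
    ⟨_, Complex.isPrimitiveRoot_exp N (NeZero.ne N)⟩
  obtain ⟨-, X, Y, Z, E, δ, _δ₂, _δ₃, hδ, -, -, -, hX, -, -, -, -, -, -, hblock, hvals, -⟩ :=
    dihedral_principalBlock d hM hn hζ
  have hXB : X ∈ principalBlock M G := by
    rw [hblock]; exact Or.inr (Or.inl rfl)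
  have hval : ∀ l : ℕ, 0 < l → l < N → (X : G → ℂ) (d.x ^ l) = δ :=
    fun l h1 h2 => (hvals l h1 h2).1
  obtain ⟨hne, hformula⟩ := dihedral_order_formula d hM hn
    (fun s hs => d.isConj_z hT hs) X hXB hX δ hδ hval
  have hmod : (4 : ℤ) ∣ (charDegree (X : G → ℂ) : ℤ) - δ := by
    refine four_dvd_deg_sub X (zpowers d.x) δ ?_ fun a ha ha1 => ?_
    · rw [Nat.card_zpowers, d.orderOf_x]
      exact (pow_dvd_pow 2 hn)
    · obtain ⟨l, rfl⟩ := mem_powers_iff_mem_zpowers.2 ha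
      show (X : G → ℂ) (d.x ^ l) = δ
      have hl : d.x ^ (l % orderOf d.x) = d.x ^ l := pow_mod_orderOf _ _
      have ha1' : d.x ^ l ≠ 1 := ha1
      rw [← hl] at ha1' ⊢
      refine hval _ (Nat.pos_of_ne_zero fun e => ha1' (by rw [e, pow_zero])) ?_
      rw [hN, ← d.orderOf_x]; exact Nat.mod_lt _ (orderOf_pos _)
  have hx0 : 0 < charDegree (X : G → ℂ) := CfsgLib.CharApps.deg_pos X
  set x := charDegree (X : G → ℂ) with hx
  rw [h.card_pair 1, ← h.card_pair 0] at hformula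
  have hce : (0 : ℚ) < (ce d) := Nat.cast_pos.2 Nat.card_pos
  have key : (Nat.card G : ℤ) * ((x : ℤ) - δ) ^ 2 * ((ce d) : ℤ) ^ 2 =
      8 * ((x : ℤ) * ((x : ℤ) + δ)) * ((cz d) : ℤ) ^ 3 := by
    apply Int.cast_injective (α := ℚ)
    push_cast
    rw [hformula]
    field_simp
    ring
  have hx3 : (δ = 1 ∧ 5 ≤ (x : ℤ)) ∨ (δ = -1 ∧ 3 ≤ (x : ℤ)) := by
    rcases hδ with rfl | rfl <;> omega
  have hd2 : (0 : ℤ) < ((x : ℤ) - δ) ^ 2 := pow_two_pos_of_ne_zero (sub_ne_zero.2 hne)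
  have hlo : 3 * ((x : ℤ) - δ) ^ 2 ≤ 8 * ((x : ℤ) * ((x : ℤ) + δ)) := by
    rcases hx3 with ⟨rfl, h5⟩ | ⟨rfl, h5⟩ <;> nlinarith
  have hhi : 8 * ((x : ℤ) * ((x : ℤ) + δ)) ≤ 18 * ((x : ℤ) - δ) ^ 2 := by
    rcases hx3 with ⟨rfl, h5⟩ | ⟨rfl, h5⟩ <;> nlinarith
  have hc3 : (0 : ℤ) ≤ ((cz d) : ℤ) ^ 3 := by positivity
  constructor
  · have : 3 * ((cz d) : ℤ) ^ 3 * ((x : ℤ) - δ) ^ 2 ≤
        (Nat.card G : ℤ) * ((ce d) : ℤ) ^ 2 * ((x : ℤ) - δ) ^ 2 := by
      have := mul_le_mul_of_nonneg_right hlo hc3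
      linarith
    exact_mod_cast le_of_mul_le_mul_right this hd2
  · have : (Nat.card G : ℤ) * ((ce d) : ℤ) ^ 2 * ((x : ℤ) - δ) ^ 2 ≤
        18 * ((cz d) : ℤ) ^ 3 * ((x : ℤ) - δ) ^ 2 := by
      have := mul_le_mul_of_nonneg_right hhi hc3
      linarith
    exact_mod_cast le_of_mul_le_mul_right this hd2

set_option maxHeartbeats 1000000 in
theorem bounds_of_klein (hT : ∀ i, ¬ d.F2 i) (hn : d.n = 1) :
    (3 * (cz d) ^ 3 ≤ Nat.card G * (ce d) ^ 2 ∧ Nat.card G * (ce d) ^ 2 ≤ 18 * (cz d) ^ 3) ∧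
      (Nat.card G * (ce d) ^ 2 = 3 * (cz d) ^ 3 →
        ∃ N : Subgroup G, N.Normal ∧ N ≠ ⊤ ∧ ∀ t : G, orderOf t = 2 → t ∈ N) := by
  classical
  haveI := Fintype.ofFinite G
  haveI : Fact (Nat.Prime 2) := ⟨Nat.prime_two⟩
  obtain ⟨M, hM⟩ := CfsgLib.CharApps.exists_pModular 2
  haveI := isPrime_of_isPModular hM
  have hPT : (P : Subgroup G) = d.TG 0 := by
    haveI := d.isKleinFour_TG 0
    exact (eq_of_le_of_card_ge (d.TG_le 0)
      (by rw [(d.isKleinFour_TG 0).card_four]; exact (d.card_eq_four_iff.2 hn).le)).symm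
  have hP : IsKleinFour (P : Subgroup G) := hPT ▸ d.isKleinFour_TG 0
  have hone : ∀ s : G, orderOf s = 2 → IsConj d.z s := fun s hs => d.isConj_z hT hs
  obtain ⟨K⟩ := exists_kleinData hM P hP (fun s t hs ht => (hone s hs).symm.trans (hone t ht))
    (J := d.z) d.orderOf_z
  obtain ⟨g₀, hg₀, hG⟩ : ∃ g₀, Odd g₀ ∧ Nat.card G = 4 * g₀ := by
    refine ⟨(P : Subgroup G).index, ?_, ?_⟩
    · exact Nat.odd_iff.2 (Nat.two_dvd_ne_zero.1 P.not_dvd_index)
    · rw [← hP.card_four, Subgroup.card_mul_index]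
  have hnc : ¬ ∃ N : Subgroup G, N.Normal ∧ Nat.card N = g₀ := by
    rintro ⟨N, hNn, hNc⟩
    haveI := hNn
    have hidx : N.index = 2 ^ 2 := by
      have h1 := N.card_mul_index
      rw [hNc, hG, mul_comm 4] at h1
      exact Nat.eq_of_mul_eq_mul_left hg₀.pos h1
    have hab := IsPGroup.commutative_of_card_eq_prime_sq (G := G ⧸ N) (p := 2)
      (by rw [← Subgroup.index_eq_card, hidx])
    obtain ⟨w, hw⟩ := isConj_iff.1 (hone _ (d.orderOf_r 0))
    have e : (QuotientGroup.mk' N) d.z = QuotientGroup.mk' N (d.r 0) := by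
      rw [← hw, map_mul, map_mul, hab, ← mul_assoc, ← map_mul, inv_mul_cancel, map_one, one_mul]
    have hmem : d.z⁻¹ * d.r 0 ∈ N := (QuotientGroup.eq).1 e
    rw [invol_inv d.orderOf_z, d.z_mul_r] at hmem
    have := Subgroup.orderOf_dvd_natCard N hmem
    rw [d.orderOf_r, hNc] at this
    exact Nat.not_even_iff_odd.2 hg₀ (even_iff_two_dvd.2 this)
  have hblock : principalBlock M G = {χ : IrrCharacter G | (χ : G → ℂ) = (fun _ => 1) ∨
      χ = K.X ∨ χ = K.Y ∨ χ = K.Z} := by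
    ext χ
    rw [K.block]
    simp only [Set.mem_insert_iff, Set.mem_singleton_iff, Set.mem_ofPred_eq]
    refine or_congr ?_ Iff.rfl
    rw [show (fun _ : G => (1 : ℂ)) = (principal G : G → ℂ) from rfl]
    exact Subtype.coe_inj.symm
  have hfun : ∀ χ : IrrCharacter G, χ ≠ principal G → (χ : G → ℂ) ≠ fun _ => 1 :=
    fun χ hne e => hne (Subtype.ext e)
  have hf := Cfsg.Agent.S4479.result M hM g₀ hg₀ hG hnc P d.z d.z_mem d.orderOf_z K.X K.Y K.Z
    1 K.ε (-1) hblock ⟨hfun _ K.X_ne, hfun _ K.Y_ne, hfun _ K.Z_ne, K.XY, K.XZ, K.YZ⟩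
    ⟨Or.inl rfl, K.ε_cases, Or.inr rfl⟩
    ⟨by rw [K.valX, Int.cast_one], K.valY, by rw [K.valZ, Int.cast_neg, Int.cast_one]⟩
  have hcP : centralizer ((P : Subgroup G) : Set G) = centralizer ({d.z, d.r 0} : Set G) := by
    refine (congrArg (fun T : Subgroup G => centralizer (T : Set G)) hPT).trans ?_
    show centralizer ((closure {d.z, d.r 0} : Subgroup G) : Set G) = _
    rw [centralizer_closure]
  rw [hcP] at hf
  have hrel := K.rel 1 (by simp)
  rw [CfsgLib.CharApps.deg_eq, CfsgLib.CharApps.deg_eq, CfsgLib.CharApps.deg_eq] at hrel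
  have hx0 := CfsgLib.CharApps.deg_pos K.X
  have hy0 := CfsgLib.CharApps.deg_pos K.Y
  have hw0 := CfsgLib.CharApps.deg_pos K.Z
  have hmx := K.modX
  have hmy := K.modY
  have hmw := K.modZ
  set x := charDegree (K.X : G → ℂ) with hx
  set y := charDegree (K.Y : G → ℂ) with hy
  set w := charDegree (K.Z : G → ℂ) with hw
  have hrel' : 1 + (x : ℤ) + K.ε * y - w = 0 := by
    apply Int.cast_injective (α := ℂ)
    push_cast
    linear_combination hrel
  have hw3 : 3 ≤ (w : ℤ) := by omega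
  have hy3 : K.ε = -1 → 3 ≤ (y : ℤ) := fun e => by rw [e] at hmy; omega
  have hy5 : K.ε = 1 → y = 1 ∨ 5 ≤ (y : ℤ) := fun e => by rw [e] at hmy; omega
  have hx5 : x = 1 ∨ 5 ≤ (x : ℤ) := by omega
  have hye : (y : ℤ) + K.ε ≠ 0 := by
    rcases K.ε_cases with e | e
    · rw [e]; omega
    · have := hy3 e; rw [e]; omega
  have key : (Nat.card G : ℤ) * ((ce d) : ℤ) ^ 2 * (((x : ℤ) + 1) * ((y : ℤ) + K.ε) * ((w : ℤ) - 1)) =
      8 * ((x : ℤ) * y * w) * ((cz d) : ℤ) ^ 3 := by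
    have hne1 : (x : ℚ) + 1 ≠ 0 := by positivity
    have hne2 : (y : ℚ) + (K.ε : ℚ) ≠ 0 := by exact_mod_cast hye
    have hne3 : (w : ℚ) + -1 ≠ 0 := by
      have : (w : ℤ) + -1 ≠ 0 := by omega
      exact_mod_cast this
    have hce : ((ce d) : ℚ) ≠ 0 := Nat.cast_ne_zero.2 Nat.card_pos.ne'
    apply Int.cast_injective (α := ℚ)
    push_cast
    push_cast at hf
    rw [hf]
    field_simp
    ring
  have hc3 : (0 : ℤ) < ((cz d) : ℤ) ^ 3 := pow_pos (Nat.cast_pos.2 Nat.card_pos) 3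
  set A : ℤ := (x : ℤ) * y * w with hA
  set B : ℤ := ((x : ℤ) + 1) * ((y : ℤ) + K.ε) * ((w : ℤ) - 1) with hB
  obtain ⟨hBpos, hlo, hhi, heq⟩ : 0 < B ∧ 3 * B ≤ 8 * A ∧ 8 * A ≤ 18 * B ∧
      (8 * A = 3 * B → x = 1) := by
    rcases K.ε_cases with e | e
    · rw [e] at hrel'
      rw [hA, hB, e, show (w : ℤ) = 1 + x + y by linarith]
      rcases hx5 with h1 | h1 <;> rcases hy5 e with h2 | h2
      · rw [h1, h2]; norm_num
      · have hy' : (0 : ℤ) ≤ y := by linarith
        rw [h1]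
        refine ⟨mul_pos (mul_pos (by norm_num) (by linarith)) (by push_cast; linarith), ?_, ?_,
          fun _ => rfl⟩ <;> push_cast <;> nlinarith
      · have hx' : (0 : ℤ) ≤ x := by linarith
        rw [h2]
        refine ⟨mul_pos (mul_pos (by linarith) (by norm_num)) (by push_cast; linarith), ?_, ?_,
          fun hh => ?_⟩ <;> push_cast at * <;> nlinarith
      · set a : ℤ := (x : ℤ)
        set b : ℤ := (y : ℤ)
        have ha0 : 0 ≤ a := by linarith
        have hb0 : 0 ≤ b := by linarith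
        have h36 : 25 * ((a + 1) * (b + 1)) ≤ 36 * (a * b) := by
          have := mul_nonneg (sub_nonneg.2 h1) (sub_nonneg.2 h2)
          linarith
        have k1 := mul_le_mul_of_nonneg_right h36 (add_nonneg ha0 hb0)
        have k2 : 0 < a * b * (a + b + 1) := by positivity
        have k3 : a * b ≤ (a + 1) * (b + 1) := by linarith
        have k4 := mul_le_mul_of_nonneg_right k3 (show (0 : ℤ) ≤ a + b + 1 by linarith)
        have k5 := mul_nonneg (mul_nonneg (show (0 : ℤ) ≤ a + 1 by linarith)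
          (show (0 : ℤ) ≤ b + 1 by linarith)) (show (0 : ℤ) ≤ a + b - 1 by linarith)
        refine ⟨?_, by linarith, by linarith, fun hh => ?_⟩
        · exact mul_pos (mul_pos (by linarith) (by linarith)) (by linarith)
        · exfalso; linarith
    · rw [e] at hrel'
      have h2 := hy3 e
      rw [hA, hB, e, show (x : ℤ) = w + y - 1 by linarith]
      set b : ℤ := (y : ℤ)
      set c : ℤ := (w : ℤ)
      have hb : 0 < b := by linarith
      have hc : 0 < c := by linarith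
      have k0 : 0 < (c + b - 1) * b * c := mul_pos (mul_pos (by linarith) hb) hc
      have hB0 : 0 < (c + b - 1 + 1) * (b + -1) * (c - 1) :=
        mul_pos (mul_pos (by linarith) (by linarith)) (by linarith)
      have k1 : (b + -1) * (c - 1) ≤ b * c := by linarith
      have k2 := mul_le_mul_of_nonneg_left k1 (show (0 : ℤ) ≤ c + b by linarith)
      have k3 := mul_nonneg (mul_nonneg (show (0 : ℤ) ≤ c + b - 2 by linarith) hb.le) hc.le
      have k4 : 4 * (b * c) ≤ 9 * ((b + -1) * (c - 1)) := by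
        have := mul_nonneg (sub_nonneg.2 h2) (sub_nonneg.2 hw3)
        linarith
      have k5 := mul_le_mul_of_nonneg_left k4 (show (0 : ℤ) ≤ c + b - 1 by linarith)
      have k6 : 0 ≤ (b + -1) * (c - 1) := mul_nonneg (by linarith) (by linarith)
      refine ⟨hB0, by linarith, by linarith, fun hh => ?_⟩
      exfalso; linarith
  refine ⟨⟨?_, ?_⟩, fun hext => ?_⟩
  · have : 3 * ((cz d) : ℤ) ^ 3 * B ≤ (Nat.card G : ℤ) * ((ce d) : ℤ) ^ 2 * B := by
      have := mul_le_mul_of_nonneg_right hlo hc3.le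
      linarith
    exact_mod_cast le_of_mul_le_mul_right this hBpos
  · have : (Nat.card G : ℤ) * ((ce d) : ℤ) ^ 2 * B ≤ 18 * ((cz d) : ℤ) ^ 3 * B := by
      have := mul_le_mul_of_nonneg_right hhi hc3.le
      linarith
    exact_mod_cast le_of_mul_le_mul_right this hBpos
  · have hext' : (Nat.card G : ℤ) * ((ce d) : ℤ) ^ 2 = 3 * ((cz d) : ℤ) ^ 3 := by exact_mod_cast hext
    have hAB : 8 * A = 3 * B := by
      have : 8 * A * ((cz d) : ℤ) ^ 3 = 3 * B * ((cz d) : ℤ) ^ 3 := by rw [← key, hext']; ring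
      exact mul_right_cancel₀ hc3.ne' this
    have h1 : (K.X : G → ℂ) 1 = 1 := by
      rw [CfsgLib.CharApps.deg_eq, ← hx, heq hAB, Nat.cast_one]
    obtain ⟨lam, hlam⟩ := exists_hom_of_degree_one (isCharacter_of_irr K.X.2) h1
    refine ⟨lam.ker, inferInstance, fun e => K.X_ne (Subtype.ext ?_), fun t ht => ?_⟩
    · funext g
      have hg : lam g = 1 := MonoidHom.mem_ker.1 (e ▸ mem_top g)
      rw [principal_apply, congrFun hlam g, hg, Units.val_one]
    · obtain ⟨w', hw'⟩ := isConj_iff.1 (hone t ht)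
      have hz : (K.X : G → ℂ) t = 1 := by
        rw [← hw', isClassFunction_irr K.X d.z w', K.valX]
      rw [congrFun hlam t] at hz
      exact MonoidHom.mem_ker.2 (Units.ext hz)

theorem bounds (hT : ∀ i, ¬ d.F2 i) :
    3 * (cz d) ^ 3 ≤ Nat.card G * (ce d) ^ 2 ∧ Nat.card G * (ce d) ^ 2 ≤ 18 * (cz d) ^ 3 := by
  by_cases hn : d.n = 1
  · exact (h.bounds_of_klein hT hn).1
  · exact h.bounds_of_two_le hT (by have := d.one_le; omega)

end Cen

end CfsgLib.DGroup
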