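import Cfsg.Agent.Lib.DGroup.Cyclic
import Cfsg.Agent.Lib.DGroup.MaxClass
import Cfsg.Agent.Lib.Involutions.QuasiDihedral
import Cfsg.Agent.Lib.Involutions.Isolated
import Cfsg.Agent.Lib.Involutions.ZStar.Main
import Cfsg.Agent.Lib.PGroups.MaximalClassTwo
import Cfsg.Agent.Lib.Techniques.FourGammaMain

/-!
# An involution with centralizer order `4 * odd` in a group with larger Sylow 2-subgroups
-/

set_option autoImplicit false
set_option linter.unusedSectionVars false
set_option linter.style.haveILetI false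

namespace CfsgLib.DGroup

open Subgroup CfsgLib.Involutions

universe u

variable {G : Type u} [Group G] [Finite G] {H A : Subgroup G} {j u : G}

/-- A conjugate of `j` has no 2-subgroup of order above four in its centralizer. -/
theorem false_of_conj (D : Dih H A j u)
    (hsmall : ∀ W : Subgroup G, IsPGroup 2 W → W ≤ H → Nat.card W ≤ 4) {W : Subgroup G}
    (hW : IsPGroup 2 W) (h8 : 8 ≤ Nat.card W) {v : G} (hv : IsConj v j)
    (hc : ∀ w ∈ W, Commute w v) : False := by
  obtain ⟨g, hg⟩ := isConj_iff.1 hv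
  have hle : W.map (MulAut.conj g).toMonoidHom ≤ H := by
    rintro _ ⟨w, hw, rfl⟩
    rw [← D.cent, ← hg]
    exact mem_centralizer_singleton_iff.2 ((hc w hw).map (MulAut.conj g).toMonoidHom)
  have := hsmall _ (hW.map _) hle
  rw [card_map_of_injective (MulAut.conj g).injective] at this
  omega

theorem Dih.inv_of_ne (D : Dih H A j u) {z : G} (hz : z * z = 1) (hz1 : z ≠ 1) (hzH : z ∈ H)
    (hzj : z ≠ j) {a : G} (ha : a ∈ A) : z * a * z⁻¹ = a⁻¹ := by
  have hzu : z * u ∈ A := (D.cover z hzH).resolve_left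
    fun hzA => ((D.cyc z hzA hz).elim hz1 hzj)
  have e : z = z * u * u := by rw [mul_assoc, D.uu, mul_one]
  calc z * a * z⁻¹ = z * u * u * a * (z * u * u)⁻¹ := by rw [← e]
    _ = z * u * (u * a * u⁻¹) * (z * u)⁻¹ := by group
    _ = a⁻¹ := by rw [D.inv a ha, D.comm _ hzu _ (A.inv_mem ha), mul_inv_cancel_right]

/-- A dihedral Sylow subgroup in which `j` is not central. -/
theorem Dih.out_of_dihedral (D : Dih H A j u)
    (hsmall : ∀ W : Subgroup G, IsPGroup 2 W → W ≤ H → Nat.card W ≤ 4) {P : Sylow 2 G}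
    (d : DP (P : Subgroup G)) (hn : 2 ≤ d.n) (hjP : j ∈ (P : Subgroup G))
    (hns : ¬ Group.IsSolvable G)
    (hO : ∀ N : Subgroup G, N.Normal → Odd (Nat.card N) → N = ⊥) : Out G := by
  have h8 : 8 ≤ Nat.card (P : Subgroup G) := by
    rw [d.card_eq]
    calc 8 = 2 * 2 ^ 2 := rfl
      _ ≤ 2 * 2 ^ d.n := Nat.mul_le_mul_left 2 (Nat.pow_le_pow_right two_pos hn)
  have hzj : ¬ IsConj d.z j := fun hc =>
    false_of_conj D hsmall P.isPGroup' h8 hc fun w hw => (d.commute_z hw).symm
  obtain ⟨i, hi⟩ : ∃ i, j = d.r i := by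
    rcases d.cover j hjP with ⟨i, hi⟩ | ⟨i, hi⟩
    · exfalso
      have h2 := invol_mul_self D.oj
      rw [hi, ← zpow_add, d.zpow_eq_one, ← two_mul] at h2
      rcases d.zpow_of_half_dvd ((Int.mul_dvd_mul_iff_left two_ne_zero).1 h2) with e | e
      · exact invol_ne_one D.oj (hi.trans e)
      · exact hzj ((hi.trans e) ▸ IsConj.refl _)
    · exact ⟨i, hi⟩
  set d' := shiftDP d (i - 1) with hd'
  have hj1 : d'.r 1 = j := by rw [hd', shiftDP_r, hi]; congr 1; ring
  have hn' : 2 ≤ d'.n := hn
  have hF1 : d'.F2 1 := by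
    by_contra hf
    obtain ⟨c, -, -, hc, -⟩ := d'.exists_cycle hf
    refine hzj (isConj_iff.2 ⟨c, ?_⟩)
    rw [← hj1, ← hc]
    rfl
  have hzH : d'.z ∈ H := by
    rw [← D.cent, ← hj1]
    exact mem_centralizer_singleton_iff.2 (d'.commute_z (d'.r_mem 1))
  have hzj' : d'.z ≠ j := fun e => d'.z_ne_r 1 (e.trans hj1.symm)
  have hPC : (P : Subgroup G) ≤ centralizer ({d'.z} : Set G) := fun w hw =>
    mem_centralizer_singleton_iff.2 (d'.commute_z hw).symm
  have hnf : ∀ l, ¬ Fused d' (centralizer ({d'.z} : Set G)) l := by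
    rintro l ⟨c, hc, hn'', ho, a, ha, hca⟩
    have hcz : Commute c d'.z := mem_centralizer_singleton_iff.1 hc
    have hr : c * d'.r l * c⁻¹ = d'.r l := by
      have hzc : c * d'.z * c⁻¹ = d'.z := mul_inv_eq_iff_eq_mul.2 hcz
      rcases d'.mem_TG.1 ((mem_normalizer_iff.1 hn'' _).1 (d'.r_mem_TG l)) with e | e | e | e
      · exact absurd (conj_eq_one_iff.1 e) (invol_ne_one (d'.orderOf_r l))
      · exact absurd (conj_injective (e.trans hzc.symm)).symm (d'.z_ne_r l)
      · exact e
      · exfalso
        have h2 : c * c * d'.r l * (c * c)⁻¹ = d'.r l := by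
          rw [show c * c * d'.r l * (c * c)⁻¹ = c * (c * d'.r l * c⁻¹) * c⁻¹ by group, e,
            show c * (d'.z * d'.r l) * c⁻¹ = c * d'.z * c⁻¹ * (c * d'.r l * c⁻¹) by group, hzc, e,
            ← mul_assoc, invol_mul_self d'.orderOf_z, one_mul]
        have hcc : Commute c (d'.r l) :=
          commute_of_commute_sq ho (mul_inv_eq_iff_eq_mul.1 h2)
        rw [hcc.eq, mul_inv_cancel_right] at e
        exact invol_ne_one d'.orderOf_z (mul_eq_right.1 e.symm)
    exact hca ((mem_centralizer_iff.1 (d'.commute_TG hcz (mul_inv_eq_iff_eq_mul.1 hr)) a ha).symm)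
  obtain ⟨R, hRC, hCR, hRodd, hRP⟩ := exists_core d' hPC hnf
  have hRn : (P : Subgroup G) ≤ normalizer (R : Set G) := hPC.trans hCR
  have hinv1 : ∀ a ∈ R, d'.r 1 * a * (d'.r 1)⁻¹ = a⁻¹ := fun a ha => by
    refine inverts_of_fpf (invol_mul_self (d'.orderOf_r 1)) (hRn (d'.r_mem 1)) (fun b hb hc => ?_) ha
    have hbH : b ∈ H := by
      rw [← D.cent, ← hj1]
      exact mem_centralizer_singleton_iff.2 hc.eq.symm
    have hbo : Odd (orderOf b) := hRodd.of_dvd_nat (Subgroup.orderOf_dvd_natCard R hb)
    have hbA := D.odd_mem_A hbH hbo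
    have h1 := D.inv_of_ne (invol_mul_self d'.orderOf_z) (invol_ne_one d'.orderOf_z) hzH hzj' hbA
    have hbz : Commute b d'.z := mem_centralizer_singleton_iff.1 (hRC hb)
    rw [← hbz.eq, mul_inv_cancel_right] at h1
    exact eq_one_of_inv_eq hbo h1.symm
  have hpre : Pre d' R := by
    refine ⟨hn', hRodd, hRn, hRP.symm, hinv1, fun a ha => ?_⟩
    -- `r 3 = x (r 1) x⁻¹` also inverts `R`
    have h3 : d'.x * d'.r 1 * d'.x⁻¹ = d'.r 3 := by simpa using d'.conj_r 1 1
    have hxa : d'.x⁻¹ * a * d'.x ∈ R := by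
      have := (mem_normalizer_iff.1 (inv_mem (hRn d'.x_mem)) a).1 ha
      simpa using this
    have hinv3 : d'.r 3 * a * (d'.r 3)⁻¹ = a⁻¹ := by
      rw [← h3, show d'.x * d'.r 1 * d'.x⁻¹ * a * (d'.x * d'.r 1 * d'.x⁻¹)⁻¹ =
        d'.x * (d'.r 1 * (d'.x⁻¹ * a * d'.x) * (d'.r 1)⁻¹) * d'.x⁻¹ by group, hinv1 _ hxa]
      group
    have e : d'.x * d'.x = d'.r 3 * d'.r 1 := by
      rw [d'.r_mul_r, show (3 : ℤ) - 1 = 2 by norm_num, zpow_two]
    rw [e]
    refine mul_inv_eq_iff_eq_mul.1 ?_
    rw [show d'.r 3 * d'.r 1 * a * (d'.r 3 * d'.r 1)⁻¹ =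
      d'.r 3 * (d'.r 1 * a * (d'.r 1)⁻¹) * (d'.r 3)⁻¹ by group, hinv1 a ha,
      show d'.r 3 * a⁻¹ * (d'.r 3)⁻¹ = (d'.r 3 * a * (d'.r 3)⁻¹)⁻¹ by group, hinv3, inv_inv]
  by_cases hf0 : d'.F2 0
  · exfalso
    have hall : ∀ l, d'.F2 l := fun l => by
      rcases Int.even_or_odd l with he | ho
      · exact hf0.sim d' (Or.inl (by simpa using he.neg))
      · exact hF1.sim d' (Or.inl (odd_one.sub_odd ho))
    have hFu : ∀ l, ¬ Fused d' (⊤ : Subgroup G) l := fun l ⟨y, _, hy, ho, a, ha, hc⟩ =>
      hc (hall l y hy ho a ha)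
    obtain ⟨O, -, hnorm, hodd, hOP⟩ := exists_core d' (le_top : (P : Subgroup G) ≤ ⊤) hFu
    haveI : O.Normal := normalizer_eq_top_iff.1 (top_le_iff.1 hnorm)
    rw [hO O inferInstance hodd, bot_sup_eq] at hOP
    haveI : Fact (Nat.Prime 2) := ⟨Nat.prime_two⟩
    haveI := (hOP ▸ P.isPGroup' : IsPGroup 2 (⊤ : Subgroup G)).isNilpotent
    exact hns (Group.isSolvable_of_surjective (f := (Subgroup.topEquiv (G := G)).toMonoidHom)
      (Subgroup.topEquiv (G := G)).surjective)
  obtain ⟨F, iF, iFt, -, h3, e⟩ := hpre.exists_pgl hf0 hF1 hns hO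
  exact ⟨F, iF, iFt, h3, Or.inr e⟩

/-- A central subgroup of order two with trivial odd core: the quotient has trivial odd core. -/
theorem odd_normal_quotient (Z : Subgroup G) [Z.Normal] (hZ : Nat.card Z = 2) (_hZc : Z ≤ center G)
    (hO : ∀ N : Subgroup G, N.Normal → Odd (Nat.card N) → N = ⊥)
    (N : Subgroup (G ⧸ Z)) (hN : N.Normal) (hodd : Odd (Nat.card N)) : N = ⊥ := by
  haveI := hN
  set π := QuotientGroup.mk' Z with hπ
  set W := N.comap π with hW
  have hZW : Z ≤ W := fun z hz => by
    show π z ∈ N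
    rw [hπ, QuotientGroup.mk'_apply, (QuotientGroup.eq_one_iff z).2 hz]
    exact one_mem N
  have hWcard : Nat.card W = Nat.card N * 2 := by
    have h1 : W.index = N.index := N.index_comap_of_surjective (QuotientGroup.mk'_surjective Z)
    refine Nat.eq_of_mul_eq_mul_right (Nat.pos_of_ne_zero N.index_ne_zero_of_finite) ?_
    rw [← h1, W.card_mul_index, Subgroup.card_eq_card_quotient_mul_card_subgroup Z, hZ,
      ← N.card_mul_index, h1]
    ring
  set Z' := Z.subgroupOf W with hZ'
  have hZ'card : Nat.card Z' = 2 := (Nat.card_congr (subgroupOfEquivOfLe hZW).toEquiv).trans hZ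
  have hidx : Z'.index = Nat.card N := by
    have := Z'.card_mul_index
    rw [hZ'card, hWcard] at this
    omega
  obtain ⟨M, hM⟩ := Subgroup.exists_right_complement'_of_coprime (N := Z')
    (by rw [hZ'card, hidx]; exact Nat.coprime_two_left.2 hodd)
  have hMcard : Nat.card M = Nat.card N := by
    have := hM.card_mul_card
    rw [hZ'card, hWcard] at this
    omega
  have hMi : M.index = 2 := by
    refine Nat.eq_of_mul_eq_mul_left (Nat.card_pos (α := M)) ?_
    rw [M.card_mul_index, hWcard, hMcard]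
  set M' := M.map W.subtype with hM'
  have hmem : ∀ g ∈ W, Odd (orderOf g) → g ∈ M' := fun g hg ho =>
    ⟨⟨g, hg⟩, mem_of_index_two_of_odd hMi (by rwa [Subgroup.orderOf_mk]), rfl⟩
  haveI : W.Normal := hN.comap π
  have hM'n : M'.Normal := ⟨fun m hm g => by
    obtain ⟨m', hm', rfl⟩ := hm
    refine hmem _ (‹W.Normal›.conj_mem _ m'.2 g) ?_
    rw [show g * W.subtype m' * g⁻¹ = MulAut.conj g (m' : G) from rfl, MulEquiv.orderOf_eq,
      orderOf_coe]
    exact (hMcard ▸ hodd).of_dvd_nat (Subgroup.orderOf_dvd_natCard M hm')⟩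
  have hM'bot := hO M' hM'n (by
    rw [hM', card_map_of_injective W.subtype_injective, hMcard]; exact hodd)
  refine Subgroup.eq_bot_of_card_eq N ?_
  rw [← hMcard, ← card_map_of_injective (f := W.subtype) W.subtype_injective, ← hM', hM'bot,
    card_bot]

/-- The two possibilities when the 2-part of `H` is not a Sylow subgroup. -/
theorem Dih.out_of_four (D : Dih H A j u)
    (hsmall : ∀ W : Subgroup G, IsPGroup 2 W → W ≤ H → Nat.card W ≤ 4)
    (T : Sylow 2 G) (hjT : j ∈ (T : Subgroup G)) (h8 : 8 ≤ Nat.card (T : Subgroup G))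
    (h4 : Nat.card ((T : Subgroup G) ⊓ H : Subgroup G) = 4)
    (hns : ¬ Group.IsSolvable G)
    (hO : ∀ N : Subgroup G, N.Normal → Odd (Nat.card N) → N = ⊥) :
    Out G ∨ ∃ (Z : Subgroup G) (_ : Z.Normal), Nat.card Z = 2 ∧ Out (G ⧸ Z) := by
  haveI : Fact (Nat.Prime 2) := ⟨Nat.prime_two⟩
  obtain ⟨k, hk⟩ := IsPGroup.iff_card.1 T.isPGroup'
  have hk3 : 3 ≤ k := by
    by_contra hlt
    have : 2 ^ k ≤ 2 ^ 2 := Nat.pow_le_pow_right two_pos (by omega)
    omega
  set j' : (T : Subgroup G) := ⟨j, hjT⟩ with hj'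
  have hj'o : orderOf j' = 2 := (Subgroup.orderOf_mk _ _).trans D.oj
  have hcent : Nat.card (centralizer ({j'} : Set (T : Subgroup G))) = 4 := by
    rw [← h4]
    refine Nat.card_congr
      { toFun := fun g => ⟨g.1.1, g.1.2, ?_⟩
        invFun := fun g => ⟨⟨g.1, g.2.1⟩, ?_⟩
        left_inv := fun _ => rfl
        right_inv := fun _ => rfl }
    · rw [← D.cent]
      exact mem_centralizer_singleton_iff.2
        (congrArg Subtype.val (mem_centralizer_singleton_iff.1 g.2))
    · refine mem_centralizer_singleton_iff.2 (Subtype.ext ?_)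
      exact mem_centralizer_singleton_iff.1 (D.cent.ge g.2.2)
  have hjnc : j' ∉ center (T : Subgroup G) := fun h => by
    have : centralizer ({j'} : Set (T : Subgroup G)) = ⊤ :=
      eq_top_iff.2 fun g _ => mem_centralizer_singleton_iff.2 (mem_center_iff.1 h g)
    rw [this, card_top] at hcent
    omega
  have hcl := nilpotencyClass_of_small_cent k _ hk3 hk ⟨j', hj'o, hcent⟩
  rcases PGroups.maximalClass_two_classification hk3 hk hcl with ⟨m, ⟨e⟩⟩ | hqd | ⟨m, ⟨e⟩⟩
  · left
    obtain ⟨d⟩ := nonempty_dp (T.isPGroup') (show 2 ≤ 2 ^ (m + 2) from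
      le_trans (by norm_num) (Nat.pow_le_pow_right two_pos (by omega : 1 ≤ m + 2))) e
    refine D.out_of_dihedral hsmall d ?_ hjT hns hO
    have := d.card_eq
    by_contra hlt
    have : d.n = 1 := by have := d.one_le; omega
    rw [d.card_eq, this] at h8
    omega
  · obtain ⟨m, hm, a, b, ha, hb, hab⟩ := hqd
    obtain ⟨q⟩ : Nonempty (QD (T : Subgroup G)) := ⟨⟨m + 3, a, b, by omega, hm, ha, hb, by
      rw [show m + 3 - 1 = m + 2 by omega]; exact hab⟩⟩
    obtain ⟨i, hie, hji⟩ : ∃ i : ℤ, Even i ∧ j' = q.x ^ i * q.y :=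
      (q.invol_cases hj'o).resolve_left fun e => hjnc (e ▸ q.z_mem_center)
    set z : G := (q.z : G) with hz
    have hzo : orderOf z = 2 := by rw [hz, orderOf_coe, q.orderOf_z]
    have hzc : ∀ w ∈ (T : Subgroup G), Commute w z := fun w hw =>
      congrArg Subtype.val (q.commute_z ⟨w, hw⟩).eq
    have hiso : Cfsg.IsIsolatedInvolution z := by
      refine isolated_of_sylow T hzo fun g hg => ?_
      have ho : orderOf (⟨g * z * g⁻¹, hg⟩ : (T : Subgroup G)) = 2 := by
        rw [Subgroup.orderOf_mk]; exact conj_invol g hzo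
      rcases q.invol_cases ho with e | ⟨l, hl, e⟩
      · exact congrArg Subtype.val e
      · exfalso
        obtain ⟨l', hl'⟩ := q.exists_conj_refl (i := l) (k := i) (hie.sub hl)
        rw [← hji, ← e] at hl'
        refine false_of_conj D hsmall T.isPGroup' h8 (v := z)
          (isConj_iff.2 ⟨((q.x ^ l' : (T : Subgroup G)) : G) * g, ?_⟩) hzc
        have h1 : ((q.x ^ l' : (T : Subgroup G)) : G) * (g * z * g⁻¹) *
            ((q.x ^ l' : (T : Subgroup G)) : G)⁻¹ = j := congrArg Subtype.val hl'
        rw [← h1]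
        group
    have hO' : Cfsg.oddCore G = ⊥ := by
      haveI : (Cfsg.oddCore G).Normal := by unfold Cfsg.oddCore; infer_instance
      exact hO _ inferInstance (Base.odd_card_oddCore G)
    have hzcen := ZStar.mem_center_of_oddCore_eq_bot hiso hO'
    set Z := zpowers z with hZdef
    have hZc : Z ≤ center G := zpowers_le.2 hzcen
    haveI hZn : Z.Normal := ⟨fun n hn g => by
      rw [mem_center_iff.1 (hZc hn) g, mul_inv_cancel_right]; exact hn⟩
    have hZcard : Nat.card Z = 2 := by rw [hZdef, Nat.card_zpowers, hzo]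
    refine Or.inr ⟨Z, hZn, hZcard, ?_⟩
    have hmemZ : ∀ w, w ∈ Z → w = 1 ∨ w = z := by
      rintro w ⟨l, rfl⟩
      show z ^ l = 1 ∨ z ^ l = z
      rcases Int.even_or_odd' l with ⟨r, rfl | rfl⟩
      · left; rw [_root_.zpow_mul, zpow_two, invol_mul_self hzo, one_zpow]
      · right; rw [zpow_add, _root_.zpow_mul, zpow_two, invol_mul_self hzo, one_zpow, one_mul, zpow_one]
    -- `H` has order four
    have hzH : z ∈ H := by
      rw [← D.cent]
      exact mem_centralizer_singleton_iff.2 (mem_center_iff.1 hzcen j).symm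
    have hzj : z ≠ j := fun e => hjnc (by
      have h1 : q.z = j' := Subtype.ext e
      rw [← h1]; exact q.z_mem_center)
    have hA2 : ∀ b ∈ A, b = 1 ∨ b = j := fun b hb => by
      refine D.cyc b hb ?_
      have h1 := D.inv_of_ne (invol_mul_self hzo) (invol_ne_one hzo) hzH hzj hb
      rw [← mem_center_iff.1 hzcen b, mul_inv_cancel_right] at h1
      exact mul_eq_one_iff_eq_inv.2 h1
    have hHmem : ∀ h ∈ H, h = 1 ∨ h = j ∨ h = z ∨ h = j * z := fun h hh => by
      rcases D.cover h hh with h1 | h1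
      · rcases hA2 h h1 with e | e
        · exact Or.inl e
        · exact Or.inr (Or.inl e)
      · have hzu : z * u ∈ A := (D.cover z hzH).resolve_left
          fun hzA => (hA2 z hzA).elim (invol_ne_one hzo) hzj
        have hzj2 : z * j = j * z := (mem_center_iff.1 hzcen j).symm
        have hu : u = z ∨ u = j * z := by
          have e0 : u = z * (z * u) := by rw [← mul_assoc, invol_mul_self hzo, one_mul]
          rcases hA2 _ hzu with e | e
          · left; rw [e0, e, mul_one]
          · right; rw [e0, e, hzj2]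
        have e' : h = h * u * u := by rw [mul_assoc, D.uu, mul_one]
        rcases hA2 _ h1 with e | e <;> rw [e', e] <;> rcases hu with e'' | e'' <;> rw [e'']
        · exact Or.inr (Or.inr (Or.inl (one_mul _)))
        · exact Or.inr (Or.inr (Or.inr (one_mul _)))
        · exact Or.inr (Or.inr (Or.inr rfl))
        · refine Or.inr (Or.inr (Or.inl ?_))
          rw [← mul_assoc, invol_mul_self D.oj, one_mul]
    -- images
    set π := QuotientGroup.mk' Z with hπ
    have hker : ∀ v, π v = 1 ↔ v ∈ Z := fun v => QuotientGroup.eq_one_iff v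
    have hpz : π z = 1 := (hker z).2 (mem_zpowers z)
    set c : G := (q.q : G) with hc
    have hcj : c * j * c⁻¹ = j * z := by
      have e := q.conj_q_refl i
      rw [← hji] at e
      have h1 : j * c * j⁻¹ = c * z := congrArg Subtype.val e
      have hjj : j⁻¹ = j := invol_inv D.oj
      have hzz : z⁻¹ = z := invol_inv hzo
      have h2 : c⁻¹ * j * c = z * j := by
        rw [show c⁻¹ * j * c = c⁻¹ * (j * c * j⁻¹) * j by group, h1]; group
      have h3 : c * (z * j) * c⁻¹ = j := by rw [← h2]; group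
      have hzcc : Commute c z := hzc c q.q.2
      rw [show c * (z * j) * c⁻¹ = c * z * c⁻¹ * (c * j * c⁻¹) by group, hzcc.eq,
        mul_inv_cancel_right] at h3
      have h4' : c * j * c⁻¹ = z⁻¹ * j := eq_inv_mul_of_mul_eq h3
      rw [hzz] at h4'
      exact h4'.trans (mem_center_iff.1 hzcen j).symm
    have hcc : c * c = z := congrArg Subtype.val q.q_mul_q
    set jb := π j with hjb
    set H' := centralizer ({jb} : Set (G ⧸ Z))
    have hjbo : orderOf jb = 2 := by
      refine orderOf_eq_prime ?_ fun e => ?_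
      · rw [hjb, ← map_pow, sq, invol_mul_self D.oj, map_one]
      · rcases hmemZ j ((hker j).1 e) with e' | e'
        · exact invol_ne_one D.oj e'
        · exact hzj e'.symm
    have hA' : ∀ v ∈ zpowers jb, v = 1 ∨ v = jb := by
      rintro v ⟨l, rfl⟩
      show jb ^ l = 1 ∨ jb ^ l = jb
      rcases Int.even_or_odd' l with ⟨r, rfl | rfl⟩
      · left; rw [_root_.zpow_mul, zpow_two, invol_mul_self hjbo, one_zpow]
      · right; rw [zpow_add, _root_.zpow_mul, zpow_two, invol_mul_self hjbo, one_zpow, one_mul, zpow_one]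
    have hcH' : π c ∈ H' := by
      refine mem_centralizer_singleton_iff.2 ?_
      have : π (c * j * c⁻¹) = jb := by rw [hcj, map_mul, hpz, mul_one]
      rw [map_mul, map_mul, map_inv] at this
      exact mul_inv_eq_iff_eq_mul.1 this
    have hcnot : π c ∉ zpowers jb := fun hmem => by
      have hcl : c = 1 ∨ c = z ∨ c = j ∨ c = j * z := by
        rcases hA' _ hmem with e | e
        · rcases hmemZ c ((hker c).1 e) with e' | e'
          · exact Or.inl e'
          · exact Or.inr (Or.inl e')
        · have e2 : π (j⁻¹ * c) = 1 := by rw [map_mul, map_inv, e, ← hjb, inv_mul_cancel]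
          rcases hmemZ _ ((hker _).1 e2) with e' | e'
          · exact Or.inr (Or.inr (Or.inl (inv_mul_eq_one.1 e').symm))
          · exact Or.inr (Or.inr (Or.inr (inv_mul_eq_iff_eq_mul.1 e')))
      have hcom : Commute c j := by
        rcases hcl with e' | e' | e' | e'
        · exact e'.symm ▸ Commute.one_left j
        · exact e'.symm ▸ (mem_center_iff.1 hzcen j).symm
        · exact e'.symm ▸ Commute.refl j
        · exact e'.symm ▸ (Commute.refl j).mul_left (mem_center_iff.1 hzcen j).symm
      rw [hcom.eq, mul_inv_cancel_right] at hcj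
      exact invol_ne_one hzo (mul_eq_left.1 hcj.symm)
    have D' : Dih H' (zpowers jb) jb (π c) :=
      { le := zpowers_le.2 (mem_centralizer_singleton_iff.2 rfl)
        comm := fun a ha b hb => by
          rcases hA' a ha with rfl | rfl
          · rw [one_mul, mul_one]
          · rcases hA' b hb with rfl | rfl
            · rw [one_mul, mul_one]
            · rfl
        u_mem := hcH'
        u_not := hcnot
        uu := by rw [← map_mul, hcc, hpz]
        inv := fun a ha => by
          rcases hA' a ha with rfl | rfl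
          · rw [mul_one, mul_inv_cancel, inv_one]
          · rw [mul_inv_eq_iff_eq_mul.2 (mem_centralizer_singleton_iff.1 hcH'), invol_inv hjbo]
        cover := fun h hh => by
          obtain ⟨g, rfl⟩ := QuotientGroup.mk'_surjective Z h
          have h1 : π (g * j * g⁻¹ * j⁻¹) = 1 := by
            rw [map_mul, map_mul, map_mul, map_inv, map_inv, mul_inv_eq_one,
              mul_inv_eq_iff_eq_mul]
            exact mem_centralizer_singleton_iff.1 hh
          have hmemA : ∀ w, w ∈ H → π w ∈ zpowers jb := fun w hw => by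
            rcases hHmem w hw with rfl | rfl | rfl | rfl
            · rw [map_one]; exact one_mem _
            · exact mem_zpowers _
            · rw [hpz]; exact one_mem _
            · rw [map_mul, hpz, mul_one]; exact mem_zpowers _
          rcases hmemZ _ ((hker _).1 h1) with e | e
          · refine Or.inl (hmemA g ?_)
            rw [← D.cent]
            exact mem_centralizer_singleton_iff.2
              (mul_inv_eq_iff_eq_mul.1 (mul_inv_eq_one.1 e))
          · refine Or.inr ?_
            rw [← map_mul]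
            refine hmemA _ ?_
            rw [← D.cent]
            refine mem_centralizer_singleton_iff.2 (mul_inv_eq_iff_eq_mul.1 ?_)
            rw [show g * c * j * (g * c)⁻¹ = g * (c * j * c⁻¹) * g⁻¹ by group, hcj,
              show g * (j * z) * g⁻¹ = g * j * g⁻¹ * (g * z * g⁻¹) by group,
              mem_center_iff.1 hzcen g, mul_inv_cancel_right, mul_inv_eq_iff_eq_mul.1 e,
              mul_assoc, mem_center_iff.1 hzcen j, ← mul_assoc, invol_mul_self hzo, one_mul]
        oj := hjbo
        j_mem := mem_zpowers _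
        cent := rfl
        cyc := fun b hb _ => hA' b hb }
    have hsmall' : ∀ W : Subgroup (G ⧸ Z), IsPGroup 2 W → W ≤ H' → Nat.card W ≤ 4 := fun W hW hWH => by
      have := D'.card_two_subgroup_le (x := jb) (fun a ha _ => ha) hW hWH
      rw [hjbo] at this
      exact this
    set T' : Sylow 2 (G ⧸ Z) := T.mapSurjective (QuotientGroup.mk'_surjective Z) with hT'
    have hT'mem : ∀ w ∈ (T : Subgroup G), π w ∈ (T' : Subgroup (G ⧸ Z)) := fun w hw => by
      rw [hT', Sylow.coe_mapSurjective]; exact mem_map_of_mem _ hw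
    have hzx : ∀ w, π w = 1 → w ∈ (T : Subgroup G) → ∃ hw : w ∈ (T : Subgroup G),
        (⟨w, hw⟩ : (T : Subgroup G)) ∈ zpowers q.x := by
      intro w hw hwT
      refine ⟨hwT, ?_⟩
      rcases hmemZ w ((hker w).1 hw) with e | e
      · rw [show (⟨w, hwT⟩ : (T : Subgroup G)) = 1 from Subtype.ext e]; exact one_mem _
      · rw [show (⟨w, hwT⟩ : (T : Subgroup G)) = q.z from Subtype.ext e]
        exact zpow_mem (mem_zpowers _) _
    let d' : DP (T' : Subgroup (G ⧸ Z)) :=
      { n := q.n - 1, x := π q.x, y := π q.y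
        one_le := by have := q.three_le; omega
        x_mem := hT'mem _ q.x.2
        y_mem := hT'mem _ q.y.2
        orderOf_x := by
          obtain ⟨r, hr⟩ : ∃ r, q.n = r + 2 := ⟨q.n - 2, by have := q.three_le; omega⟩
          rw [hr, show r + 2 - 1 = r + 1 by omega]
          refine orderOf_eq_prime_pow (fun e => ?_) ?_
          · rw [← map_pow] at e
            have hxo := q.orderOf_x
            rw [hr, ← orderOf_coe] at hxo
            rcases hmemZ _ ((hker _).1 e) with e' | e'
            · have h1 := orderOf_dvd_of_pow_eq_one e'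
              rw [hxo, Nat.pow_dvd_pow_iff_le_right (by norm_num)] at h1
              omega
            · have h1 : ((q.x : G) ^ 2 ^ r) ^ 2 = 1 := by rw [e', sq, invol_mul_self hzo]
              rw [← pow_mul, ← pow_succ] at h1
              have h1' := orderOf_dvd_of_pow_eq_one h1
              rw [hxo, Nat.pow_dvd_pow_iff_le_right (by norm_num)] at h1'
              omega
          · rw [← map_pow, hker]
            have : q.x ^ 2 ^ (r + 1) = q.z := by
              rw [QD.z, QD.half, hr, show r + 2 - 1 = r + 1 by omega, ← zpow_natCast]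
              norm_num
            rw [← Subgroup.coe_pow, this]
            exact mem_zpowers z
        orderOf_y := by
          refine orderOf_eq_prime ?_ fun e => ?_
          · have := congrArg Subtype.val (invol_mul_self q.orderOf_y)
            rw [Subgroup.coe_mul] at this
            rw [← map_pow, sq, this, Subgroup.coe_one, map_one]
          · obtain ⟨hw, h1⟩ := hzx _ e q.y.2
            exact q.y_not_mem h1
        conj_y := by
          have e := congrArg (fun w : (T : Subgroup G) => π (w : G)) q.conj_y_x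
          simp only [Subgroup.coe_mul, Subgroup.coe_inv, map_mul, map_inv] at e
          rw [e, sub_eq_add_neg, zpow_add, ← QD.z, zpow_neg_one, Subgroup.coe_mul, map_mul, hpz,
            one_mul, Subgroup.coe_inv, map_inv]
        y_not := by
          rintro ⟨l, hl⟩
          have e : π (((q.x ^ (-l) * q.y : (T : Subgroup G)) : G)) = 1 := by
            rw [Subgroup.coe_mul, coe_zpow, map_mul, map_zpow, zpow_neg]
            exact inv_mul_eq_one.2 hl
          obtain ⟨hw, h1⟩ := hzx _ e (q.x ^ (-l) * q.y).2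
          exact q.refl_not_mem (-l) h1
        cover := by
          intro g hg
          rw [hT', Sylow.coe_mapSurjective] at hg
          obtain ⟨w, hw, rfl⟩ := hg
          rcases q.cover ⟨w, hw⟩ with ⟨l, hl⟩ | ⟨l, hl⟩
          · refine Or.inl ⟨l, ?_⟩
            rw [← map_zpow, ← coe_zpow, ← hl]
          · refine Or.inr ⟨l, ?_⟩
            rw [← map_zpow, ← map_mul, ← coe_zpow, ← Subgroup.coe_mul, ← hl] }
    have hns' : ¬ Group.IsSolvable (G ⧸ Z) := fun hs => hns (Base.isSolvable_of_normal Z
      (Group.isSolvable_of_comm fun a b => Subtype.ext (mem_center_iff.1 (hZc b.2) a)) hs)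
    exact D'.out_of_dihedral hsmall' d' (show 2 ≤ q.n - 1 by have := q.three_le; omega)
      (hT'mem j hjT) hns' (odd_normal_quotient Z hZcard hZc hO)
  · exfalso
    haveI : NeZero (2 ^ (m + 1)) := ⟨(pow_pos two_pos _).ne'⟩
    haveI : Nontrivial (T : Subgroup G) := Finite.one_lt_card_iff_nontrivial.1 (by omega)
    obtain ⟨w, hw⟩ := exists_prime_orderOf_dvd_card' 2
      (show 2 ∣ Nat.card (center (T : Subgroup G)) by
        obtain ⟨r, hr⟩ := IsPGroup.iff_card.1 (T.isPGroup'.to_subgroup (center (T : Subgroup G)))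
        have h1 : 1 < Nat.card (center (T : Subgroup G)) :=
          Finite.one_lt_card_iff_nontrivial.2 (T.isPGroup').center_nontrivial
        rcases r with _ | r
        · rw [hr] at h1; simp at h1
        · exact hr ▸ dvd_pow_self 2 (by omega))
    have hwo : orderOf (w : (T : Subgroup G)) = 2 := by rw [orderOf_coe]; exact hw
    have huniq : ∀ v : (T : Subgroup G), orderOf v = 2 →
        e v = QuaternionGroup.a ((2 ^ (m + 1) : ℕ) : ZMod (2 * 2 ^ (m + 1))) := fun v hv => by
      refine (FourGamma.quaternion_sq_eq_one ?_).resolve_left fun h1 =>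
        invol_ne_one hv (e.injective (h1.trans e.map_one.symm))
      rw [← map_mul, invol_mul_self hv, map_one]
    exact hjnc ((e.injective ((huniq j' hj'o).trans (huniq _ hwo).symm)) ▸ w.2)

end CfsgLib.DGroup
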