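import Cfsg.Agent.Lib.DGroup.EvenGen
import Cfsg.Agent.Lib.DGroup.Noncentral

/-!
# Groups with a D-group as centralizer of its central involutions
-/

set_option autoImplicit false
set_option linter.unusedSectionVars false
set_option linter.style.haveILetI false

namespace CfsgLib.DGroup

open Subgroup CfsgLib.Involutions

universe u

variable {G : Type u} [Group G] [Finite G] {H A : Subgroup G} {j u : G}

/-- The classification modulo the odd core when `A` has a single involution. -/
theorem Dih.main (D : Dih H A j u) (hns : ¬ Group.IsSolvable G) :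
    ∃ (N : Subgroup G) (_ : N.Normal), (Odd (Nat.card N) ∨ ∃ m : ℕ, Odd m ∧ Nat.card N = 2 * m) ∧
      Out (G ⧸ N) := by
  set O := Cfsg.oddCore G with hOdef
  haveI hOn : O.Normal := by rw [hOdef]; unfold Cfsg.oddCore; infer_instance
  have hOodd : Odd (Nat.card O) := Base.odd_card_oddCore G
  set π := QuotientGroup.mk' O with hπ
  have hπs : Function.Surjective π := QuotientGroup.mk'_surjective O
  have hker : ∀ v, π v = 1 ↔ v ∈ O := fun v => QuotientGroup.eq_one_iff v
  have hOord : ∀ v ∈ O, Odd (orderOf v) := fun v hv =>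
    hOodd.of_dvd_nat (Subgroup.orderOf_dvd_natCard O hv)
  have hjj : j * j = 1 := invol_mul_self D.oj
  have hinj : ∀ v : G, v * v = 1 → π v = 1 → v = 1 := fun v hv h =>
    eq_one_of_mul_self (hOord v ((hker v).1 h)) hv
  have hjo : orderOf (π j) = 2 := by
    haveI : Fact (Nat.Prime 2) := ⟨Nat.prime_two⟩
    refine orderOf_eq_prime (by rw [sq, ← map_mul, hjj, map_one]) fun h => ?_
    exact invol_ne_one D.oj (hinj j hjj h)
  have D' : Dih (H.map π) (A.map π) (π j) (π u) :=
    { le := map_mono D.le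
      comm := by
        rintro _ ⟨a, ha, rfl⟩ _ ⟨b, hb, rfl⟩
        rw [← map_mul, ← map_mul, D.comm a ha b hb]
      u_mem := mem_map_of_mem π D.u_mem
      u_not := by
        rintro ⟨a, ha, h⟩
        have hsq : a⁻¹ * u * (a⁻¹ * u) = 1 := by
          calc a⁻¹ * u * (a⁻¹ * u) = a⁻¹ * (u * a⁻¹ * u⁻¹) * (u * u) := by group
            _ = 1 := by rw [D.inv _ (A.inv_mem ha), inv_inv, inv_mul_cancel, D.uu, one_mul]
        have h1 : a⁻¹ * u = 1 := hinj _ hsq (by rw [map_mul, map_inv, h, inv_mul_cancel])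
        exact D.u_not (inv_mul_eq_one.1 h1 ▸ ha)
      uu := by rw [← map_mul, D.uu, map_one]
      inv := by
        rintro _ ⟨a, ha, rfl⟩
        rw [← map_inv, ← map_inv, ← map_mul, ← map_mul, D.inv a ha]
      cover := by
        rintro _ ⟨h, hh, rfl⟩
        rcases D.cover h hh with h1 | h1
        · exact Or.inl (mem_map_of_mem π h1)
        · exact Or.inr (by rw [← map_mul]; exact mem_map_of_mem π h1)
      oj := hjo
      j_mem := mem_map_of_mem π D.j_mem
      cent := by
        refine le_antisymm (fun y hy => ?_) ?_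
        · obtain ⟨g, rfl⟩ := hπs y
          set w := g * j * g⁻¹ * j with hw
          have hwO : w ∈ O := by
            rw [← hker, hw, map_mul, map_mul, map_mul, map_inv,
              mul_inv_eq_iff_eq_mul.2 (mem_centralizer_singleton_iff.1 hy), ← map_mul, hjj, map_one]
          obtain ⟨k, hk⟩ := hOord w hwO
          have hjw : j * w * j⁻¹ = w⁻¹ := by
            rw [hw, invol_inv D.oj]
            refine eq_inv_of_mul_eq_one_left ?_
            calc j * (g * j * g⁻¹ * j) * j * (g * j * g⁻¹ * j)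
                = j * g * j * g⁻¹ * (j * j) * g * j * g⁻¹ * j := by group
              _ = j * g * (j * j) * g⁻¹ * j := by
                conv_lhs => rw [hjj]
                group
              _ = 1 := by rw [hjj, mul_one, mul_inv_cancel_right, hjj]
          set o := w ^ (k + 1) with ho
          have hjo' : j * o⁻¹ * j⁻¹ = o := by
            rw [ho, ← inv_pow, ← conj_pow, show j * w⁻¹ * j⁻¹ = (j * w * j⁻¹)⁻¹ by group, hjw,
              inv_inv]
          have hoj : o * j * o⁻¹ = g * j * g⁻¹ := by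
            calc o * j * o⁻¹ = o * (j * o⁻¹ * j⁻¹) * j := by group
              _ = w ^ (2 * k + 1) * w * j := by
                rw [hjo', ho, ← pow_add, ← pow_succ]; congr 2; omega
              _ = g * j * g⁻¹ := by
                rw [← hk, pow_orderOf_eq_one, one_mul, hw, mul_assoc, hjj, mul_one]
          have hgH : o⁻¹ * g ∈ H := by
            rw [← D.cent]
            refine mem_centralizer_singleton_iff.2 ?_
            calc o⁻¹ * g * j = o⁻¹ * (g * j * g⁻¹) * g := by group
              _ = j * (o⁻¹ * g) := by rw [← hoj]; group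
          have hpo : π o = 1 := (hker o).2 (pow_mem hwO _)
          refine ⟨o⁻¹ * g, hgH, ?_⟩
          rw [map_mul, map_inv, hpo, inv_one, one_mul]
        · rintro _ ⟨h, hh, rfl⟩
          refine mem_centralizer_singleton_iff.2 ?_
          rw [← map_mul, ← map_mul]
          exact congrArg π (mem_centralizer_singleton_iff.1 (D.cent.ge hh))
      cyc := by
        rintro _ ⟨b, hb, rfl⟩ hbb
        obtain ⟨k, hk⟩ := hOord (b * b) ((hker _).1 (by rw [map_mul]; exact hbb))
        have hc : b ^ (2 * k + 1) * b ^ (2 * k + 1) = 1 := by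
          rw [← (Commute.refl b).mul_pow, ← hk, pow_orderOf_eq_one]
        have hpb : π (b ^ (2 * k + 1)) = π b := by
          rw [map_pow, pow_succ, pow_mul, sq, hbb, one_pow, one_mul]
        rcases D.cyc _ (A.pow_mem hb _) hc with h | h
        · left; rw [← hpb, h, map_one]
        · right; rw [← hpb, h] }
  have hns' : ¬ Group.IsSolvable (G ⧸ O) := fun hs =>
    hns (Base.isSolvable_of_normal O (CfsgLib.FT.isSolvable_of_odd hOodd) hs)
  have hO' : ∀ N : Subgroup (G ⧸ O), N.Normal → Odd (Nat.card N) → N = ⊥ := by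
    intro N hN hodd
    haveI : (N.comap π).Normal := hN.comap π
    have hcard : Odd (Nat.card (N.comap π)) := by
      have h1 : (N.comap π).index = N.index := N.index_comap_of_surjective hπs
      have h2 : Nat.card (N.comap π) = Nat.card N * Nat.card O := by
        refine Nat.eq_of_mul_eq_mul_right (Nat.pos_of_ne_zero N.index_ne_zero_of_finite) ?_
        rw [← h1, (N.comap π).card_mul_index, Subgroup.card_eq_card_quotient_mul_card_subgroup O,
          ← N.card_mul_index, h1]
        ring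
      rw [h2]; exact hodd.mul hOodd
    refine eq_bot_iff.2 fun x hx => mem_bot.2 ?_
    obtain ⟨g, rfl⟩ := hπs x
    exact (hker g).2 (Base.le_oddCore hcard hx)
  rcases D'.out_or_four hns' hO' with h | ⟨hsmall, T, hjT, h8, h4⟩
  · exact ⟨O, hOn, Or.inl hOodd, h⟩
  rcases D'.out_of_four hsmall T hjT h8 h4 hns' hO' with h | ⟨Z, hZn, hZ, h⟩
  · exact ⟨O, hOn, Or.inl hOodd, h⟩
  haveI := hZn
  set φ := (QuotientGroup.mk' Z).comp π
  have hφs : Function.Surjective φ := (QuotientGroup.mk'_surjective Z).comp hπs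
  refine ⟨φ.ker, inferInstance, Or.inr ⟨Nat.card O, hOodd, ?_⟩, ?_⟩
  · have h1 := φ.ker.index_mul_card
    rw [Subgroup.index_ker, MonoidHom.range_eq_top.2 hφs, card_top,
      Subgroup.card_eq_card_quotient_mul_card_subgroup O,
      Subgroup.card_eq_card_quotient_mul_card_subgroup Z, hZ, mul_assoc] at h1
    exact Nat.eq_of_mul_eq_mul_left Nat.card_pos h1
  · obtain ⟨F, iF, iFt, h3, he⟩ := h
    let e := QuotientGroup.quotientKerEquivOfSurjective φ hφs
    exact ⟨F, iF, iFt, h3, he.imp (fun ⟨f⟩ => ⟨e.trans f⟩) fun ⟨f⟩ => ⟨e.trans f⟩⟩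

/-- The main theorem. -/
theorem classify (H A : Subgroup G) (hAH : A < H) (hD : ∀ x ∈ H, x ∉ A → x ^ 2 = 1)
    (h4 : 4 ∣ Nat.card H)
    (hC : ∀ j ∈ H, orderOf j = 2 → (∀ h ∈ H, h * j = j * h) → centralizer ({j} : Set G) = H)
    (hns : ¬ Group.IsSolvable G) :
    ∃ (N : Subgroup G) (_ : N.Normal), (Odd (Nat.card N) ∨ ∃ m : ℕ, Odd m ∧ Nat.card N = 2 * m) ∧
      Out (G ⧸ N) := by
  haveI : Fact (Nat.Prime 2) := ⟨Nat.prime_two⟩
  obtain ⟨u, huH, huA⟩ := SetLike.exists_of_lt hAH
  have hsq : ∀ x ∈ H, x ∉ A → x * x = 1 := fun x hx hxA => by rw [← sq]; exact hD x hx hxA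
  by_cases hexp : ∀ h ∈ H, h * h = 1
  · have hcomm : ∀ a ∈ H, ∀ b ∈ H, a * b = b * a := fun a ha b hb => by
      have h1 : ∀ c ∈ H, c⁻¹ = c := fun c hc => inv_eq_of_mul_eq_one_right (hexp c hc)
      calc a * b = (a * b)⁻¹ := (h1 _ (mul_mem ha hb)).symm
        _ = b * a := by rw [mul_inv_rev, h1 a ha, h1 b hb]
    obtain ⟨N, hN, hodd, hout⟩ := out_of_exponent_two H h4 hexp
      (fun t ht ht1 => hC t ht (orderOf_eq_prime (by rw [sq]; exact hexp t ht) ht1)
        fun h hh => hcomm h hh t ht) hns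
    exact ⟨N, hN, Or.inl hodd, hout⟩
  have huu : u * u = 1 := hsq u huH huA
  have hinv : ∀ v ∈ H, v ∉ A → ∀ a ∈ A, v * a * v⁻¹ = a⁻¹ := fun v hv hvA a ha => by
    have hav : a * v ∉ A := fun h => hvA ((mul_mem_cancel_left ha).1 h)
    have h1 := hsq _ (mul_mem (hAH.le ha) hv) hav
    rw [inv_eq_of_mul_eq_one_right (hsq v hv hvA)]
    refine eq_inv_of_mul_eq_one_right ?_
    calc a * (v * a * v) = a * v * (a * v) := by group
      _ = 1 := h1
  have hA2 : ¬ ∀ a ∈ A, a * a = 1 := fun h => hexp fun x hx => by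
    by_cases hxA : x ∈ A
    · exact h x hxA
    · exact hsq x hx hxA
  have hcomm : ∀ a ∈ A, ∀ b ∈ A, a * b = b * a := fun a ha b hb => by
    have e : u * (a * b) * u⁻¹ = u * a * u⁻¹ * (u * b * u⁻¹) := by group
    rw [hinv u huH huA a ha, hinv u huH huA b hb, hinv u huH huA _ (A.mul_mem ha hb),
      ← mul_inv_rev, inv_inj] at e
    exact e
  have hcover : ∀ h ∈ H, h ∈ A ∨ h * u ∈ A := fun h hh => by
    by_contra hne
    push Not at hne
    refine hA2 fun a ha => ?_
    have h2 : h * u * a * (h * u)⁻¹ = a := by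
      rw [show h * u * a * (h * u)⁻¹ = h * (u * a * u⁻¹) * h⁻¹ by group, hinv u huH huA a ha,
        hinv h hh hne.1 _ (A.inv_mem ha), inv_inv]
    rw [hinv _ (mul_mem hh huH) hne.2 a ha] at h2
    exact mul_eq_one_iff_eq_inv.2 h2.symm
  have hcent : ∀ b ∈ A, orderOf b = 2 → centralizer ({b} : Set G) = H := fun b hb hbo => by
    refine hC b (hAH.le hb) hbo fun h hh => ?_
    rcases hcover h hh with h1 | h1
    · exact hcomm h h1 b hb
    · by_cases hA : h ∈ A
      · exact hcomm h hA b hb
      · have := hinv h hh hA b hb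
        rw [invol_inv hbo] at this
        exact mul_inv_eq_iff_eq_mul.1 this
  have hAeven : 2 ∣ Nat.card A := by
    have h2 : A.relIndex H = 2 := relIndex_eq_two_iff.2 ⟨u, huH, fun b hb => by
      rcases hcover b hb with h1 | h1
      · exact Or.inr ⟨h1, fun h => huA ((mul_mem_cancel_left h1).1 h)⟩
      · exact Or.inl ⟨h1, fun h => huA ((mul_mem_cancel_left h).1 h1)⟩⟩
    have h3 := (A.subgroupOf H).card_mul_index
    rw [← relIndex, h2, Nat.card_congr (subgroupOfEquivOfLe hAH.le).toEquiv] at h3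
    omega
  obtain ⟨⟨j, hjA⟩, hj⟩ := exists_prime_orderOf_dvd_card' 2 hAeven
  rw [Subgroup.orderOf_mk] at hj
  by_cases hcyc : ∀ b ∈ A, b * b = 1 → b = 1 ∨ b = j
  · exact Dih.main ⟨hAH.le, hcomm, huH, huA, huu, hinv u huH huA, hcover, hj, hjA,
      hcent j hjA hj, hcyc⟩ hns
  · push Not at hcyc
    obtain ⟨b, hb, hbb, hb1, hbj⟩ := hcyc
    obtain ⟨N, hN, h4N, hout⟩ := Gen.out (H := H) (A := A) (u := u)
      ⟨hAH.le, hcomm, huH, huA, huu, hinv u huH huA, hcover, hcent,
        ⟨j, b, hjA, hb, hj, orderOf_eq_prime (by rw [sq]; exact hbb) hb1, fun e => hbj e.symm⟩,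
        hA2⟩ hns
    refine ⟨N, hN, ?_, hout⟩
    by_cases h2 : 2 ∣ Nat.card N
    · obtain ⟨m, hm⟩ := h2
      exact Or.inr ⟨m, Nat.odd_iff.2 (by omega), hm⟩
    · exact Or.inl (Nat.odd_iff.2 (Nat.two_dvd_ne_zero.1 h2))

end CfsgLib.DGroup
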