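import Cfsg.Agent.Lib.DGroup.Config
import Cfsg.Agent.Lib.Transfer.ThompsonComplement

/-!
# Maximal subgroups containing the odd part of an involution centraliser

Bender's comparison of two maximal subgroups whose Fitting subgroups lie in each other.
-/

set_option autoImplicit false
set_option linter.style.haveILetI false
set_option linter.unusedSectionVars false

namespace CfsgLib.DGroup

open Subgroup Cfsg CfsgLib.PLocal

universe u

variable {G : Type u} [Group G]

theorem commute_of_elements {p q : ℕ} (hpq : p ≠ q) [Fact p.Prime] [Fact q.Prime]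
    {A B : Subgroup G} (hA : IsPGroup p A) (hB : IsPGroup q B) {a b : G} (ha : a ∈ A) (hb : b ∈ B)
    (hab : a ∈ normalizer (B : Set G)) (hba : b ∈ normalizer (A : Set G)) : Commute a b := by
  have hd := IsPGroup.disjoint_of_ne p q hpq A B hA hB
  have h1 : a * b * a⁻¹ * b⁻¹ ∈ A := by
    rw [show a * b * a⁻¹ * b⁻¹ = a * (b * a⁻¹ * b⁻¹) by group]
    exact mul_mem ha ((mem_normalizer_iff.1 hba _).1 (inv_mem ha))
  have h2 : a * b * a⁻¹ * b⁻¹ ∈ B :=
    mul_mem ((mem_normalizer_iff.1 hab _).1 hb) (inv_mem hb)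
  have h3 := mem_bot.1 (hd.le_bot (mem_inf.2 ⟨h1, h2⟩))
  rwa [mul_inv_eq_one, mul_inv_eq_iff_eq_mul] at h3

/-- The elements of `X` centralising all `O_p(X)` with `p ≠ q`. -/
def others (q : ℕ) (X : Subgroup G) : Subgroup G :=
  X ⊓ centralizer {x : G | ∃ p : ℕ, p.Prime ∧ p ≠ q ∧ x ∈ core p X}

theorem mem_others {q : ℕ} {X : Subgroup G} {x : G} : x ∈ others q X ↔
    x ∈ X ∧ ∀ p : ℕ, p.Prime → p ≠ q → ∀ b ∈ core p X, Commute x b := by
  simp only [others, mem_inf, mem_centralizer_iff, Set.mem_ofPred_eq]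
  constructor
  · exact fun h => ⟨h.1, fun p hp hpq b hb => (h.2 b ⟨p, hp, hpq, hb⟩).symm⟩
  · rintro ⟨h1, h2⟩
    exact ⟨h1, fun b ⟨p, hp, hpq, hb⟩ => (h2 p hp hpq b hb).symm⟩

theorem le_normalizer_others (q : ℕ) (X : Subgroup G) :
    X ≤ normalizer (others q X : Set G) := by
  have key : ∀ g ∈ X, ∀ x ∈ others q X, g * x * g⁻¹ ∈ others q X := by
    intro g hg x hx
    rw [mem_others] at hx ⊢
    refine ⟨mul_mem (mul_mem hg hx.1) (inv_mem hg), fun p hp hpq b hb => ?_⟩
    have hb' := (mem_normalizer_iff.1 (le_normalizer_core p X (inv_mem hg)) b).1 hb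
    rw [inv_inv] at hb'
    have := (hx.2 p hp hpq _ hb').map (MulAut.conj g).toMonoidHom
    simpa [mul_assoc] using this
  intro g hg
  refine mem_normalizer_iff.2 fun x => ⟨key g hg x, fun hx => ?_⟩
  have := key g⁻¹ (inv_mem hg) _ hx
  simpa [mul_assoc] using this

theorem core_others_le (q : ℕ) (X : Subgroup G) : core q (others q X) ≤ core q X :=
  core_le_core inf_le_left (le_normalizer_others q X)

/-- The centre of a core. -/
def zcore (p : ℕ) (X : Subgroup G) : Subgroup G := core p X ⊓ centralizer (core p X : Set G)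

theorem normalizer_le_zcore (p : ℕ) (X : Subgroup G) :
    normalizer (X : Set G) ≤ normalizer (zcore p X : Set G) :=
  CfsgLib.Coprime.le_normalizer_inf_inf (normalizer_le_core p X)
    (CfsgLib.Coprime.le_normalizer_centralizer (normalizer_le_core p X))

theorem zcore_ne_bot [Finite G] {p : ℕ} [Fact p.Prime] {X : Subgroup G} (h : core p X ≠ ⊥) :
    zcore p X ≠ ⊥ :=
  CfsgLib.Transfer.inf_centralizer_ne_bot (isPGroup_core p X) h

theorem normalizer_zpowers_ne_top [IsSimpleGroup G] (hna : ¬ IsMulCommutative G) {a : G}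
    (ha : a ≠ 1) : normalizer (zpowers a : Set G) ≠ ⊤ := fun e => by
  rcases (normalizer_eq_top_iff.1 e).eq_bot_or_eq_top with h | h
  · exact ha (zpowers_eq_bot.1 h)
  · refine hna ⟨⟨fun x y => ?_⟩⟩
    obtain ⟨i, rfl⟩ := (h ▸ mem_top x : x ∈ zpowers a)
    obtain ⟨j, rfl⟩ := (h ▸ mem_top y : y ∈ zpowers a)
    exact (Commute.zpow_zpow_self a i j).eq

theorem le_normalizer_zpowers_of_commute {a b : G} (h : Commute a b) :
    b ∈ normalizer (zpowers a : Set G) :=
  centralizer_le_normalizer _ (by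
    rw [mem_centralizer_iff]
    rintro _ ⟨k, rfl⟩
    exact (h.zpow_left k).eq)

/-- A maximal subgroup at the pair `z, u`. -/
structure Mem (z u : G) (M : Subgroup G) : Prop where
  coatom : IsCoatom M
  thin : Thin M
  hz : z ∈ M
  hu : u ∈ M
  K_le : ∀ a : G, Odd (orderOf a) → Commute z a → a ∈ M

namespace Mem

variable {z u : G} {M : Subgroup G} (hM : Mem z u M)
include hM

theorem third : Mem z (z * u) M :=
  ⟨hM.coatom, hM.thin, hM.hz, mul_mem hM.hz hM.hu, hM.K_le⟩

theorem mem_oddPart_of_commute {a : G} (ha : Odd (orderOf a)) (hc : Commute z a) :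
    a ∈ oddPart M :=
  mem_oddPart (hM.K_le a ha hc) ha

theorem grp_le_core (F : Four z u) (p : ℕ) :
    F.grp ≤ normalizer (core p (oddPart M) : Set G) :=
  (F.grp_le hM.hz hM.hu).trans ((le_normalizer_oddPart M).trans (normalizer_le_core p _))

theorem eq_normalizer [IsSimpleGroup G] {A : Subgroup G} (hA : A ≠ ⊥) (hAM : A ≤ M)
    (hn : M ≤ normalizer (A : Set G)) : normalizer (A : Set G) = M :=
  ((hM.coatom.le_iff).1 hn).resolve_left fun e => by
    rcases (normalizer_eq_top_iff.1 e).eq_bot_or_eq_top with h | h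
    · exact hA h
    · exact hM.coatom.1 (top_le_iff.1 (h ▸ hAM))

theorem normalizer_zcore [IsSimpleGroup G] [Finite G] {p : ℕ} [Fact p.Prime]
    (h : core p (oddPart M) ≠ ⊥) : normalizer (zcore p (oddPart M) : Set G) = M :=
  hM.eq_normalizer (zcore_ne_bot h) ((inf_le_left.trans (core_le p _)).trans (oddPart_le M))
    ((le_normalizer_oddPart M).trans (normalizer_le_zcore p _))

end Mem

theorem exists_mem [Finite G] (h : Config G) {z u : G} (F : Four z u) {Y : Subgroup G}
    (hY : Y ≠ ⊤) (hC : centralizer ({z} : Set G) ≤ Y) : ∃ M, Mem z u M ∧ Y ≤ M := by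
  obtain ⟨M, hM, hYM⟩ := (eq_top_or_exists_le_coatom Y).resolve_left hY
  refine ⟨M, ⟨hM, h.thin z F.oz M hM.1 (hC.trans hYM), ?_, ?_, fun a _ hc => ?_⟩, hYM⟩
  · exact hYM (hC (mem_centralizer_singleton_iff.2 rfl))
  · exact hYM (hC (mem_centralizer_singleton_iff.2 F.comm.eq.symm))
  · exact hYM (hC (mem_centralizer_singleton_iff.2 hc.eq.symm))

theorem exists_mem_of_commute [Finite G] [IsSimpleGroup G] (hna : ¬ IsMulCommutative G)
    (h : Config G) {z u : G} (F : Four z u) {a : G} (ha : a ≠ 1) (hao : Odd (orderOf a))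
    (hc : Commute z a) : ∃ M, Mem z u M ∧ ∀ b, Commute a b → b ∈ M := by
  obtain ⟨M, hM, hle⟩ := exists_mem h F (normalizer_zpowers_ne_top hna ha) (h.norm z a F.oz hao hc)
  exact ⟨M, hM, fun b hb => hle (le_normalizer_zpowers_of_commute hb)⟩

/-- The data of Bender's argument. -/
structure BData (z u : G) (M H : Subgroup G) (r₀ : ℕ) (a : G) : Prop where
  mM : Mem z u M
  mH : Mem u z H
  prime : r₀.Prime
  ha : a ∈ core r₀ (oddPart M)
  ne : a ≠ 1
  cent : ∀ b : G, Commute a b → b ∈ H
  multi : ∃ p : ℕ, p.Prime ∧ p ≠ r₀ ∧ core p (oddPart M) ≠ ⊥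

namespace BData

variable [Finite G] [IsSimpleGroup G] {z u a : G} {M H : Subgroup G} {r₀ : ℕ}
  (D : BData z u M H r₀ a)
include D

theorem odd_M : Odd (Nat.card (oddPart M)) := D.mM.thin
theorem odd_H : Odd (Nat.card (oddPart H)) := D.mH.thin

theorem core_r₀_ne : core r₀ (oddPart M) ≠ ⊥ := fun e => D.ne (mem_bot.1 (e ▸ D.ha))

theorem mem_OH {p : ℕ} {b : G} (hb : b ∈ core p (oddPart M)) (hc : Commute a b) :
    b ∈ oddPart H :=
  mem_oddPart (D.cent b hc) (odd_orderOf_of_mem D.odd_M (core_le p _ hb))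

theorem commute_a {p : ℕ} [Fact p.Prime] (hp : p ≠ r₀) {b : G} (hb : b ∈ core p (oddPart M)) :
    Commute a b := by
  haveI := Fact.mk D.prime
  exact (commute_cores hp hb D.ha).symm

theorem zcore_le {p : ℕ} [Fact p.Prime] : zcore p (oddPart M) ≤ oddPart H := by
  rintro b ⟨hb, hc⟩
  refine D.mem_OH hb ?_
  by_cases hp : p = r₀
  · subst hp
    exact mem_centralizer_iff.1 hc a D.ha
  · exact D.commute_a hp hb

/-- The odd elements of `M ∩ H`. -/
theorem mem_O {r : ℕ} {x : G} (hx : x ∈ core r (oddPart H)) (hxM : x ∈ M) : x ∈ oddPart M :=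
  mem_oddPart hxM (odd_orderOf_of_mem D.odd_H (core_le r _ hx))

theorem core_le_of_two {r q : ℕ} [Fact r.Prime] [Fact q.Prime] (hrq : r ≠ q)
    (hr : core r (oddPart M) ≠ ⊥) (hq : core q (oddPart M) ≠ ⊥) :
    core r (oddPart H) ≤ M ∧ ∀ b ∈ zcore q (oddPart M), ∀ x ∈ core r (oddPart H), Commute b x := by
  have hZr : IsPGroup r (zcore r (oddPart M)) := (isPGroup_core r _).to_le inf_le_left
  have hZq : IsPGroup q (zcore q (oddPart M)) := (isPGroup_core q _).to_le inf_le_left
  have key : zcore q (oddPart M) ≤ centralizer (core r (oddPart H) : Set G) := by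
    refine CfsgLib.Coprime.pq_lemma hZr ?_ (isPGroup_core r _) ?_ ?_ ?_ ?_
    · obtain ⟨n, hn⟩ := IsPGroup.iff_card.1 hZq
      rw [hn]
      exact ((Nat.coprime_primes Fact.out Fact.out).2 hrq.symm).pow_left n
    · intro b hb
      exact mem_centralizer_iff.2 fun c hc =>
        (commute_cores hrq (inf_le_left (a := core r _) hb) (inf_le_left (a := core q _) hc)).eq.symm
    · exact D.zcore_le.trans (le_normalizer_core r _)
    · exact D.zcore_le.trans (le_normalizer_core r _)
    · rintro x ⟨hx, hxc⟩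
      have hxM : x ∈ M := D.mM.normalizer_zcore hr ▸ centralizer_le_normalizer _ hxc
      refine mem_centralizer_iff.2 fun b hb => ?_
      exact (commute_of_elements hrq (isPGroup_core r _) hZq hx hb
        (normalizer_le_zcore q _ (le_normalizer_oddPart M hxM))
        (le_normalizer_core r _ (D.zcore_le hb))).eq.symm
  refine ⟨fun x hx => ?_, fun b hb x hx => (mem_centralizer_iff.1 (key hb) x hx).symm⟩
  rw [← D.mM.normalizer_zcore hq]
  exact centralizer_le_normalizer _
    (mem_centralizer_iff.2 fun b hb => (mem_centralizer_iff.1 (key hb) x hx).symm)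

/-- An element of `O_r(H) ∩ M` centralises `O_p(M)` for `p ≠ r`. -/
theorem cross {r p : ℕ} [Fact r.Prime] [Fact p.Prime] (hpr : p ≠ r) {x : G}
    (hx : x ∈ core r (oddPart H)) (hxM : x ∈ M) {b : G} (hb : b ∈ core p (oddPart M)) :
    Commute x b := by
  have part : ∀ c ∈ core p (oddPart M), Commute a c → ∀ y ∈ core r (oddPart H), y ∈ M →
      Commute y c := fun c hc hac y hy hyM =>
    commute_of_elements hpr.symm (isPGroup_core r _) (isPGroup_core p _) hy hc
      (le_normalizer_core p _ (D.mem_O hy hyM)) (le_normalizer_core r _ (D.mem_OH hc hac))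
  by_cases hp : p = r₀
  · subst hp
    let K : Subgroup G := core p (oddPart M) ⊓ centralizer ({a} : Set G)
    let A : Subgroup G := core r (oddPart H) ⊓ M
    have hK : ∀ c ∈ K, c ∈ core p (oddPart M) ∧ Commute a c := fun c hc =>
      ⟨hc.1, (mem_centralizer_singleton_iff.1 hc.2).symm⟩
    have key : A ≤ centralizer (core p (oddPart M) : Set G) := by
      refine CfsgLib.Coprime.pq_lemma (P := K) ((isPGroup_core p _).to_le inf_le_left) ?_
        (isPGroup_core p _) ?_ ?_ ?_ ?_
      · obtain ⟨n, hn⟩ := IsPGroup.iff_card.1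
          ((isPGroup_core r (oddPart H)).to_le (inf_le_left : A ≤ _))
        rw [hn]
        exact ((Nat.coprime_primes Fact.out Fact.out).2 hpr.symm).pow_left n
      · intro c hc
        exact mem_centralizer_iff.2 fun y hy => (part c (hK c hc).1 (hK c hc).2 y hy.1 hy.2).eq
      · exact (inf_le_left.trans le_normalizer)
      · exact fun y hy => le_normalizer_core p _ (D.mem_O hy.1 hy.2)
      · rintro c ⟨hc, hcc⟩
        have haK : a ∈ K := ⟨D.ha, mem_centralizer_singleton_iff.2 rfl⟩
        exact mem_centralizer_iff.2 fun y hy =>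
          (part c hc (mem_centralizer_iff.1 hcc a haK) y hy.1 hy.2).eq
    exact (mem_centralizer_iff.1 (key ⟨hx, hxM⟩) b hb).symm
  · exact part b hb (D.commute_a hp hb) x hx hxM

theorem eq_one_of_mem {r : ℕ} [Fact r.Prime] (hr : core r (oddPart M) = ⊥) {x : G}
    (hx : x ∈ core r (oddPart H)) (hxM : x ∈ M) : x = 1 := by
  refine mem_bot.1 (hr ▸ mem_core_of_centralizes D.odd_M (isPGroup_core r _) hx (D.mem_O hx hxM)
    fun p hp b hb => ?_)
  haveI := Fact.mk hp
  by_cases hpr : p = r
  · subst hpr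
    rw [hr, mem_bot] at hb
    rw [hb]
    exact Commute.one_right x
  · exact D.cross hpr hx hxM hb

theorem core_eq_bot (h : Config G) (F : Four z u) {r : ℕ} [Fact r.Prime]
    (hr : core r (oddPart M) = ⊥)
    (hone : (∀ x ∈ core r (oddPart H), Commute u x) ∨
      ∀ x ∈ core r (oddPart H), Commute (z * u) x) :
    core r (oddPart H) = ⊥ := by
  obtain ⟨p, hp, -, hne⟩ := D.multi
  haveI := Fact.mk hp
  have hN : Odd (Nat.card (zcore p (oddPart M))) :=
    D.odd_M.of_dvd_nat (card_dvd_of_le (inf_le_left.trans (core_le p _)))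
  have hW : F.grp ≤ normalizer (zcore p (oddPart M) : Set G) :=
    (F.grp_le D.mM.hz D.mM.hu).trans ((le_normalizer_oddPart M).trans (normalizer_le_zcore p _))
  have hz := hW F.z_mem
  have hu := hW F.u_mem
  have ho : ∀ x ∈ core r (oddPart H), Odd (orderOf x) := fun x hx =>
    odd_orderOf_of_mem D.odd_H (core_le r _ hx)
  refine eq_bot_iff.2 fun x hx => mem_bot.2 (D.eq_one_of_mem hr hx ?_)
  rw [← D.mM.normalizer_zcore hne]
  refine centralizer_le_normalizer _ (mem_centralizer_iff.2 fun b hb => Commute.eq ?_)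
  rcases hone with h1 | h1
  · exact h.commute_onePart F.symm ho h1 hN (F.symm.grp_le hu hz)
      (D.zcore_le.trans (le_normalizer_core r _)) hb hx
  · exact h.commute_onePart F.right.symm ho h1 hN (F.right.symm.grp_le (mul_mem hz hu) hu)
      (D.zcore_le.trans (le_normalizer_core r _)) hb hx

/-- Bender's theorem in this situation. -/
theorem eq_of_le (hle : ∀ r : ℕ, r.Prime → core r (oddPart M) = ⊥ → core r (oddPart H) = ⊥) :
    H = M := by
  haveI := Fact.mk D.prime
  obtain ⟨q₁, hq₁, hq₁0, hq₁ne⟩ := D.multi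
  haveI := Fact.mk hq₁
  have hsubM : ∀ r : ℕ, r.Prime → core r (oddPart H) ≤ M := fun r hr => by
    haveI := Fact.mk hr
    by_cases he : core r (oddPart M) = ⊥
    · rw [hle r hr he]; exact bot_le
    · by_cases hr0 : r = r₀
      · subst hr0; exact (D.core_le_of_two hq₁0.symm he hq₁ne).1
      · exact (D.core_le_of_two hr0 he D.core_r₀_ne).1
  have hex : ∃ q : ℕ, q.Prime ∧ q ≠ r₀ ∧ core q (oddPart H) ≠ ⊥ := by
    by_contra hc
    push Not at hc
    obtain ⟨⟨b, hb⟩, hb0⟩ := (ne_bot_iff_exists_ne_one (H := zcore q₁ (oddPart M))).1 (zcore_ne_bot hq₁ne)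
    have hb1 : b ≠ 1 := fun e => hb0 (Subtype.ext e)
    refine hb1 (mem_bot.1 (hc q₁ hq₁ hq₁0 ▸ mem_core_of_centralizes D.odd_H
      ((isPGroup_core q₁ _).to_le inf_le_left) hb (D.zcore_le hb) fun p hp y hy => ?_))
    by_cases hp0 : p = r₀
    · subst hp0
      exact (D.core_le_of_two hq₁0.symm D.core_r₀_ne hq₁ne).2 b hb y hy
    · rw [hc p hp hp0, mem_bot] at hy
      rw [hy]
      exact Commute.one_right b
  have hsub : ∀ p : ℕ, p.Prime → others p (oddPart M) ≤ H →
      core p (oddPart H) ≤ core p (oddPart M) := fun p hp hH => by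
    haveI := Fact.mk hp
    refine le_trans (le_core (fun x hx => mem_others.2 ⟨D.mem_O hx (hsubM p hp hx),
      fun s hs hsp b hb => ?_⟩) (fun c hc => le_normalizer_core p _ ?_) (isPGroup_core p _))
      (core_others_le p _)
    · haveI := Fact.mk hs
      exact D.cross hsp hx (hsubM p hp hx) hb
    · exact mem_oddPart (hH hc) (odd_orderOf_of_mem D.odd_M hc.1)
  have hne0 : ∀ q : ℕ, q.Prime → q ≠ r₀ → core q (oddPart H) ≤ core q (oddPart M) :=
    fun q hq hq0 => hsub q hq fun c hc =>
      D.cent c ((mem_others.1 hc).2 r₀ D.prime hq0.symm a D.ha).symm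
  obtain ⟨q₂, hq₂, hq₂0, hq₂ne⟩ := hex
  haveI := Fact.mk hq₂
  have hNq : normalizer (core q₂ (oddPart H) : Set G) = H :=
    D.mH.eq_normalizer hq₂ne ((core_le _ _).trans (oddPart_le H))
      ((le_normalizer_oddPart H).trans (normalizer_le_core _ _))
  have hall : ∀ p : ℕ, p.Prime → core p (oddPart H) ≤ core p (oddPart M) := fun p hp => by
    by_cases hp0 : p = r₀
    · subst hp0
      refine hsub p hp fun c hc => hNq ▸ centralizer_le_normalizer _ (mem_centralizer_iff.2
        fun y hy => ((mem_others.1 hc).2 q₂ hq₂ hq₂0 y (hne0 q₂ hq₂ hq₂0 hy)).eq.symm)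
    · exact hne0 p hp hp0
  have hZ : zcore r₀ (oddPart M) ≤ core r₀ (oddPart H) := fun b hb =>
    mem_core_of_centralizes D.odd_H ((isPGroup_core r₀ _).to_le inf_le_left) hb (D.zcore_le hb)
      fun p hp y hy => by
        haveI := Fact.mk hp
        by_cases hp0 : p = r₀
        · subst hp0; exact (mem_centralizer_iff.1 hb.2 y (hall p hp hy)).symm
        · exact (commute_cores hp0 (hall p hp hy) hb.1).symm
  have hB : core q₁ (oddPart M) ≤ core q₁ (oddPart H) := by
    refine le_trans (le_core (fun b hb => mem_others.2 ⟨D.mem_OH hb (D.commute_a hq₁0 hb),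
      fun s hs hsp y hy => ?_⟩) (fun c hc => ?_) (isPGroup_core q₁ _)) (core_others_le q₁ _)
    · haveI := Fact.mk hs
      exact (commute_cores hsp (hall s hs hy) hb).symm
    · obtain ⟨hcH, hcc⟩ := mem_others.1 hc
      have hcM : c ∈ M := by
        rw [← D.mM.normalizer_zcore D.core_r₀_ne]
        exact centralizer_le_normalizer _ (mem_centralizer_iff.2 fun y hy =>
          (hcc r₀ D.prime hq₁0.symm y (hZ hy)).eq.symm)
      exact le_normalizer_core q₁ _ (mem_oddPart hcM (odd_orderOf_of_mem D.odd_H hcH))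
  have heq := le_antisymm hB (hall q₁ hq₁)
  rw [← D.mM.eq_normalizer hq₁ne ((core_le _ _).trans (oddPart_le M))
      ((le_normalizer_oddPart M).trans (normalizer_le_core _ _)), heq]
  exact (D.mH.eq_normalizer (heq ▸ hq₁ne) ((core_le _ _).trans (oddPart_le H))
    ((le_normalizer_oddPart H).trans (normalizer_le_core _ _))).symm

end BData

end CfsgLib.DGroup
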