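import Cfsg.Agent.Lib.Base.MinimalNormal
import Cfsg.Agent.Lib.Coprime.Action2
import Cfsg.Agent.Lib.FT.OddOrderTheorem
import Mathlib

/-!
# Subgroups with a normal 2-complement

`oddPart M` is generated by the elements of odd order of `M`; `M` is thin when it has odd order.
-/

set_option autoImplicit false
set_option linter.style.haveILetI false

namespace CfsgLib.DGroup

open Subgroup Cfsg

universe u

variable {G : Type u} [Group G]

theorem odd_orderOf_of_mem {X : Subgroup G} (hX : Odd (Nat.card X)) {x : G} (hx : x ∈ X) :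
    Odd (orderOf x) :=
  hX.of_dvd_nat (Subgroup.orderOf_dvd_natCard X hx)

theorem eq_one_of_mul_self {a : G} (ha : Odd (orderOf a)) (h : a * a = 1) : a = 1 := by
  obtain ⟨m, hm⟩ := ha
  have := pow_orderOf_eq_one a
  rwa [hm, pow_succ, pow_mul, sq, h, one_pow, one_mul] at this

theorem eq_one_of_inv_eq {a : G} (ha : Odd (orderOf a)) (h : a⁻¹ = a) : a = 1 :=
  eq_one_of_mul_self ha (inv_eq_iff_mul_eq_one.1 h)

theorem commute_of_commute_sq {a b : G} (ha : Odd (orderOf a)) (h : Commute (a * a) b) :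
    Commute a b := by
  obtain ⟨m, hm⟩ := ha
  have e : (a * a) ^ (m + 1) = a := by
    rw [← sq, ← pow_mul, show 2 * (m + 1) = orderOf a + 1 by omega, pow_succ, pow_orderOf_eq_one,
      one_mul]
  exact e ▸ h.pow_left (m + 1)

/-- The subgroup generated by the elements of odd order of `M`. -/
def oddPart (M : Subgroup G) : Subgroup G := closure {x | x ∈ M ∧ Odd (orderOf x)}

/-- The elements of odd order of `M` generate a subgroup of odd order. -/
def Thin (M : Subgroup G) : Prop := Odd (Nat.card (oddPart M))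

theorem oddPart_le (M : Subgroup G) : oddPart M ≤ M := (closure_le _).2 fun _ h => h.1

theorem mem_oddPart {M : Subgroup G} {x : G} (hx : x ∈ M) (ho : Odd (orderOf x)) :
    x ∈ oddPart M :=
  subset_closure ⟨hx, ho⟩

theorem oddPart_mono {M N : Subgroup G} (h : M ≤ N) : oddPart M ≤ oddPart N :=
  closure_mono fun _ hx => ⟨h hx.1, hx.2⟩

theorem normalizer_le_oddPart (M : Subgroup G) :
    normalizer (M : Set G) ≤ normalizer (oddPart M : Set G) := by
  intro g hg
  refine mem_normalizer_iff_map_conj_eq.2 ?_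
  rw [oddPart, MonoidHom.map_closure]
  congr 1
  ext x
  constructor
  · rintro ⟨y, ⟨hy, ho⟩, rfl⟩
    exact ⟨(mem_normalizer_iff.1 hg y).1 hy, by
      show Odd (orderOf (MulAut.conj g y))
      rwa [MulEquiv.orderOf_eq]⟩
  · rintro ⟨hx, ho⟩
    refine ⟨g⁻¹ * x * g, ⟨?_, ?_⟩, by show g * (g⁻¹ * x * g) * g⁻¹ = x; group⟩
    · have := (mem_normalizer_iff.1 (inv_mem hg) x).1 hx
      simpa using this
    · have e : MulAut.conj g⁻¹ x = g⁻¹ * x * g := by simp
      rwa [← e, MulEquiv.orderOf_eq]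

theorem le_normalizer_oddPart (M : Subgroup G) : M ≤ normalizer (oddPart M : Set G) :=
  le_normalizer.trans (normalizer_le_oddPart M)

theorem Thin.mono [Finite G] {M N : Subgroup G} (h : M ≤ N) (hN : Thin N) : Thin M :=
  Odd.of_dvd_nat hN (card_dvd_of_le (oddPart_mono h))

theorem Thin.odd {M : Subgroup G} (hM : Thin M) {x : G} (hx : x ∈ oddPart M) :
    Odd (orderOf x) :=
  odd_orderOf_of_mem hM hx

/-- An element of odd order of a thin group centralises the 2-subgroups it normalises. -/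
theorem Thin.commute {M T : Subgroup G} (hM : Thin M) (hT : IsPGroup 2 T) (hTM : T ≤ M) {y : G}
    (hy : y ∈ M) (ho : Odd (orderOf y)) (hn : y ∈ normalizer (T : Set G)) {t : G} (ht : t ∈ T) :
    Commute y t := by
  have hyO := mem_oddPart hy ho
  have h1 : y * t * y⁻¹ * t⁻¹ ∈ oddPart M := by
    rw [show y * t * y⁻¹ * t⁻¹ = y * (t * y⁻¹ * t⁻¹) by group]
    exact mul_mem hyO
      ((mem_normalizer_iff.1 (le_normalizer_oddPart M (hTM ht)) _).1 (inv_mem hyO))
  have h2 : y * t * y⁻¹ * t⁻¹ ∈ T := mul_mem ((mem_normalizer_iff.1 hn t).1 ht) (inv_mem ht)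
  obtain ⟨k, hk⟩ := IsPGroup.iff_orderOf.1 hT ⟨_, h2⟩
  rw [Subgroup.orderOf_mk] at hk
  have h3 : orderOf (y * t * y⁻¹ * t⁻¹) = 1 := by
    have := hM.odd h1
    rw [hk] at this ⊢
    rcases k with _ | k
    · rfl
    · exact absurd this (by simp [Nat.odd_pow_iff])
  rw [orderOf_eq_one_iff, mul_inv_eq_one, mul_inv_eq_iff_eq_mul] at h3
  exact h3

/-- An involution without fixed points inverts a subgroup of odd order. -/
theorem inverts_of_fpf [Finite G] {B : Subgroup G} {w : G}
    (hw : w * w = 1) (hn : w ∈ normalizer (B : Set G)) (hf : ∀ b ∈ B, Commute w b → b = 1)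
    {b : G} (hb : b ∈ B) : w * b * w⁻¹ = b⁻¹ := by
  let f : B → B := fun c => ⟨(c : G)⁻¹ * (w * c * w⁻¹),
    mul_mem (inv_mem c.2) ((mem_normalizer_iff.1 hn c).1 c.2)⟩
  have hinj : Function.Injective f := by
    rintro ⟨c, hc⟩ ⟨e, he⟩ h
    have h' : c⁻¹ * (w * c * w⁻¹) = e⁻¹ * (w * e * w⁻¹) := congrArg Subtype.val h
    have h'' : e * c⁻¹ = w * (e * c⁻¹) * w⁻¹ :=
      calc e * c⁻¹ = e * (c⁻¹ * (w * c * w⁻¹)) * (w * c * w⁻¹)⁻¹ := by group
        _ = w * (e * c⁻¹) * w⁻¹ := by rw [h']; group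
    have h1 : e * c⁻¹ = 1 := hf _ (mul_mem he (inv_mem hc)) (eq_mul_inv_iff_mul_eq.1 h'').symm
    exact Subtype.ext (mul_inv_eq_one.1 h1).symm
  obtain ⟨⟨c, hcB⟩, hc⟩ := Finite.injective_iff_surjective.1 hinj ⟨b, hb⟩
  have hc' : c⁻¹ * (w * c * w⁻¹) = b := congrArg Subtype.val hc
  have hwi : w⁻¹ = w := inv_eq_of_mul_eq_one_right hw
  rw [← hc', hwi]
  calc w * (c⁻¹ * (w * c * w)) * w = w * c⁻¹ * w * c * (w * w) := by group
    _ = (c⁻¹ * (w * c * w))⁻¹ := by
      rw [hw, mul_one, mul_inv_rev, mul_inv_rev, mul_inv_rev, hwi, inv_inv]; group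

/-! ### Cores -/

/-- `O_p` of a subgroup, inside the group. -/
def core (p : ℕ) (X : Subgroup G) : Subgroup G := (pCore p X).map X.subtype

theorem core_le (p : ℕ) (X : Subgroup G) : core p X ≤ X := map_subtype_le _

theorem isPGroup_core (p : ℕ) (X : Subgroup G) : IsPGroup p (core p X) :=
  Base.isPGroup_map_pCore p X

theorem normalizer_le_core (p : ℕ) (X : Subgroup G) :
    normalizer (X : Set G) ≤ normalizer (core p X : Set G) :=
  Base.normalizer_le_normalizer_map_subtype X _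

theorem le_normalizer_core (p : ℕ) (X : Subgroup G) : X ≤ normalizer (core p X : Set G) :=
  le_normalizer.trans (normalizer_le_core p X)

theorem le_core {p : ℕ} {X Q : Subgroup G} (h : Q ≤ X) (hn : X ≤ normalizer (Q : Set G))
    (hQ : IsPGroup p Q) : Q ≤ core p X :=
  Base.le_map_pCore h hn hQ

theorem core_le_core {p : ℕ} {X Y : Subgroup G} (h : X ≤ Y) (hn : Y ≤ normalizer (X : Set G)) :
    core p X ≤ core p Y :=
  le_core ((core_le p X).trans h) (hn.trans (normalizer_le_core p X)) (isPGroup_core p X)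

theorem commute_of_normalize {p q : ℕ} (hpq : p ≠ q) [Fact p.Prime] [Fact q.Prime]
    {A B : Subgroup G} (hA : IsPGroup p A) (hB : IsPGroup q B)
    (hAB : A ≤ normalizer (B : Set G)) (hBA : B ≤ normalizer (A : Set G))
    {a b : G} (ha : a ∈ A) (hb : b ∈ B) : Commute a b := by
  have hd := IsPGroup.disjoint_of_ne p q hpq A B hA hB
  have h1 : a * b * a⁻¹ * b⁻¹ ∈ A := by
    rw [show a * b * a⁻¹ * b⁻¹ = a * (b * a⁻¹ * b⁻¹) by group]
    exact mul_mem ha ((mem_normalizer_iff.1 (hBA hb) _).1 (inv_mem ha))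
  have h2 : a * b * a⁻¹ * b⁻¹ ∈ B :=
    mul_mem ((mem_normalizer_iff.1 (hAB ha) _).1 hb) (inv_mem hb)
  have h3 := mem_bot.1 (hd.le_bot (mem_inf.2 ⟨h1, h2⟩))
  rwa [mul_inv_eq_one, mul_inv_eq_iff_eq_mul] at h3

theorem commute_cores {p q : ℕ} (hpq : p ≠ q) [Fact p.Prime] [Fact q.Prime] {X : Subgroup G}
    {a b : G} (ha : a ∈ core p X) (hb : b ∈ core q X) : Commute a b :=
  commute_of_normalize hpq (isPGroup_core p X) (isPGroup_core q X)
    ((core_le p X).trans (le_normalizer_core q X)) ((core_le q X).trans (le_normalizer_core p X))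
    ha hb

variable [Finite G]

theorem isSolvable_of_odd_card {X : Subgroup G} (hX : Odd (Nat.card X)) : Group.IsSolvable X :=
  CfsgLib.FT.isSolvable_of_odd hX

/-- An element centralising every `O_p(X)` lies in the join of them. -/
theorem mem_of_centralizes {X : Subgroup G} (hX : Odd (Nat.card X)) {x : G} (hx : x ∈ X)
    (h : ∀ p : ℕ, p.Prime → ∀ b ∈ core p X, Commute x b) :
    x ∈ (fittingSubgroup X).map X.subtype := by
  haveI := isSolvable_of_odd_card hX
  refine ⟨⟨x, hx⟩, Base.centralizer_fittingSubgroup_le ?_, rfl⟩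
  rw [Base.fittingSubgroup_eq_iSup_pCore]
  refine mem_centralizer_iff.2 fun y hy => ?_
  have hle : (⨆ p : Nat.Primes, pCore (p : ℕ) X) ≤ centralizer ({⟨x, hx⟩} : Set X) :=
    iSup_le fun p b hb => mem_centralizer_singleton_iff.2
      (Subtype.ext (h p p.2 b (mem_map_of_mem _ hb)).eq.symm)
  exact mem_centralizer_singleton_iff.1 (hle hy)

/-- An `r`-element of the Fitting subgroup lies in `O_r`. -/
theorem mem_core_of_mem_fitting {X : Subgroup G} {r : ℕ} [Fact r.Prime] {x : G}
    (hx : x ∈ (fittingSubgroup X).map X.subtype) (hr : IsPGroup r (zpowers x)) :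
    x ∈ core r X := by
  obtain ⟨f, hf, rfl⟩ := hx
  refine mem_map_of_mem _ ?_
  haveI := Base.isNilpotent_fittingSubgroup X
  rw [← Base.map_pCore_fittingSubgroup r X]
  refine ⟨⟨f, hf⟩, ?_, rfl⟩
  have hr' : IsPGroup r (zpowers (⟨f, hf⟩ : fittingSubgroup X)) := by
    refine IsPGroup.of_injective hr
      ((X.subtype.comp (fittingSubgroup X).subtype).comp (zpowers _).subtype |>.codRestrict
        (zpowers (f : G)) ?_) ?_
    · rintro ⟨_, k, rfl⟩
      exact ⟨k, by simp⟩
    · rintro a b e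
      have e' := congrArg Subtype.val e
      exact Subtype.ext (Subtype.ext (Subtype.ext e'))
  obtain ⟨T, hT⟩ := hr'.exists_le_sylow
  haveI : (T : Subgroup (fittingSubgroup X)).Normal := inferInstance
  exact Base.le_pCore T.isPGroup' (hT (mem_zpowers _))

theorem mem_core_of_centralizes {X : Subgroup G} (hX : Odd (Nat.card X)) {r : ℕ} [Fact r.Prime]
    {Q : Subgroup G} (hQ : IsPGroup r Q) {x : G} (hxQ : x ∈ Q) (hx : x ∈ X)
    (h : ∀ p : ℕ, p.Prime → ∀ b ∈ core p X, Commute x b) : x ∈ core r X :=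
  mem_core_of_mem_fitting (mem_of_centralizes hX hx h) (hQ.to_le (zpowers_le.2 hxQ))

theorem exists_core_ne_bot {X : Subgroup G} (hX : Odd (Nat.card X)) (h : X ≠ ⊥) :
    ∃ p : ℕ, p.Prime ∧ core p X ≠ ⊥ := by
  by_contra hne
  push Not at hne
  refine h (eq_bot_iff.2 fun x hx => ?_)
  have hF := mem_of_centralizes hX hx fun p hp b hb => by
    rw [hne p hp, mem_bot] at hb
    rw [hb]
    exact Commute.one_right x
  have hbot : fittingSubgroup X = ⊥ := by
    rw [Base.fittingSubgroup_eq_bot_iff]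
    intro p hp
    exact map_eq_bot_iff_of_injective _ X.subtype_injective |>.1 (hne p hp)
  rw [hbot, Subgroup.map_bot] at hF
  exact hF

end CfsgLib.DGroup
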