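import Cfsg.Agent.Lib.DGroup.Single

/-!
# Proper overgroups of an involution centraliser

In a configuration as in `Config`, the elements of odd order of a proper subgroup containing `C(z)`
centralise `z`.
-/

set_option autoImplicit false
set_option linter.style.haveILetI false
set_option linter.unusedSectionVars false

namespace CfsgLib.DGroup

open Subgroup Cfsg

universe u

variable {G : Type u} [Group G] [Finite G] [IsSimpleGroup G]
  (hna : ¬ IsMulCommutative G) (h : Config G)
include hna h

theorem not_commute_of_pair {z u : G} (F : Four z u) {M : Subgroup G} (_hM : Mem z u M)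
    (hK : ∀ a : G, Odd (orderOf a) → Commute u a → a ∈ M) :
    ∃ x ∈ oddPart M, ¬ Commute z x := by
  obtain ⟨a, ha1, hao, hua⟩ := h.exists_ne u F.ou
  exact ⟨a, mem_oddPart (hK a hao hua) hao, fun hc => ha1 (h.eq_one_of_fix F hao hc hua)⟩

theorem oddPart_ne_bot {z u : G} (F : Four z u) {M : Subgroup G} (hM : Mem z u M) :
    oddPart M ≠ ⊥ := by
  obtain ⟨a, ha1, hao, hza⟩ := h.exists_ne z F.oz
  exact fun e => ha1 (mem_bot.1 (e ▸ hM.mem_oddPart_of_commute hao hza))

theorem false_of_three {z u : G} (F : Four z u) {M : Subgroup G} (hM : Mem z u M)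
    (hKu : ∀ a : G, Odd (orderOf a) → Commute u a → a ∈ M)
    (hKw : ∀ a : G, Odd (orderOf a) → Commute (z * u) a → a ∈ M) : False := by
  obtain ⟨g, hgo, hgz, hgu⟩ := h.cycle z u F
  have hgw : g * (z * u) * g⁻¹ = z := by
    rw [show g * (z * u) * g⁻¹ = (g * z * g⁻¹) * (g * u * g⁻¹) by group, hgz, hgu, F.mul_mul']
  have hconj : ∀ v v' : G, g * v * g⁻¹ = v' → (∀ a, Odd (orderOf a) → Commute v' a → a ∈ M) →
      ∀ n ∈ oddPart M, Commute v n → n ∈ (oddPart M).comap (MulAut.conj g).toMonoidHom := by
    intro v v' e hK n hn hc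
    have ho : Odd (orderOf (g * n * g⁻¹)) := by
      rw [show g * n * g⁻¹ = MulAut.conj g n from rfl, MulEquiv.orderOf_eq]
      exact hM.thin.odd hn
    refine mem_oddPart (hK _ ho ?_) ho
    rw [← e]
    exact hc.map (MulAut.conj g).toMonoidHom
  have hle : oddPart M ≤ (oddPart M).comap (MulAut.conj g).toMonoidHom :=
    F.le_of_parts hM.thin ((F.grp_le hM.hz hM.hu).trans (le_normalizer_oddPart M))
      (hconj z u hgz hKu) (hconj u (z * u) hgu hKw) (hconj (z * u) z hgw hM.K_le)
  have hgM : g ∈ M := by
    rw [← hM.eq_normalizer (oddPart_ne_bot hna h F hM) (oddPart_le M) (le_normalizer_oddPart M),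
      mem_normalizer_iff_map_conj_eq]
    exact eq_of_le_of_card_ge (map_le_iff_le_comap.2 hle)
      (card_map_of_injective (MulAut.conj g).injective).ge
  have hgW : g ∈ normalizer (F.grp : Set G) := by
    rw [mem_normalizer_iff_map_conj_eq]
    refine eq_of_le_of_card_ge ?_ (card_map_of_injective (MulAut.conj g).injective).ge
    rintro _ ⟨w, hw, rfl⟩
    rcases hw with rfl | rfl | rfl | rfl
    · simp
    · show g * _ * g⁻¹ ∈ F.grp
      rw [hgz]; exact F.u_mem
    · show g * _ * g⁻¹ ∈ F.grp
      rw [hgu]; exact mul_mem F.z_mem F.u_mem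
    · show g * (z * u) * g⁻¹ ∈ F.grp
      rw [hgw]; exact F.z_mem
  have := hM.thin.commute F.isPGroup (F.grp_le hM.hz hM.hu) hgM hgo hgW F.z_mem
  exact F.ne (by rw [← hgz, this.eq, mul_inv_cancel_right])

theorem false_of_pair {z u : G} (F : Four z u) {M : Subgroup G} (hM : Mem z u M)
    (hK : ∀ a : G, Odd (orderOf a) → Commute u a → a ∈ M) : False := by
  have hgood := not_commute_of_pair hna h F hM hK
  have hOne := oddPart_ne_bot hna h F hM
  have hW : ∀ p, F.grp ≤ normalizer (core p (oddPart M) : Set G) := hM.grp_le_core F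
  by_cases hpart : ∃ (p : ℕ) (a : G), p.Prime ∧ a ∈ core p (oddPart M) ∧ a ≠ 1 ∧ Commute (z * u) a
  · obtain ⟨r₀, a, hr₀, ha, ha1, hwa⟩ := hpart
    by_cases hmulti : ∃ p : ℕ, p.Prime ∧ p ≠ r₀ ∧ core p (oddPart M) ≠ ⊥
    · obtain ⟨H, hH, hcent⟩ := exists_mem_of_commute hna h F.left.symm ha1
        (hM.thin.odd (core_le r₀ _ ha)) hwa
      have D : BData z (z * u) M H r₀ a := ⟨hM.third, hH, hr₀, ha, ha1, hcent, hmulti⟩
      have hHM : H = M := D.eq_of_le fun r hr he => by
        haveI := Fact.mk hr
        have hin : ∀ n ∈ core r (oddPart H), n ∈ M → n = 1 := fun n hn => D.eq_one_of_mem he hn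
        refine D.core_eq_bot h F.left he (Or.inl fun x hx => ?_)
        have hle : core r (oddPart H) ≤ centralizer ({z * u} : Set G) := by
          refine F.left.le_of_parts (hH.thin.of_dvd_nat (card_dvd_of_le (core_le r _)))
            ((F.left.grp_le hH.hu hH.hz).trans ((le_normalizer_oddPart H).trans
              (normalizer_le_core r _))) (fun n hn hc => ?_) (fun n hn hc => ?_) (fun n hn hc => ?_)
          · rw [hin n hn (hM.K_le n (hH.thin.odd (core_le r _ hn)) hc)]; exact one_mem _
          · exact mem_centralizer_singleton_iff.2 hc.eq.symm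
          · rw [F.mul_mul] at hc
            rw [hin n hn (hK n (hH.thin.odd (core_le r _ hn)) hc)]; exact one_mem _
        exact (mem_centralizer_singleton_iff.1 (hle hx)).symm
      exact false_of_three hna h F hM hK (hHM ▸ hH.K_le)
    · push Not at hmulti
      haveI := Fact.mk hr₀
      exact false_of_single (q := r₀) hna h F hM hgood hmulti
  · push Not at hpart
    have hfit : ∀ a : G, Odd (orderOf a) → (Commute z a ∨ Commute u a) →
        ∀ p : ℕ, p.Prime → ∀ b ∈ core p (oddPart M), Commute a b := by
      intro a hao hc p hp b hb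
      have hf : ∀ c ∈ core p (oddPart M), Commute (z * u) c → c = 1 := fun c hc' hcc => by
        by_contra hne
        exact hpart p c hp hc' hne hcc
      rcases hc with hc | hc
      · exact h.commute_twoPart F (hW p) hf hao hc
          (le_normalizer_core p _ (hM.mem_oddPart_of_commute hao hc)) hb
      · refine h.commute_twoPart F.symm (F.symm.grp_le ((hW p) F.u_mem) ((hW p) F.z_mem)) ?_ hao hc
          (le_normalizer_core p _ (mem_oddPart (hK a hao hc) hao)) hb
        rw [← F.comm.eq]; exact hf
    have hzu : ∀ a b : G, Odd (orderOf a) → Odd (orderOf b) → Commute z a → Commute u b →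
        Commute a b := by
      intro a b hao hbo hza hub
      have hb := mem_of_centralizes hM.thin (mem_oddPart (hK b hbo hub) hbo)
        (hfit b hbo (Or.inr hub))
      rw [Base.fittingSubgroup_eq_iSup_pCore, Subgroup.map_iSup] at hb
      have hle : (⨆ p : Nat.Primes, (pCore (p : ℕ) (oddPart M)).map (oddPart M).subtype) ≤
          centralizer ({a} : Set G) := iSup_le fun p c hc =>
        mem_centralizer_singleton_iff.2 (hfit a hao (Or.inl hza) p p.2 c hc).eq.symm
      exact (mem_centralizer_singleton_iff.1 (hle hb)).symm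
    obtain ⟨g, hgo, hgz, hgu⟩ := h.cycle z u F
    have hgw : g * (z * u) * g⁻¹ = z := by
      rw [show g * (z * u) * g⁻¹ = (g * z * g⁻¹) * (g * u * g⁻¹) by group, hgz, hgu, F.mul_mul']
    obtain ⟨e, he1, heo, hze⟩ := h.exists_ne z F.oz
    obtain ⟨M₁, hM₁, hcent⟩ := exists_mem_of_commute hna h F he1 heo hze
    refine false_of_three hna h F hM₁ (fun a hao hua => hcent a (hzu e a heo hao hze hua))
      fun a hao hwa => hcent a ?_
    have ho : ∀ x : G, Odd (orderOf x) → Odd (orderOf (g⁻¹ * x * g)) := fun x hx => by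
      rwa [show g⁻¹ * x * g = MulAut.conj g⁻¹ x by simp, MulEquiv.orderOf_eq]
    have hback : ∀ v v' x : G, g * v * g⁻¹ = v' → Commute v' x → Commute v (g⁻¹ * x * g) := by
      intro v v' x e hc
      have := hc.map (MulAut.conj g⁻¹).toMonoidHom
      rw [← e] at this
      simpa [mul_assoc] using this
    -- transport by `g⁻²`
    have c1 := hback (z * u) z e hgw hze
    have c2 := hback u (z * u) a hgu hwa
    have d1 := hback u (z * u) _ hgu c1
    have d2 := hback z u _ hgz c2
    have := (hzu _ _ (ho _ (ho _ hao)) (ho _ (ho _ heo)) d2 d1).symm.map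
      (MulAut.conj (g * g)).toMonoidHom
    simpa [mul_assoc] using this

/-- Proper subgroups containing the odd part of `C(z)` have odd part inside `C(z)`. -/
theorem commute_oddPart {z u : G} (F : Four z u) {M : Subgroup G} (hM : Mem z u M) {x : G}
    (hx : x ∈ oddPart M) : Commute z x := by
  by_contra hxz
  have hgood : ∃ y ∈ oddPart M, ¬ Commute z y := ⟨x, hx, hxz⟩
  obtain ⟨r₀, v, a, hr₀, F', hM', ha, ha1, hva⟩ : ∃ (r₀ : ℕ) (v a : G), r₀.Prime ∧ Four z v ∧
      Mem z v M ∧ a ∈ core r₀ (oddPart M) ∧ a ≠ 1 ∧ Commute v a := by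
    by_contra hno
    push Not at hno
    have hcore : ∀ p : ℕ, p.Prime → ∀ b ∈ core p (oddPart M), Commute z b := by
      intro p hp b hb
      have hle : core p (oddPart M) ≤ centralizer ({z} : Set G) := by
        refine F.le_of_parts (hM.thin.of_dvd_nat (card_dvd_of_le (core_le p _))) (hM.grp_le_core F p)
          (fun n _ hn => mem_centralizer_singleton_iff.2 hn.eq.symm) (fun n hn hc => ?_)
          (fun n hn hc => ?_)
        · by_cases h1 : n = 1
          · rw [h1]; exact one_mem _
          · exact absurd hc (hno p u n hp F hM hn h1)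
        · by_cases h1 : n = 1
          · rw [h1]; exact one_mem _
          · exact absurd hc (hno p (z * u) n hp F.left hM.third hn h1)
      exact (mem_centralizer_singleton_iff.1 (hle hb)).symm
    have hF := mem_of_centralizes hM.thin hx fun p hp b hb =>
      h.commute_onePart F (fun c hc => hM.thin.odd (core_le p _ hc)) (hcore p hp) hM.thin
        ((F.grp_le hM.hz hM.hu).trans (le_normalizer_oddPart M)) (le_normalizer_core p _) hx hb
    rw [Base.fittingSubgroup_eq_iSup_pCore, Subgroup.map_iSup] at hF
    have hle : (⨆ p : Nat.Primes, (pCore (p : ℕ) (oddPart M)).map (oddPart M).subtype) ≤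
        centralizer ({z} : Set G) := iSup_le fun p c hc =>
      mem_centralizer_singleton_iff.2 (hcore p p.2 c hc).eq.symm
    exact hxz (mem_centralizer_singleton_iff.1 (hle hF)).symm
  clear F hM
  by_cases hmulti : ∃ p : ℕ, p.Prime ∧ p ≠ r₀ ∧ core p (oddPart M) ≠ ⊥
  · obtain ⟨H, hH, hcent⟩ := exists_mem_of_commute hna h F'.symm ha1
      (hM'.thin.odd (core_le r₀ _ ha)) hva
    have D : BData z v M H r₀ a := ⟨hM', hH, hr₀, ha, ha1, hcent, hmulti⟩
    by_cases hall : ∀ r : ℕ, r.Prime → core r (oddPart M) = ⊥ →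
        (∀ y ∈ core r (oddPart H), Commute v y) ∨ ∀ y ∈ core r (oddPart H), Commute (z * v) y
    · have hHM : H = M := D.eq_of_le fun r hr he => by
        haveI := Fact.mk hr
        exact D.core_eq_bot h F' he (hall r hr he)
      exact false_of_pair hna h F' hM' (hHM ▸ hH.K_le)
    · push Not at hall
      obtain ⟨r, hr, he, ⟨y, hy, hvy⟩, -⟩ := hall
      haveI := Fact.mk hr
      have hWH : F'.grp ≤ normalizer (core r (oddPart H) : Set G) :=
        (F'.grp_le hH.hu hH.hz).trans ((le_normalizer_oddPart H).trans (normalizer_le_core r _))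
      have hodd : ∀ n ∈ core r (oddPart H), Odd (orderOf n) := fun n hn =>
        hH.thin.odd (core_le r _ hn)
      have hz1 : ∀ n ∈ core r (oddPart H), Commute z n → n = 1 := fun n hn hc =>
        D.eq_one_of_mem he hn (hM'.K_le n (hodd n hn) hc)
      obtain ⟨b, hb, hb1, hwb⟩ : ∃ b ∈ core r (oddPart H), b ≠ 1 ∧ Commute (z * v) b := by
        by_contra hno'
        push Not at hno'
        have hle : core r (oddPart H) ≤ centralizer ({v} : Set G) := by
          refine F'.le_of_parts (hH.thin.of_dvd_nat (card_dvd_of_le (core_le r _))) hWH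
            (fun n hn hc => ?_) (fun n _ hc => mem_centralizer_singleton_iff.2 hc.eq.symm)
            (fun n hn hc => ?_)
          · rw [hz1 n hn hc]; exact one_mem _
          · by_cases h1 : n = 1
            · rw [h1]; exact one_mem _
            · exact absurd hc (hno' n hn h1)
        exact hvy (mem_centralizer_singleton_iff.1 (hle hy)).symm
      have F2 : Four v (z * v) := F'.right
      have hkb : ∀ k : G, Odd (orderOf k) → Commute v k → Commute k b := fun k hko hvk =>
        h.commute_twoPart F2 (F2.grp_le (hWH F'.u_mem) (hWH (mul_mem F'.z_mem F'.u_mem)))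
          (by rw [F'.mul_mul']; exact hz1) hko hvk
          (le_normalizer_core r _ (hH.mem_oddPart_of_commute hko hvk)) hb
      obtain ⟨M', hM'', hcent'⟩ := exists_mem_of_commute hna h F2.symm hb1 (hodd b hb) hwb
      exact false_of_pair hna h F2.symm hM'' fun k hko hvk => hcent' k (hkb k hko hvk).symm
  · push Not at hmulti
    haveI := Fact.mk hr₀
    exact false_of_single (q := r₀) hna h F' hM' hgood hmulti

/-- The odd part of a proper subgroup containing `C(z)` centralises `z`. -/
theorem commute_of_mem_overgroup {z u : G} (F : Four z u) {Y : Subgroup G} (hY : Y ≠ ⊤)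
    (hC : centralizer ({z} : Set G) ≤ Y) {x : G} (hx : x ∈ Y) (ho : Odd (orderOf x)) :
    Commute z x := by
  obtain ⟨M, hM, hle⟩ := exists_mem h F hY hC
  exact commute_oddPart hna h F hM (mem_oddPart (hle hx) ho)

end CfsgLib.DGroup
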