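import Cfsg.Agent.Lib.DGroup.Fusion
import Cfsg.Agent.Lib.DGroup.Uniq
import Cfsg.Agent.Lib.CharsMore.BSWRecog.Dihedral
import Cfsg.Agent.Lib.Classical.Dihedral

/-!
# Simple groups: the Brauer–Suzuki–Wall configuration
-/

set_option autoImplicit false
set_option linter.unusedSectionVars false
set_option linter.style.haveILetI false

namespace CfsgLib.DGroup

open Subgroup CfsgLib.Involutions

universe u

variable {G : Type u} [Group G] [Finite G] {P : Sylow 2 G} {d : DP (P : Subgroup G)} {R : Subgroup G}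

theorem odd_conj (g : G) {a : G} (ha : Odd (orderOf a)) : Odd (orderOf (g * a * g⁻¹)) := by
  rwa [show g * a * g⁻¹ = MulAut.conj g a from rfl, MulEquiv.orderOf_eq]

theorem odd_conj' (g : G) {a : G} (ha : Odd (orderOf a)) : Odd (orderOf (g⁻¹ * a * g)) := by
  simpa using odd_conj g⁻¹ ha

theorem commute_conj' (g : G) {a b : G} (h : Commute (g * a * g⁻¹) b) :
    Commute a (g⁻¹ * b * g) := by
  have := h.map (MulAut.conj g⁻¹).toMonoidHom
  simpa [mul_assoc] using this

theorem oddPart_map_conj (g : G) (Y : Subgroup G) :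
    oddPart (Y.map (MulAut.conj g).toMonoidHom) = (oddPart Y).map (MulAut.conj g).toMonoidHom := by
  rw [oddPart, oddPart, MonoidHom.map_closure]
  congr 1
  ext v
  constructor
  · rintro ⟨⟨w, hw, rfl⟩, ho⟩
    exact ⟨w, ⟨hw, by rwa [MulEquiv.coe_toMonoidHom, MulEquiv.orderOf_eq] at ho⟩, rfl⟩
  · rintro ⟨w, ⟨hw, ho⟩, rfl⟩
    exact ⟨⟨w, hw, rfl⟩, by rwa [MulEquiv.coe_toMonoidHom, MulEquiv.orderOf_eq]⟩

/-- The dihedral isomorphism. -/
theorem nonempty_iso_dihedral (d : DP (P : Subgroup G)) :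
    Nonempty ((P : Subgroup G) ≃* DihedralGroup (2 ^ d.n)) := by
  refine CfsgLib.Classical.nonempty_mulEquiv_dihedralGroup (x := (⟨d.x, d.x_mem⟩ : (P : Subgroup G)))
    (s := ⟨d.y, d.y_mem⟩) (pow_pos two_pos _) ((Subgroup.orderOf_mk _ _).trans d.orderOf_x)
    (Subtype.ext (invol_mul_self d.orderOf_y)) (Subtype.ext d.conj_y) ?_ d.card_eq
  rintro ⟨i, hi⟩
  exact d.y_not ⟨i, by simpa using congrArg Subtype.val hi⟩

namespace Cen

variable [IsSimpleGroup G] (h : Cen d R) (hna : ¬ IsMulCommutative G)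
include h hna

theorem exists_four_rep {z u : G} (F : Four z u) : ∃ (g : G) (i : ℤ) (a : G), a ∈ R ∧
    g * d.z * g⁻¹ = z ∧ g * (a * d.r i) * g⁻¹ = u := by
  obtain ⟨g, hg⟩ := isConj_iff.1 (d.isConj_z (not_F2_of_simple hna d) F.oz)
  have hwo : orderOf (g⁻¹ * u * g) = 2 := by
    rw [show g⁻¹ * u * g = MulAut.conj g⁻¹ u by simp, MulEquiv.orderOf_eq]
    exact F.ou
  have hwc : Commute d.z (g⁻¹ * u * g) := commute_conj' g (hg.symm ▸ F.comm)
  have hwz : g⁻¹ * u * g ≠ d.z := fun e => F.ne <| by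
    rw [← hg, ← e]; group
  obtain ⟨a, ha, i, hi⟩ := (invol_cent h hwo hwc).resolve_left hwz
  exact ⟨g, i, a, ha, hg, by rw [← hi]; group⟩

theorem config (hR : R ≠ ⊥) : Config G where
  comm t ht a b hao hbo hta htb := by
    obtain ⟨g, rfl⟩ := isConj_iff.1 (d.isConj_z (not_F2_of_simple hna d) ht)
    have hA := h.mem_R (odd_conj' g hao) (commute_conj' g hta)
    have hB := h.mem_R (odd_conj' g hbo) (commute_conj' g htb)
    have := (h.comm _ hA _ hB : Commute _ _).map (MulAut.conj g).toMonoidHom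
    simpa [mul_assoc] using this
  inv z u F a hao hza := by
    obtain ⟨g, i, b, hb, rfl, rfl⟩ := h.exists_four_rep hna F
    have hA := h.mem_R (odd_conj' g hao) (commute_conj' g hza)
    rw [show g * (b * d.r i) * g⁻¹ * a * (g * (b * d.r i) * g⁻¹)⁻¹ =
      g * (b * (d.r i * (g⁻¹ * a * g) * (d.r i)⁻¹) * b⁻¹) * g⁻¹ by group, h.r_conj_eq i hA,
      h.inv_y hna hA, h.comm b hb _ (inv_mem hA), mul_inv_cancel_right]
    group
  cycle z u F := by
    obtain ⟨g, i, a, ha, rfl, rfl⟩ := h.exists_four_rep hna F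
    obtain ⟨m, hm⟩ := h.odd_of_mem ha
    set b := a ^ (m + 1) with hbdef
    have hb : b ∈ R := pow_mem ha _
    have hbr : b * d.r i * b⁻¹ = a * d.r i := by
      have e1 : d.r i * b⁻¹ * (d.r i)⁻¹ = b := by
        rw [h.r_conj_eq i (inv_mem hb), h.inv_y hna (inv_mem hb), inv_inv]
      rw [show b * d.r i * b⁻¹ = b * (d.r i * b⁻¹ * (d.r i)⁻¹) * d.r i by group, e1, hbdef, ← pow_add,
        show m + 1 + (m + 1) = orderOf a + 1 by omega, pow_succ, pow_orderOf_eq_one, one_mul]
    have hbz : b * d.z * b⁻¹ = d.z := by rw [← (h.commute_z hb).eq, mul_inv_cancel_right]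
    obtain ⟨c, -, hco, hc1, hc2⟩ := d.exists_cycle (not_F2_of_simple hna d i)
    refine ⟨(g * b) * c * (g * b)⁻¹, odd_conj (g * b) hco, ?_, ?_⟩
    · have e0 : g * d.z * g⁻¹ = (g * b) * d.z * (g * b)⁻¹ := by
        conv_lhs => rw [← hbz]
        group
      rw [e0, show (g * b) * c * (g * b)⁻¹ * ((g * b) * d.z * (g * b)⁻¹) * ((g * b) * c * (g * b)⁻¹)⁻¹
        = (g * b) * (c * d.z * c⁻¹) * (g * b)⁻¹ by group, hc1, ← hbr]
      group
    · rw [← hbr, show (g * b) * c * (g * b)⁻¹ * (g * (b * d.r i * b⁻¹) * g⁻¹) *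
        ((g * b) * c * (g * b)⁻¹)⁻¹ = (g * b) * (c * d.r i * c⁻¹) * (g * b)⁻¹ by group, hc2]
      conv_rhs => rw [← hbz]
      group
  thin t ht Y hY hC := by
    obtain ⟨g, hg⟩ := isConj_iff.1 (d.isConj_z (not_F2_of_simple hna d) ht)
    have hC' : centralizer ({d.z} : Set G) ≤ Y.map (MulAut.conj g⁻¹).toMonoidHom := by
      intro c hc
      refine ⟨g * c * g⁻¹, hC (mem_centralizer_singleton_iff.2 ?_), by simp [mul_assoc]⟩
      rw [← hg, show g * c * g⁻¹ * (g * d.z * g⁻¹) = g * (c * d.z) * g⁻¹ by group,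
        mem_centralizer_singleton_iff.1 hc]
      group
    have htop : Y.map (MulAut.conj g⁻¹).toMonoidHom ≠ ⊤ := fun e => hY (Subgroup.eq_top_of_card_eq _ (by
      have h1 : Nat.card (Y.map (MulAut.conj g⁻¹).toMonoidHom) = Nat.card Y :=
        card_map_of_injective (MulAut.conj g⁻¹).injective
      rw [← h1, e, card_top]))
    have := thin_of_not_fused (h.P_le.trans hC') (h.not_fused hna hR htop hC')
    rw [Thin, oddPart_map_conj, card_map_of_injective (MulAut.conj g⁻¹).injective] at this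
    exact this
  norm t a ht hao hta := by
    obtain ⟨g, rfl⟩ := isConj_iff.1 (d.isConj_z (not_F2_of_simple hna d) ht)
    intro c hc
    have hA := h.mem_R (odd_conj' g hao) (commute_conj' g hta)
    set a' := g⁻¹ * a * g with ha'
    obtain ⟨b, hb, s, hs, hbs⟩ := h.exists_mul
      (commute_conj' g ((mem_centralizer_singleton_iff.1 hc).symm : Commute _ c))
    have hpm : c * a * c⁻¹ = a ∨ c * a * c⁻¹ = a⁻¹ := by
      have e : c * a * c⁻¹ = g * (b * (s * a' * s⁻¹) * b⁻¹) * g⁻¹ := by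
        rw [show c = g * (b * s) * g⁻¹ by rw [← hbs]; group, ha']
        group
      rcases d.cover s hs with ⟨i, rfl⟩ | ⟨i, rfl⟩
      · left
        rw [e, ((h.cent_x a' hA).zpow_left i).eq, mul_inv_cancel_right, h.comm b hb a' hA,
          mul_inv_cancel_right, ha']
        group
      · right
        rw [e, show d.x ^ i * d.y = d.r i from rfl, h.r_conj_eq i hA, h.inv_y hna hA,
          h.comm b hb _ (inv_mem hA), mul_inv_cancel_right, ha']
        group
    rw [mem_normalizer_iff_map_conj_eq, MonoidHom.map_zpowers]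
    rcases hpm with e | e
    · exact congrArg zpowers e
    · show zpowers (c * a * c⁻¹) = zpowers a
      rw [e, zpowers_inv]
  exists_ne t ht := by
    obtain ⟨g, rfl⟩ := isConj_iff.1 (d.isConj_z (not_F2_of_simple hna d) ht)
    obtain ⟨⟨a, ha⟩, ha1⟩ := (ne_bot_iff_exists_ne_one (H := R)).1 hR
    exact ⟨g * a * g⁻¹, fun e => ha1 (Subtype.ext (conj_eq_one_iff.1 e)),
      odd_conj g (h.odd_of_mem ha), (h.commute_z ha).map (MulAut.conj g).toMonoidHom⟩
  qdFree p _ hp := not_invHom_qd d hp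

theorem normalizer_le {Y : Subgroup G} (hY : Y ≤ R) (hne : Y ≠ ⊥) :
    normalizer (Y : Set G) ≤ centralizer ({d.z} : Set G) := by
  obtain ⟨⟨a, ha⟩, ha1⟩ := (ne_bot_iff_exists_ne_one (H := Y)).1 hne
  have haR := hY ha
  have ha1' : a ≠ 1 := fun e => ha1 (Subtype.ext e)
  have hR : R ≠ ⊥ := fun e => hne (le_bot_iff.1 (e ▸ hY))
  have hcfg := h.config hna hR
  have F : Four d.z (d.r 0) := ⟨d.orderOf_z, d.orderOf_r 0, d.commute_z (d.r_mem 0), d.z_ne_r 0⟩
  set N := normalizer (zpowers a : Set G) with hN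
  have hNtop : N ≠ ⊤ := normalizer_zpowers_ne_top hna ha1'
  have hCN : centralizer ({d.z} : Set G) ≤ N :=
    hcfg.norm _ a d.orderOf_z (h.odd_of_mem haR) (h.commute_z haR)
  obtain ⟨O, hON, -, hOodd, hOP⟩ := exists_core d (h.P_le.trans hCN) (h.not_fused hna hR hNtop hCN)
  have hNC : N ≤ centralizer ({d.z} : Set G) := by
    rw [← hOP]
    refine sup_le (fun x hx => ?_) h.P_le
    exact mem_centralizer_singleton_iff.2
      (commute_of_mem_overgroup hna hcfg F hNtop hCN (hON hx) (odd_orderOf_of_mem hOodd hx)).eq.symm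
  -- elements normalising `Y`
  intro g hg
  have hCY : ∀ v ∈ centralizer (Y : Set G), Commute d.z v := fun v hv => by
    refine (mem_centralizer_singleton_iff.1 (hNC ?_)).symm
    exact le_normalizer_zpowers_of_commute (mem_centralizer_iff.1 hv a ha)
  have hzY : d.z ∈ centralizer (Y : Set G) :=
    mem_centralizer_iff.2 fun y hy => (h.commute_z (hY hy)).eq.symm
  set w := g * d.z * g⁻¹ with hw
  have hwY : w ∈ centralizer (Y : Set G) :=
    (mem_normalizer_iff.1 (CfsgLib.Coprime.le_normalizer_centralizer le_rfl hg) _).1 hzY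
  have hwo : orderOf w = 2 := conj_invol g d.orderOf_z
  suffices e : w = d.z by
    refine mem_centralizer_singleton_iff.2 ?_
    exact mul_inv_eq_iff_eq_mul.1 e
  rcases invol_cent h hwo (hCY w hwY) with e | ⟨b, hb, i, e⟩
  · exact e
  · exfalso
    have hc : a * w = w * a := mem_centralizer_iff.1 hwY a ha
    rw [e] at hc
    have h1 : b * d.r i * a * (b * d.r i)⁻¹ = a := by rw [← hc, mul_inv_cancel_right]
    rw [show b * d.r i * a * (b * d.r i)⁻¹ = b * (d.r i * a * (d.r i)⁻¹) * b⁻¹ by group,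
      h.r_conj_eq i haR, h.inv_y hna haR, h.comm b hb _ (inv_mem haR), mul_inv_cancel_right] at h1
    exact ha1' (eq_one_of_inv_eq (h.odd_of_mem haR) h1)

theorem map_oddCore_eq :
    (Cfsg.oddCore (centralizer ({d.z} : Set G))).map (centralizer ({d.z} : Set G)).subtype = R := by
  set L := centralizer ({d.z} : Set G)
  refine le_antisymm ?_ ?_
  · rintro _ ⟨w, hw, rfl⟩
    refine h.mem_R ?_ (mem_centralizer_singleton_iff.1 w.2).symm
    show Odd (orderOf (w : G))
    rw [orderOf_coe]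
    exact (CfsgLib.Base.odd_card_oddCore _).of_dvd_nat (Subgroup.orderOf_dvd_natCard _ hw)
  · haveI : (R.subgroupOf L).Normal := by
      refine normal_subgroupOf_of_le_normalizer ?_
      show centralizer ({d.z} : Set G) ≤ _
      rw [h.eq, sup_le_iff]
      exact ⟨Subgroup.le_normalizer, h.le_normalizer_R⟩
    intro a ha
    refine ⟨⟨a, h.R_le ha⟩, CfsgLib.Base.le_oddCore (N := R.subgroupOf L) ?_ (mem_subgroupOf.2 ha),
      rfl⟩
    rw [Nat.card_congr (subgroupOfEquivOfLe h.R_le).toEquiv]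
    exact h.odd

/-- A simple group with this involution centralizer is `PSL(2, q)`. -/
theorem exists_psl : ∃ (F : Type) (_ : Field F) (_ : Fintype F), Odd (Fintype.card F) ∧
    Nonempty (G ≃* Matrix.ProjectiveSpecialLinearGroup (Fin 2) F) := by
  obtain ⟨eS⟩ := nonempty_iso_dihedral d
  have hn : 2 ≤ 2 ^ d.n := by
    calc 2 = 2 ^ 1 := rfl
      _ ≤ 2 ^ d.n := Nat.pow_le_pow_right two_pos d.one_le
  have hyR : R ≠ ⊥ → d.y ∉ centralizer (R : Set G) := fun hR hy => by
    obtain ⟨⟨a, ha⟩, ha1⟩ := (ne_bot_iff_exists_ne_one (H := R)).1 hR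
    have := h.inv_y hna ha
    rw [← mem_centralizer_iff.1 hy a ha, mul_inv_cancel_right] at this
    exact ha1 (Subtype.ext (eq_one_of_inv_eq (h.odd_of_mem ha) this.symm))
  have hX : R ≠ ⊥ → (P : Subgroup G) ⊓ centralizer (R : Set G) = zpowers d.x := fun hR => by
    refine le_antisymm (fun s hs => ?_) (zpowers_le.2 ⟨d.x_mem, mem_centralizer_iff.2 fun a ha =>
      (h.cent_x a ha).eq.symm⟩)
    rcases d.cover s hs.1 with ⟨i, rfl⟩ | ⟨i, rfl⟩
    · exact zpow_mem (mem_zpowers _) i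
    · exfalso
      refine hyR hR ((mul_mem_cancel_left ?_).1 hs.2)
      exact zpow_mem (mem_centralizer_iff.2 fun a ha => (h.cent_x a ha).eq.symm) i
  refine CfsgLib.CharsMore.BSWRecog.exists_psl P hn eS d.orderOf_z d.z_mem
    (fun s hs => (d.commute_z hs).eq.symm) R (h.map_oddCore_eq hna).symm (fun hR => ?_)
    (fun s hs hns a ha => ?_) fun Y hY hne => h.normalizer_le hna hY hne
  · rw [hX hR]
    refine ⟨inferInstance, relIndex_eq_two_iff.2 ⟨d.y, d.y_mem, fun b hb => ?_⟩⟩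
    rcases d.cover b hb with ⟨i, rfl⟩ | ⟨i, rfl⟩
    · exact Or.inr ⟨zpow_mem (mem_zpowers _) _, d.r_not_mem i⟩
    · refine Or.inl ⟨?_, d.r_not_mem i⟩
      rw [mul_assoc, invol_mul_self d.orderOf_y, mul_one]
      exact zpow_mem (mem_zpowers _) _
  · rcases d.cover s hs with ⟨i, rfl⟩ | ⟨i, rfl⟩
    · exact absurd (zpow_mem (mem_centralizer_iff.2 fun b hb => (h.cent_x b hb).eq.symm) i) hns
    · rw [show d.x ^ i * d.y = d.r i from rfl, h.r_conj_eq i ha, h.inv_y hna ha]

end Cen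

end CfsgLib.DGroup
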