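import Cfsg.Agent.Lib.DGroup.One
import Cfsg.Agent.Lib.Base.MinimalNormal
import Cfsg.Agent.Lib.Base.HallConverse
import Cfsg.Agent.Lib.Fusion.MaxClassGroups

/-!
# One class of involutions
-/

set_option autoImplicit false
set_option linter.unusedSectionVars false
set_option linter.style.haveILetI false

namespace CfsgLib.DGroup

open Subgroup CfsgLib.Involutions

universe u

variable {G : Type u} [Group G] [Finite G]

theorem isSolvable_of_odd_index (N : Subgroup G) [N.Normal] (hs : Group.IsSolvable N)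
    (ho : Odd N.index) : Group.IsSolvable G :=
  Base.isSolvable_of_normal N hs (CfsgLib.FT.isSolvable_of_odd (by rwa [← N.index_eq_card]))

theorem eq_bot_of_odd_normal_in (hO : ∀ N : Subgroup G, N.Normal → Odd (Nat.card N) → N = ⊥)
    {N : Subgroup G} [N.Normal] {M : Subgroup N} [M.Normal] (hM : Odd (Nat.card M)) : M = ⊥ := by
  haveI : (Cfsg.oddCore N).Characteristic := by unfold Cfsg.oddCore; infer_instance
  have h := hO ((Cfsg.oddCore N).map N.subtype) inferInstance (by
    rw [card_map_of_injective N.subtype_injective]; exact Base.odd_card_oddCore N)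
  rw [Subgroup.map_eq_bot_iff_of_injective _ N.subtype_injective] at h
  exact le_bot_iff.1 ((Base.le_oddCore hM).trans h.le)

variable {P : Sylow 2 G} {d : DP (P : Subgroup G)} {R : Subgroup G}

theorem Cen.inf (h : Cen d R) {M : Subgroup G} (hPM : (P : Subgroup G) ≤ M) :
    Cen (subDP d hPM) (R.subgroupOf M) where
  comm a ha b hb := Subtype.ext (h.comm a ha b hb).eq
  odd := by
    refine Odd.of_dvd_nat h.odd ?_
    rw [← card_map_of_injective (f := M.subtype) M.subtype_injective]
    exact card_dvd_of_le (map_le_iff_le_comap.2 le_rfl)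
  cent_x a ha := Subtype.ext (h.cent_x a ha).eq
  conj_y a ha := h.conj_y a ha
  eq := by
    ext g
    rw [mem_centralizer_singleton_iff]
    constructor
    · intro hg
      have hg' : Commute d.z (g : G) := by
        rw [← coe_subDP_z d hPM]; exact (congrArg Subtype.val hg).symm
      obtain ⟨a, ha, s, hs, he⟩ := h.exists_mul hg'
      have haM : a ∈ M := (mul_mem_cancel_right (hPM hs)).1 (he ▸ g.2)
      rw [show g = (⟨a, haM⟩ : M) * ⟨s, hPM hs⟩ from Subtype.ext he]
      exact mul_mem (mem_sup_left ha) (mem_sup_right (by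
        rw [Sylow.coe_subtype, mem_subgroupOf]; exact hs))
    · intro hg
      refine Subtype.ext ?_
      rw [Subgroup.coe_mul, Subgroup.coe_mul, coe_subDP_z d hPM]
      have hle : R.subgroupOf M ⊔ ((P.subtype hPM : Sylow 2 M) : Subgroup M) ≤
          (centralizer ({d.z} : Set G)).subgroupOf M :=
        sup_le (fun a ha => mem_subgroupOf.2 (h.R_le ha)) fun a ha => mem_subgroupOf.2 (h.P_le (by
          rw [Sylow.coe_subtype, mem_subgroupOf] at ha; exact ha))
      exact mem_centralizer_singleton_iff.1 (mem_subgroupOf.1 (hle hg))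

/-- With one class of involutions and no odd normal subgroup the group is simple. -/
theorem Cen.isSimpleGroup (h : Cen d R) (hT : ∀ i, ¬ d.F2 i) (hns : ¬ Group.IsSolvable G)
    (hO : ∀ N : Subgroup G, N.Normal → Odd (Nat.card N) → N = ⊥) :
    IsSimpleGroup G ∧ ¬ IsMulCommutative G := by
  classical
  haveI : Nontrivial G := by
    by_contra hn
    haveI := not_nontrivial_iff_subsingleton.1 hn
    exact hns inferInstance
  obtain ⟨N, hN⟩ := Base.exists_isMinimalNormal (G := G)
  haveI := hN.normal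
  have hNeven : 2 ∣ Nat.card N := by
    by_contra hn
    exact hN.ne_bot (hO N inferInstance (Nat.odd_iff.2 (Nat.two_dvd_ne_zero.1 hn)))
  haveI : Fact (Nat.Prime 2) := ⟨Nat.prime_two⟩
  obtain ⟨⟨t, htN⟩, ht⟩ := exists_prime_orderOf_dvd_card' 2 hNeven
  rw [Subgroup.orderOf_mk] at ht
  have hinvN : ∀ s : G, orderOf s = 2 → s ∈ N := fun s hs => by
    obtain ⟨c, hc⟩ := isConj_iff.1 ((d.isConj_z hT ht).symm.trans (d.isConj_z hT hs))
    exact hc ▸ hN.normal.conj_mem t htN c
  have hPN : (P : Subgroup G) ≤ N := by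
    intro s hs
    rcases d.cover s hs with ⟨i, rfl⟩ | ⟨i, rfl⟩
    · have := mul_mem (hinvN _ (d.orderOf_r i)) (hinvN _ (d.orderOf_r 0))
      rwa [d.r_mul_r, sub_zero] at this
    · exact hinvN _ (d.orderOf_r i)
  have hidx : Odd N.index := Nat.odd_iff.2 (Nat.two_dvd_ne_zero.1
    fun h2 => P.not_dvd_index (h2.trans (index_dvd_of_le hPN)))
  have hperf : _root_.commutator N = ⊤ := by
    rcases hN.eq_bot_or_eq (K := ⁅N, N⁆) inferInstance (commutator_le_self N) with e | e
    · exfalso
      refine hns (isSolvable_of_odd_index N ?_ hidx)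
      haveI : IsMulCommutative N := ⟨⟨fun a b => Subtype.ext
        (mul_inv_eq_one.1 (mem_bot.1 (e ▸ commutator_mem_commutator a.2 b.2 :
          (a : G) * b * (a : G)⁻¹ * (b : G)⁻¹ ∈ (⊥ : Subgroup G))) |> fun h1 =>
            mul_inv_eq_iff_eq_mul.1 h1)⟩⟩
      exact Group.isSolvable_of_comm fun a b => mul_comm' a b
    · exact map_injective N.subtype_injective (by
        rw [map_subtype_commutator, e, ← MonoidHom.range_eq_map, Subgroup.range_subtype])
  set d' := subDP d hPN with hd'
  have hTN : ∀ i, ¬ d'.F2 i := fun i hF => by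
    obtain ⟨H, hH⟩ := d'.exists_index_two hF
    haveI := normal_of_index_eq_two hH
    have : _root_.commutator N ≤ H := by
      rw [_root_.commutator_def, commutator_le]
      intro a _ b _
      rw [commutatorElement_def, mul_mem_iff_of_index_two hH, mul_mem_iff_of_index_two hH,
        mul_mem_iff_of_index_two hH, inv_mem_iff, inv_mem_iff]
      tauto
    rw [hperf, top_le_iff] at this
    rw [this, index_top] at hH
    omega
  haveI : Nontrivial N := (nontrivial_iff_ne_bot N).2 hN.ne_bot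
  haveI hNsimple : IsSimpleGroup N := by
    refine ⟨fun M hM => or_iff_not_imp_left.2 fun hne => ?_⟩
    by_cases h2 : 2 ∣ Nat.card M
    · obtain ⟨⟨s, hsM⟩, hs⟩ := exists_prime_orderOf_dvd_card' 2 h2
      rw [Subgroup.orderOf_mk] at hs
      have hinvM : ∀ w : N, orderOf w = 2 → w ∈ M := fun w hw => by
        obtain ⟨c, hc⟩ := isConj_iff.1 ((d'.isConj_z hTN hs).symm.trans (d'.isConj_z hTN hw))
        exact hc ▸ hM.conj_mem s hsM c
      have hPM : ((P.subtype hPN : Sylow 2 N) : Subgroup N) ≤ M := by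
        intro w hw
        rcases d'.cover w hw with ⟨i, rfl⟩ | ⟨i, rfl⟩
        · have := mul_mem (hinvM _ (d'.orderOf_r i)) (hinvM _ (d'.orderOf_r 0))
          rwa [d'.r_mul_r, sub_zero] at this
        · exact hinvM _ (d'.orderOf_r i)
      by_contra hMtop
      haveI : Nontrivial (N ⧸ M) := QuotientGroup.nontrivial_iff.2 hMtop
      haveI : Group.IsSolvable (N ⧸ M) := CfsgLib.FT.isSolvable_of_odd (by
        rw [← M.index_eq_card]
        exact Nat.odd_iff.2 (Nat.two_dvd_ne_zero.1
          fun h2 => (P.subtype hPN).not_dvd_index (h2.trans (index_dvd_of_le hPM))))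
      refine (Group.IsSolvable.commutator_lt_top_of_nontrivial (N ⧸ M)).ne ?_
      rw [← Subgroup.map_top_of_surjective _ (QuotientGroup.mk'_surjective M), ← hperf,
        _root_.commutator_def, _root_.commutator_def, Subgroup.map_commutator,
        Subgroup.map_top_of_surjective _ (QuotientGroup.mk'_surjective M)]
    · exact absurd (eq_bot_of_odd_normal_in hO (Nat.odd_iff.2 (Nat.two_dvd_ne_zero.1 h2))) hne
  have hna : ¬ IsMulCommutative N := fun hc => by
    refine hns (isSolvable_of_odd_index N ?_ hidx)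
    exact Group.isSolvable_of_comm fun a b => mul_comm' a b
  have h' : Cen d' (R.subgroupOf N) := h.inf hPN
  suffices hNtop : N = ⊤ by
    let e : N ≃* G := (MulEquiv.subgroupCongr hNtop).trans Subgroup.topEquiv
    refine ⟨e.symm.isSimpleGroup, fun hc => hna ⟨⟨fun a b => e.injective ?_⟩⟩⟩
    rw [map_mul, map_mul]
    exact mul_comm' _ _
  set R₀ := R ⊓ centralizer ({d.y} : Set G) with hR₀
  have hR₀c : ∀ a ∈ R₀, a ∈ R ∧ Commute a d.y := fun a ha =>
    ⟨ha.1, mem_centralizer_singleton_iff.1 ha.2⟩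
  -- `G = N R₀`
  have hG : N ⊔ R₀ = ⊤ := by
    refine eq_top_iff.2 fun g _ => ?_
    have hzz : orderOf (g⁻¹ * d.z * g) = 2 := by
      simpa using conj_invol g⁻¹ d.orderOf_z
    obtain ⟨c, hc⟩ := isConj_iff.1 (d'.isConj_z hTN
      (t := ⟨g⁻¹ * d.z * g, hinvN _ hzz⟩) (by rw [Subgroup.orderOf_mk]; exact hzz))
    have hc' : (c : G) * d.z * (c : G)⁻¹ = g⁻¹ * d.z * g := by
      have := congrArg Subtype.val hc
      rw [Subgroup.coe_mul, Subgroup.coe_mul, Subgroup.coe_inv, coe_subDP_z d hPN] at this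
      exact this
    have hcm : Commute d.z (g * c) := by
      show d.z * (g * c) = g * c * d.z
      calc d.z * (g * c) = g * (g⁻¹ * d.z * g) * c := by group
        _ = g * c * d.z := by rw [← hc']; group
    obtain ⟨a, ha, s, hs, he⟩ := h.exists_mul hcm
    have hy : d.y ∈ N := hPN d.y_mem
    have haR : a ∈ N ⊔ R₀ := by
      set b := d.y * a * d.y⁻¹ with hb
      have hbR := h.conj_y a ha
      have h1 : a * b⁻¹ ∈ N := by
        rw [hb, show a * (d.y * a * d.y⁻¹)⁻¹ = a * d.y * a⁻¹ * d.y⁻¹ by group]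
        exact mul_mem (hN.normal.conj_mem _ hy a) (inv_mem hy)
      have h2 : a * b ∈ R₀ := by
        refine ⟨mul_mem ha hbR, mem_centralizer_singleton_iff.2 ?_⟩
        have hyy := invol_mul_self d.orderOf_y
        have e1 : d.y * (a * b) * d.y⁻¹ = a * b := by
          rw [hb, show d.y * (a * (d.y * a * d.y⁻¹)) * d.y⁻¹ =
            d.y * a * d.y⁻¹ * ((d.y * d.y) * a * (d.y * d.y)⁻¹) by group, hyy, one_mul, inv_one,
            mul_one]
          exact (h.comm _ hbR a ha).eq
        exact (mul_inv_eq_iff_eq_mul.1 e1).symm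
      have h3 : a * a ∈ N ⊔ R₀ := by
        have hcb : Commute b⁻¹ a := h.comm _ (inv_mem hbR) a ha
        have e : a * a = a * b⁻¹ * (a * b) :=
          calc a * a = a * (a * b⁻¹) * b := by group
            _ = a * b⁻¹ * (a * b) := by
              conv_lhs => rw [← hcb.eq]
              group
        rw [e]
        exact mul_mem (mem_sup_left h1) (mem_sup_right h2)
      obtain ⟨m, hm⟩ := h.odd_of_mem ha
      have ea : (a * a) ^ (m + 1) = a := by
        rw [← sq, ← pow_mul, show 2 * (m + 1) = orderOf a + 1 by omega, pow_succ, pow_orderOf_eq_one,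
          one_mul]
      exact ea ▸ pow_mem h3 _
    have : g * c ∈ N ⊔ R₀ := he ▸ mul_mem haR (mem_sup_left (hPN hs))
    exact (mul_mem_cancel_right (mem_sup_left c.2 : (c : G) ∈ N ⊔ R₀)).1 this
  have hR₀N : R₀ ⊓ N = ⊥ := by
    refine eq_bot_iff.2 fun a ha => mem_bot.2 ?_
    obtain ⟨haR, hay⟩ := hR₀c a ha.1
    have hi := congrArg Subtype.val (h'.inv_y hna (a := ⟨a, ha.2⟩) haR)
    change d.y * a * d.y⁻¹ = a⁻¹ at hi
    rw [← hay.eq, mul_inv_cancel_right] at hi
    exact eq_one_of_inv_eq (h.odd_of_mem haR) hi.symm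
  by_contra hNtop
  have hR₀ne : R₀ ≠ ⊥ := fun e => hNtop (by rw [← hG, e, sup_bot_eq])
  have hCN : centralizer (N : Set G) = ⊥ := by
    refine hO _ inferInstance ?_
    have hd : centralizer (N : Set G) ⊓ N = ⊥ := by
      rcases hN.eq_bot_or_eq (K := centralizer (N : Set G) ⊓ N) inferInstance inf_le_right
        with e | e
      · exact e
      · exact absurd ⟨⟨fun a b => Subtype.ext
          (mem_centralizer_iff.1 (inf_eq_right.1 e b.2) a a.2)⟩⟩ hna
    refine hidx.of_dvd_nat ?_
    have h1 := card_subgroup_dvd_card (centralizer (N : Set G) ⊔ N)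
    rw [CfsgLib.Coprime.card_sup_of_inf_eq_bot Subgroup.le_normalizer_of_normal hd,
      ← N.index_mul_card] at h1
    exact Nat.dvd_of_mul_dvd_mul_right Nat.card_pos h1
  -- the normalizer of `R₀`
  set Y := normalizer (R₀ : Set G) with hY
  have hCY : centralizer ({d.z} : Set G) ≤ Y := by
    rw [h.eq]
    refine le_trans (sup_le (fun b hb => ?_) fun s hs => ?_) (centralizer_le_normalizer _)
    · exact mem_centralizer_iff.2 fun c hc => (h.comm c (hR₀c c hc).1 b hb).eq
    · exact mem_centralizer_iff.2 fun c hc => (h.commute_P (hR₀c c hc).1 (hR₀c c hc).2 hs).eq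
  have hNY : ¬ N ≤ Y := fun hle => by
    refine hR₀ne (le_bot_iff.1 (le_trans ?_ hCN.le))
    refine fun a (ha : a ∈ R₀) => mem_centralizer_iff.2 fun n (hn : n ∈ N) => ?_
    have h1 : n * a * n⁻¹ * a⁻¹ ∈ R₀ ⊓ N := by
      refine ⟨R₀.mul_mem ((mem_normalizer_iff.1 (hle hn) a).1 ha) (R₀.inv_mem ha), ?_⟩
      rw [show n * a * n⁻¹ * a⁻¹ = n * (a * n⁻¹ * a⁻¹) by group]
      exact mul_mem hn (hN.normal.conj_mem _ (inv_mem hn) a)
    rw [hR₀N, mem_bot, mul_inv_eq_one, mul_inv_eq_iff_eq_mul] at h1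
    exact h1
  set M : Subgroup N := Y.subgroupOf N with hM
  have hMtop : M ≠ ⊤ := fun e => hNY (subgroupOf_eq_top.1 e)
  have hCM : centralizer ({d'.z} : Set N) ≤ M := fun g hg => by
    refine mem_subgroupOf.2 (hCY (mem_centralizer_singleton_iff.2 ?_))
    rw [← coe_subDP_z d hPN]
    exact congrArg Subtype.val (mem_centralizer_singleton_iff.1 hg)
  have hfus : ∀ i, Fused d' M i := by
    intro i
    have hf := hTN i
    simp only [DP.F2, not_forall] at hf
    obtain ⟨y, hy, hodd, b, hb, hc⟩ := hf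
    refine ⟨y, mem_subgroupOf.2 ?_, hy, hodd, b, hb, hc⟩
    rw [hY, mem_normalizer_iff_map_conj_eq]
    refine eq_of_le_of_card_ge ?_ (card_map_of_injective (MulAut.conj (y : G)).injective).ge
    rintro _ ⟨c, hc', rfl⟩
    obtain ⟨hcR, hcy⟩ := hR₀c c hc'
    have key : ∀ v : N, v ∈ d'.TG i → Commute (v : G) (y * c * (y : G)⁻¹) := by
      intro v hv
      have hv' : y⁻¹ * v * y ∈ d'.TG i := by
        have := (mem_normalizer_iff.1 (inv_mem hy) v).1 hv
        simpa using this
      have := (h.commute_P hcR hcy (mem_subgroupOf.1 (d'.TG_le i hv'))).symm.map (MulAut.conj (y : G)).toMonoidHom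
      simpa [mul_assoc] using this
    show (y : G) * c * (y : G)⁻¹ ∈ R₀
    have hco : Odd (orderOf ((y : G) * c * (y : G)⁻¹)) := odd_conj _ (h.odd_of_mem hcR)
    have hz := key _ (d'.z_mem_TG i)
    rw [coe_subDP_z d hPN] at hz
    have hr := key _ (d'.r_mem_TG i)
    rw [coe_subDP_r d hPN] at hr
    have hR' := h.mem_R hco hz
    exact ⟨hR', mem_centralizer_singleton_iff.2 (h.commute_y_of_commute_r i hR' hr.symm).eq⟩
  obtain ⟨h60, hMidx⟩ := h'.card_eq_sixty hna hTN hMtop hCM hfus
  -- `G` acts on five points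
  have hGY : N ⊔ Y = ⊤ := top_le_iff.1 (hG ▸ sup_le_sup_left Subgroup.le_normalizer N)
  have hcard := CfsgLib.Coprime.card_sup_mul_card_inf
    (Subgroup.le_normalizer_of_normal (H := N) (K := Y))
  rw [sup_comm, hGY, card_top] at hcard
  have hMY : Nat.card (Y ⊓ N : Subgroup G) * 5 = Nat.card N := by
    rw [← hMidx, ← M.card_mul_index]
    congr 1
    rw [hM, ← inf_subgroupOf_right, Nat.card_congr (subgroupOfEquivOfLe inf_le_right).toEquiv]
  have hYidx : Y.index = 5 := by
    refine Nat.eq_of_mul_eq_mul_left (Nat.mul_pos (Nat.card_pos (α := Y))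
      (Nat.card_pos (α := (Y ⊓ N : Subgroup G)))) ?_
    calc Nat.card Y * Nat.card (Y ⊓ N : Subgroup G) * Y.index
        = Nat.card G * Nat.card (Y ⊓ N : Subgroup G) := by rw [← Y.card_mul_index]; ring
      _ = Nat.card Y * Nat.card (Y ⊓ N : Subgroup G) * 5 := by rw [hcard, ← hMY]; ring
  let φ := MulAction.toPermHom G (G ⧸ Y)
  have hφ : Function.Injective φ := by
    rw [← MonoidHom.ker_eq_bot_iff, ← Y.normalCore_eq_ker]
    have hd : N ⊓ Y.normalCore = ⊥ :=
      (hN.le_or_inf_eq_bot Y.normalCore).resolve_left fun hle => hNY (hle.trans Y.normalCore_le)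
    rw [← le_bot_iff, ← hCN]
    refine Base.le_centralizer_of_normal_disjoint ?_
    rwa [inf_comm] at hd
  have h120 : Nat.card G ∣ 120 := by
    rw [Nat.card_congr (MonoidHom.ofInjective hφ).toEquiv]
    refine (card_subgroup_dvd_card φ.range).trans ?_
    rw [Nat.card_perm, ← Y.index_eq_card, hYidx]
    rfl
  rw [← N.card_mul_index, h60] at h120
  have hidx1 : N.index = 1 := by
    have h2 : N.index ∣ 2 := Nat.dvd_of_mul_dvd_mul_left (by norm_num : 0 < 60) h120
    rcases (Nat.dvd_prime Nat.prime_two).1 h2 with e | e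
    · exact e
    · rw [e] at hidx; exact absurd hidx (by decide)
  exact hNtop (Subgroup.index_eq_one.1 hidx1)

/-- The simple group is `PSL(2, q)` with `q > 3`. -/
theorem Cen.exists_psl' (h : Cen d R) [IsSimpleGroup G] (hna : ¬ IsMulCommutative G) :
    ∃ (F : Type) (_ : Field F) (_ : Fintype F), Odd (Fintype.card F) ∧ 3 < Fintype.card F ∧
      Nonempty (G ≃* Matrix.ProjectiveSpecialLinearGroup (Fin 2) F) := by
  obtain ⟨F, iF, iFt, hodd, ⟨e⟩⟩ := h.exists_psl hna
  refine ⟨F, iF, iFt, hodd, ?_, ⟨e⟩⟩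
  by_contra hle
  have hc := CfsgLib.Fusion.card_PSL2_eq (F := F) (by rwa [Nat.card_eq_fintype_card])
  rw [Nat.card_eq_fintype_card (α := F), ← Nat.card_congr e.toEquiv] at hc
  have h1 : 1 < Fintype.card F := Fintype.one_lt_card
  obtain ⟨k, hk⟩ := hodd
  have h3 : Fintype.card F = 3 := by omega
  rw [h3] at hc
  haveI := CfsgLib.Recog.isSolvable_of_card_lt_sixty (G := G) (by omega)
  exact hna ⟨⟨IsSimpleGroup.comm_iff_isSolvable.2 ‹_›⟩⟩

end CfsgLib.DGroup
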