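import Cfsg.Agent.Lib.KnownB.PSLAut.Out
import Cfsg.Agent.Lib.Recog.SL2Char2

/-!
# Involutions and automorphisms of `SL(2, 2 ^ k)`
-/

set_option autoImplicit false
set_option linter.style.haveILetI false

namespace CfsgLib.DGroup

open Matrix CfsgLib.KnownB.PSLAut

variable {F : Type*} [Field F] [Finite F] [CharP F 2]

local notation "SL2" => Matrix.SpecialLinearGroup (Fin 2) F
local notation "PSL2" => Matrix.ProjectiveSpecialLinearGroup (Fin 2) F
local notation "M2" => Matrix (Fin 2) (Fin 2) F

theorem exists_mul_self_eq (x : F) : ∃ y : F, y * y = x := by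
  haveI := Fintype.ofFinite F
  obtain ⟨y, hy⟩ := FiniteField.isSquare_of_char_two (ringChar.eq F 2) x
  exact ⟨y, hy.symm⟩

/-- The standard involution. -/
def stdInvol : SL2 := ⟨!![1, 1; 0, 1], by simp [Matrix.det_fin_two_of]⟩

/-- All involutions of `SL(2, 2 ^ k)` are conjugate. -/
theorem exists_conj_stdInvol (t : SL2) (ht : t * t = 1) (ht1 : t ≠ 1) :
    ∃ P : SL2, t * P = P * stdInvol := by
  have h2 : (2 : F) = 0 := CharTwo.two_eq_zero
  have hm : (t : M2) * (t : M2) = 1 := by
    rw [← Matrix.SpecialLinearGroup.coe_mul, ht, Matrix.SpecialLinearGroup.coe_one]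
  set a := (t : M2) 0 0 with ha
  set b := (t : M2) 0 1 with hb
  set c := (t : M2) 1 0 with hc
  set d := (t : M2) 1 1 with hd
  have hdet : a * d - b * c = 1 := by
    have := t.2
    rwa [Matrix.det_fin_two] at this
  have e00 : a * a + b * c = 1 := by
    have := congrFun (congrFun hm 0) 0
    rw [Matrix.mul_apply, Fin.sum_univ_two] at this
    simpa using this
  have e11 : c * b + d * d = 1 := by
    have := congrFun (congrFun hm 1) 1
    rw [Matrix.mul_apply, Fin.sum_univ_two] at this
    simpa using this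
  have had : a = d := by
    have h : (a - d) * (a - d) = 0 := by linear_combination e00 + e11 - 2 * hdet + 0 * h2 - (2 * b * c) * h2
    exact sub_eq_zero.1 (mul_self_eq_zero.1 h)
  by_cases hc0 : c = 0
  · have ha1 : a = 1 := by
      have h : (a - 1) * (a - 1) = 0 := by linear_combination e00 - (b) * hc0 + (1 - a) * h2
      exact sub_eq_zero.1 (mul_self_eq_zero.1 h)
    have hb0 : b ≠ 0 := fun hb0 => ht1 (Matrix.SpecialLinearGroup.ext _ _ fun i j => by
      fin_cases i <;> fin_cases j
      · simpa [← ha] using ha1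
      · simpa [← hb] using hb0
      · simpa [← hc] using hc0
      · simpa [← hd] using had ▸ ha1)
    obtain ⟨l, hl⟩ := exists_mul_self_eq b⁻¹
    refine ⟨⟨!![l * b, 0; 0, l], ?_⟩, ?_⟩
    · rw [Matrix.det_fin_two_of]
      linear_combination b * hl + mul_inv_cancel₀ hb0
    · refine Subtype.ext ?_
      show (t : M2) * !![l * b, 0; 0, l] = !![l * b, 0; 0, l] * !![1, 1; 0, 1]
      rw [Matrix.eta_fin_two (t : M2), ← ha, ← hb, ← hc, ← hd, ← had, ha1, hc0]
      ext i j
      fin_cases i <;> fin_cases j <;> simp [mul_comm]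
  · obtain ⟨l, hl⟩ := exists_mul_self_eq c⁻¹
    refine ⟨⟨!![l * (a - 1), l; l * c, 0], ?_⟩, ?_⟩
    · rw [Matrix.det_fin_two_of]
      linear_combination -c * hl - mul_inv_cancel₀ hc0 - h2
    · refine Subtype.ext ?_
      show (t : M2) * !![l * (a - 1), l; l * c, 0] = !![l * (a - 1), l; l * c, 0] * !![1, 1; 0, 1]
      rw [Matrix.eta_fin_two (t : M2), ← ha, ← hb, ← hc, ← hd, ← had]
      ext i j
      fin_cases i <;> fin_cases j <;> simp
      · linear_combination l * (e00 + (1 - a) * h2)
      all_goals first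
        | linear_combination (l * c * a - l * c) * h2
        | ring

/-- All involutions of `SL(2, 2 ^ k)` are conjugate. -/
theorem isConj_of_invol {s t : SL2} (hs : orderOf s = 2) (ht : orderOf t = 2) : IsConj s t := by
  have key : ∀ w : SL2, orderOf w = 2 → IsConj (stdInvol : SL2) w := by
    intro w hw
    obtain ⟨P, hP⟩ := exists_conj_stdInvol w (by rw [← sq]; exact orderOf_dvd_iff_pow_eq_one.1 hw.dvd)
      (fun e => by rw [e, orderOf_one] at hw; omega)
    exact isConj_iff.2 ⟨P, by rw [← hP, mul_inv_cancel_right]⟩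
  exact (key s hs).symm.trans (key t ht)

/-- An automorphism fixing a root subgroup is inner. -/
theorem mem_inn_of_fix (α : MulAut PSL2) (h : ∀ c : F, α (X 0 1 c) = X 0 1 c) :
    α ∈ Cfsg.Inn PSL2 := by
  obtain ⟨g, σ, e, he, rfl⟩ := decomp (le_refl 2) α
  rcases he with rfl | ⟨-, h3⟩
  swap
  · omega
  rw [mul_one] at h ⊢
  have key : ∀ c : F, σ c * (g : M2) 0 0 = c * (g : M2) 1 1 ∧ c * (g : M2) 1 0 = 0 := by
    intro c
    have h1 := h c
    rw [MulAut.mul_apply, fld_X σ (by decide : (0 : Fin 2) ≠ 1), X, X, δ_mk] at h1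
    have hd : ∀ r : F, (Pi.single (1 : Fin 2) (1 : F)) ⬝ᵥ (Pi.single 0 r) = 0 :=
      fun r => X_dot (by decide : (0 : Fin 2) ≠ 1) r
    have h2 : conjSL g (tv (Pi.single 0 (σ c)) (Pi.single 1 1)) =
        tv (Pi.single 0 c) (Pi.single 1 1) := by
      have := QuotientGroup.eq.1 h1
      rw [CfsgLib.Recog.center_SL_two_eq_bot, Subgroup.mem_bot, inv_mul_eq_one] at this
      exact this
    have h3' := congrArg Subtype.val h2
    rw [conjSL_coe, tv_val (hd _), tv_val (hd _)] at h3'
    have h4 : (g : M2) * (1 + vecMulVec (Pi.single 0 (σ c)) (Pi.single 1 1)) =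
        (1 + vecMulVec (Pi.single 0 c) (Pi.single 1 1)) * (g : M2) := by
      rw [← h3', Matrix.mul_assoc, Matrix.mul_assoc, ← Units.val_mul]
      simp
    have h01 := congrFun (congrFun h4 0) 1
    have h00 := congrFun (congrFun h4 0) 0
    rw [Matrix.mul_apply, Matrix.mul_apply, Fin.sum_univ_two, Fin.sum_univ_two] at h01 h00
    simp [vecMulVec_apply] at h01 h00
    constructor
    · linear_combination h01
    · rcases h00 with hh | hh <;> simp [hh]
  obtain ⟨h11, h10⟩ := key 1
  rw [map_one, one_mul, one_mul] at h11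
  rw [one_mul] at h10
  have h00 : (g : M2) 0 0 ≠ 0 := by
    intro h0
    have hdet := (Matrix.GeneralLinearGroup.det g).ne_zero
    rw [Matrix.GeneralLinearGroup.val_det_apply, Matrix.det_fin_two, h0, h10] at hdet
    simp at hdet
  have hσ : σ = 1 := RingEquiv.ext fun c => by
    have := (key c).1
    rw [← h11] at this
    exact mul_right_cancel₀ h00 this
  rw [hσ, map_one, mul_one, δ_mem_inn_iff le_rfl]
  obtain ⟨y, hy⟩ := exists_mul_self_eq ((Matrix.GeneralLinearGroup.det g : Fˣ) : F)
  have hy0 : y ≠ 0 := fun h0 => by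
    rw [h0, mul_zero] at hy
    exact (Matrix.GeneralLinearGroup.det g).ne_zero hy.symm
  exact ⟨Units.mk0 y hy0, Units.ext (by simp [powMonoidHom, sq, hy])⟩

end CfsgLib.DGroup
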