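import Cfsg.Agent.Lib.DGroup.Proper
import Cfsg.Agent.Lib.DGroup.Odd

/-!
# Changing the reflection, and fusion inside overgroups
-/

set_option autoImplicit false
set_option linter.unusedSectionVars false
set_option linter.style.haveILetI false

namespace CfsgLib.DGroup

open Subgroup CfsgLib.Involutions

universe u

variable {G : Type u} [Group G] {P : Sylow 2 G} (d : DP (P : Subgroup G))

/-- The same data with `r k` in place of `y`. -/
def shiftDP (k : ℤ) : DP (P : Subgroup G) where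
  n := d.n
  x := d.x
  y := d.r k
  one_le := d.one_le
  x_mem := d.x_mem
  y_mem := d.r_mem k
  orderOf_x := d.orderOf_x
  orderOf_y := d.orderOf_r k
  conj_y := by
    show d.x ^ k * d.y * d.x * (d.x ^ k * d.y)⁻¹ = d.x⁻¹
    rw [show d.x ^ k * d.y * d.x * (d.x ^ k * d.y)⁻¹ = d.x ^ k * (d.y * d.x * d.y⁻¹) * (d.x ^ k)⁻¹
      by group, d.conj_y]
    group
  y_not := d.r_not_mem k
  cover := by
    intro g hg
    rcases d.cover g hg with ⟨i, hi⟩ | ⟨i, hi⟩
    · exact Or.inl ⟨i, hi⟩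
    · refine Or.inr ⟨i - k, ?_⟩
      rw [hi, d.zpow_mul_r, sub_add_cancel]
      rfl

theorem shiftDP_r (k i : ℤ) : (shiftDP d k).r i = d.r (i + k) := d.zpow_mul_r k i

theorem shiftDP_TG (k i : ℤ) : (shiftDP d k).TG i = d.TG (i + k) := by
  show closure {d.z, (shiftDP d k).r i} = closure {d.z, d.r (i + k)}
  rw [shiftDP_r]

theorem not_F2_shiftDP {k : ℤ} (hT : ∀ i, ¬ d.F2 i) (i : ℤ) : ¬ (shiftDP d k).F2 i := by
  intro hF
  refine hT (i + k) fun y hy ho a ha => ?_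
  rw [← shiftDP_TG] at hy ha
  exact hF y hy ho a ha

theorem fused_shiftDP {M : Subgroup G} {k i : ℤ} :
    Fused (shiftDP d k) M i ↔ Fused d M (i + k) := by
  simp only [Fused, shiftDP_TG]

theorem map_conj_TG (i j : ℤ) :
    (d.TG i).map (MulAut.conj (d.x ^ j)).toMonoidHom = d.TG (i + 2 * j) := by
  rw [DP.TG, DP.TG, MonoidHom.map_closure, Set.image_pair]
  congr 2
  · show d.x ^ j * d.z * (d.x ^ j)⁻¹ = d.z
    rw [← (d.commute_z (zpow_mem d.x_mem j)).eq, mul_inv_cancel_right]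
  · show ({d.x ^ j * d.r i * (d.x ^ j)⁻¹} : Set G) = _
    rw [d.conj_r]

theorem Fused.add {M : Subgroup G} (hx : d.x ∈ M) {i : ℤ} (h : Fused d M i) (j : ℤ) :
    Fused d M (i + 2 * j) := by
  obtain ⟨y, hy, hn, ho, a, ha, hc⟩ := h
  set s := d.x ^ j
  refine ⟨s * y * s⁻¹, mul_mem (mul_mem (zpow_mem hx j) hy) (inv_mem (zpow_mem hx j)), ?_, ?_,
    s * a * s⁻¹, ?_, fun e => hc ?_⟩
  · rw [mem_normalizer_iff_map_conj_eq] at hn ⊢
    rw [← map_conj_TG, Subgroup.map_map]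
    conv_rhs => rw [← hn, Subgroup.map_map]
    refine congrArg (fun f => (d.TG i).map f) (MonoidHom.ext fun b => ?_)
    show s * y * s⁻¹ * (s * b * s⁻¹) * (s * y * s⁻¹)⁻¹ = s * (y * b * y⁻¹) * s⁻¹
    group
  · rwa [show s * y * s⁻¹ = MulAut.conj s y from rfl, MulEquiv.orderOf_eq]
  · rw [← map_conj_TG]
    exact mem_map_of_mem _ ha
  · have := e.map (MulAut.conj s⁻¹).toMonoidHom
    simpa [mul_assoc] using this

theorem Fused.even [Finite G] {M : Subgroup G} (hx : d.x ∈ M) {i k : ℤ} (h : Fused d M i)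
    (he : Even (k - i) ∨ d.n = 1) : Fused d M k := by
  rcases he with ⟨j, hj⟩ | hn
  · have := h.add d hx j
    rwa [show i + 2 * j = k by omega] at this
  · obtain ⟨y, hy, hn', ho, a, ha, hc⟩ := h
    rw [d.TG_eq_of_one hn i k] at hn' ha
    exact ⟨y, hy, hn', ho, a, ha, hc⟩

variable [Finite G] {d}

/-- Without fusion an overgroup of `P` is thin. -/
theorem thin_of_not_fused {M : Subgroup G} (hPM : (P : Subgroup G) ≤ M)
    (hF : ∀ i, ¬ Fused d M i) : Thin M := by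
  obtain ⟨O, hOM, hMO, hOodd, hOP⟩ := exists_core d hPM hF
  refine Odd.of_dvd_nat hOodd (card_dvd_of_le ((closure_le _).2 ?_))
  rintro x ⟨hxM, ho⟩
  haveI : (O.subgroupOf M).Normal := normal_subgroupOf_of_le_normalizer hMO
  let π := QuotientGroup.mk' (O.subgroupOf M)
  have h2 : IsPGroup 2 (M ⧸ O.subgroupOf M) := by
    refine IsPGroup.of_surjective (P.isPGroup'.of_equiv (subgroupOfEquivOfLe hPM).symm)
      (π.comp ((P : Subgroup G).subgroupOf M).subtype) fun q => ?_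
    obtain ⟨⟨m, hm⟩, rfl⟩ := QuotientGroup.mk'_surjective _ q
    have hm' : m ∈ ((O ⊔ (P : Subgroup G) : Subgroup G) : Set G) := hOP.symm ▸ hm
    rw [coe_mul_of_right_le_normalizer_left _ _ (hPM.trans hMO)] at hm'
    obtain ⟨o, ho', s, hs, rfl⟩ := hm'
    refine ⟨⟨⟨s, hPM hs⟩, mem_subgroupOf.2 hs⟩, (QuotientGroup.eq.2 ?_)⟩
    refine mem_subgroupOf.2 ?_
    show s⁻¹ * (o * s) ∈ O
    have := (mem_normalizer_iff.1 (inv_mem (hMO (hPM hs))) o).1 ho'
    simpa [mul_assoc] using this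
  obtain ⟨k, hk⟩ := IsPGroup.iff_orderOf.1 h2 (π ⟨x, hxM⟩)
  have hd : orderOf (π ⟨x, hxM⟩) ∣ orderOf x := by
    rw [← Subgroup.orderOf_mk x hxM]; exact orderOf_map_dvd π _
  have hodd := ho.of_dvd_nat hd
  rw [hk] at hodd
  have h1 : π ⟨x, hxM⟩ = 1 := by
    rw [← orderOf_eq_one_iff, hk]
    rcases k with _ | k
    · rfl
    · exact absurd hodd (by simp [Nat.odd_pow_iff])
  exact mem_subgroupOf.1 ((QuotientGroup.eq_one_iff _).1 h1)

namespace Cen

variable {R : Subgroup G} (h : Cen d R)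
include h

theorem shift (k : ℤ) : Cen (shiftDP d k) R where
  comm := h.comm
  odd := h.odd
  cent_x := h.cent_x
  conj_y a ha := by
    show d.r k * a * (d.r k)⁻¹ ∈ R
    rw [h.r_conj_eq k ha]
    exact h.conj_y a ha
  eq := h.eq

/-- The elements of odd order of `C(z)` lie in `R`. -/
theorem mem_R {a : G} (ha : Odd (orderOf a)) (hc : Commute d.z a) : a ∈ R := by
  obtain ⟨b, hb, s, hs, rfl⟩ := h.exists_mul hc
  set m := orderOf (b * s)
  haveI : (R.subgroupOf (centralizer ({d.z} : Set G))).Normal := by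
    refine normal_subgroupOf_of_le_normalizer ?_
    rw [h.eq, sup_le_iff]
    exact ⟨Subgroup.le_normalizer, h.le_normalizer_R⟩
  let π := QuotientGroup.mk' (R.subgroupOf (centralizer ({d.z} : Set G)))
  have hbs : (⟨b * s, mul_mem (h.R_le hb) (h.P_le hs)⟩ : centralizer ({d.z} : Set G)) =
      ⟨b, h.R_le hb⟩ * ⟨s, h.P_le hs⟩ := rfl
  have hπ : π ⟨b * s, mul_mem (h.R_le hb) (h.P_le hs)⟩ = π ⟨s, h.P_le hs⟩ := by
    rw [hbs, map_mul]
    have : π ⟨b, h.R_le hb⟩ = 1 := (QuotientGroup.eq_one_iff _).2 hb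
    rw [this, one_mul]
  have hm : π ⟨s, h.P_le hs⟩ ^ m = 1 := by
    rw [← hπ, ← map_pow]
    convert map_one π
    exact Subtype.ext (pow_orderOf_eq_one _)
  rw [← map_pow] at hm
  have hsR : s ^ m ∈ R := mem_subgroupOf.1 ((QuotientGroup.eq_one_iff
    ((⟨s, h.P_le hs⟩ : centralizer ({d.z} : Set G)) ^ m)).1 hm)
  have hs1 : s ^ m = 1 := h.disjoint hsR (pow_mem hs m)
  have hso : orderOf s = 1 := by
    obtain ⟨k, hk⟩ := IsPGroup.iff_orderOf.1 P.isPGroup' ⟨s, hs⟩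
    rw [Subgroup.orderOf_mk] at hk
    have hd := ha.of_dvd_nat (orderOf_dvd_of_pow_eq_one hs1)
    rw [hk] at hd ⊢
    rcases k with _ | k
    · rfl
    · exact absurd hd (by simp [Nat.odd_pow_iff])
  rw [orderOf_eq_one_iff.1 hso, mul_one]
  exact hb

theorem odd_of_mem {a : G} (ha : a ∈ R) : Odd (orderOf a) :=
  h.odd.of_dvd_nat (Subgroup.orderOf_dvd_natCard R ha)

theorem x_mem {M : Subgroup G} (hC : centralizer ({d.z} : Set G) ≤ M) : d.x ∈ M :=
  hC (h.P_le d.x_mem)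

end Cen

end CfsgLib.DGroup
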