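import Cfsg.Agent.Lib.DGroup.Member
import Cfsg.Agent.Lib.PLocal.QdControl

/-!
# A maximal subgroup whose core has a single prime in its Fitting subgroup

Glauberman's ZJ-theorem makes `Z(J(P))` normal, and its normalizer controls fusion in `P`.
-/

set_option autoImplicit false
set_option linter.style.haveILetI false
set_option linter.unusedSectionVars false

namespace CfsgLib.DGroup

open Subgroup Cfsg CfsgLib.PLocal
open scoped Pointwise

universe u

variable {G : Type u} [Group G] [Finite G] {q : ℕ} [Fact q.Prime]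

/-- All invariant `q`-subgroups of the core of a thin group lie in a single one. -/
theorem exists_wSylow (h : Config G) {z u : G} (F : Four z u) {Y : Subgroup G} (hY : Thin Y)
    (hz : z ∈ Y) (hu : u ∈ Y) : ∃ T : Subgroup G, T ≤ oddPart Y ∧ IsPGroup q T ∧
      F.grp ≤ normalizer (T : Set G) ∧
      ∀ Q : Subgroup G, Q ≤ oddPart Y → IsPGroup q Q → F.grp ≤ normalizer (Q : Set G) → Q ≤ T := by
  have hAK : F.grp ≤ normalizer (oddPart Y : Set G) :=
    (F.grp_le hz hu).trans (le_normalizer_oddPart Y)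
  have hcop := F.card_coprime (N := oddPart Y) hY
  have hs : Group.IsSolvable F.grp ∨ Group.IsSolvable (oddPart Y) :=
    Or.inr (isSolvable_of_odd_card hY)
  obtain ⟨T, hT⟩ := CfsgLib.Coprime.exists_invariant_sylow (p := q) hAK hcop hs
  refine ⟨(T : Subgroup (oddPart Y)).map (oddPart Y).subtype, map_subtype_le _, T.isPGroup'.map _,
    hT, fun Q hQ hQp hQW => ?_⟩
  obtain ⟨T', hle, hT'⟩ := CfsgLib.Coprime.exists_invariant_sylow_ge hAK hcop hs hQ hQp hQW
  obtain ⟨c, hc, hcT⟩ := CfsgLib.Coprime.invariant_sylow_conj hAK hcop hs T T' hT hT'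
  have h1 : c = 1 := Subtype.ext (h.eq_one_of_fix F (hY.odd c.2)
    (mem_centralizer_iff.1 hc z F.z_mem) (mem_centralizer_iff.1 hc u F.u_mem))
  rw [h1, map_one, one_smul] at hcT
  rwa [hcT]

theorem eq_of_sylow_le (P : Sylow q G) {T : Subgroup G} (hT : IsPGroup q T)
    (h : (P : Subgroup G) ≤ T) : T = (P : Subgroup G) :=
  P.3 hT h

theorem center_le_maxCenter {P : Subgroup G} {c : G} (hc : c ∈ P)
    (hcc : c ∈ centralizer (P : Set G)) : c ∈ maxCenter 0 P :=
  mem_maxCenter hc (pow_zero c) fun _ hA a ha => mem_centralizer_iff.1 hcc a (hA.1 ha)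

theorem mem_maxCenter_of_isConj (hq : q ≠ 2) (hqd : ¬ InvHom ↥(qd q) G) {P T : Sylow q G} {c c' : G}
    (hc : c ∈ (P : Subgroup G)) (hcc : c ∈ centralizer ((P : Subgroup G) : Set G))
    (hc' : c' ∈ (T : Subgroup G)) (hconj : IsConj c c') :
    c' ∈ maxCenter 0 (T : Subgroup G) := by
  obtain ⟨k, hk⟩ := MulAction.exists_smul_eq G P T
  obtain ⟨g, rfl⟩ := isConj_iff.1 hconj
  have hmem : ∀ x, x ∈ (T : Subgroup G) ↔ k⁻¹ * x * k ∈ (P : Subgroup G) := fun x => by
    rw [← hk, Sylow.coe_subgroup_smul, CfsgLib.Coprime.mem_conj_smul]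
  have hT1 : k * c * k⁻¹ ∈ (T : Subgroup G) := (hmem _).2 (by simpa [mul_assoc] using hc)
  have hT2 : k * c * k⁻¹ ∈ centralizer ((T : Subgroup G) : Set G) := by
    refine mem_centralizer_iff.2 fun x hx => ?_
    have e := mem_centralizer_iff.1 hcc _ ((hmem x).1 hx)
    calc x * (k * c * k⁻¹) = k * ((k⁻¹ * x * k) * c) * k⁻¹ := by group
      _ = k * (c * (k⁻¹ * x * k)) * k⁻¹ := by rw [e]
      _ = k * c * k⁻¹ * x := by group
  have hz := center_le_maxCenter hT1 hT2
  obtain ⟨n, hn, hn'⟩ := controlsFusion_centerThompsonAOf hq hqd T {k * c * k⁻¹}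
    (Set.singleton_subset_iff.2 hT1) (k * g⁻¹) (by
      rintro a rfl
      rw [show (k * g⁻¹)⁻¹ * (k * c * k⁻¹) * (k * g⁻¹) = g * c * g⁻¹ by group]
      exact hc')
  have e := hn' _ rfl
  rw [show (k * g⁻¹)⁻¹ * (k * c * k⁻¹) * (k * g⁻¹) = g * c * g⁻¹ by group] at e
  rw [centerThompsonAOf_eq] at hn
  rw [← e]
  have := (mem_normalizer_iff.1 (inv_mem hn) _).1 hz
  rwa [inv_inv] at this

variable [IsSimpleGroup G]

theorem four_grp_le_normalizer_zpowers (h : Config G) {z u : G} (F : Four z u) {c : G}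
    (hc : Odd (orderOf c)) (hzc : Commute z c) : F.grp ≤ normalizer (zpowers c : Set G) :=
  F.grp_le (h.norm z c F.oz hc hzc (mem_centralizer_singleton_iff.2 rfl))
    (h.norm z c F.oz hc hzc (mem_centralizer_singleton_iff.2 F.comm.eq.symm))

theorem false_of_central (hna : ¬ IsMulCommutative G) (h : Config G) {z u : G} (F : Four z u)
    (hq : q ≠ 2) (P : Sylow q G) (hW : F.grp ≤ normalizer ((P : Subgroup G) : Set G))
    (hthin : Thin (normalizer (maxCenter 0 (P : Subgroup G) : Set G))) {c a : G}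
    (hc : c ∈ (P : Subgroup G)) (hcc : c ∈ centralizer ((P : Subgroup G) : Set G)) (hc1 : c ≠ 1)
    (hzc : Commute z c) (ha : a ∈ (P : Subgroup G)) (ha1 : a ≠ 1) (hua : Commute u a) :
    False := by
  have hqd := h.qdFree q inferInstance hq
  have hPodd : Odd (Nat.card (P : Subgroup G)) := by
    obtain ⟨k, hk⟩ := IsPGroup.iff_card.1 P.isPGroup'
    rw [hk]
    exact ((Fact.out : q.Prime).odd_of_ne_two hq).pow
  obtain ⟨g, hgo, hgz, hgu⟩ := h.cycle z u F
  set cu := g * c * g⁻¹ with hcu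
  have hco : Odd (orderOf c) := odd_orderOf_of_mem hPodd hc
  have hao : Odd (orderOf a) := odd_orderOf_of_mem hPodd ha
  have hcuo : Odd (orderOf cu) := by
    rwa [hcu, show g * c * g⁻¹ = MulAut.conj g c from rfl, MulEquiv.orderOf_eq]
  have hucu : Commute u cu := by
    rw [← hgz]; exact hzc.map (MulAut.conj g).toMonoidHom
  have hcq : IsPGroup q (zpowers c) := P.isPGroup'.to_le (zpowers_le.2 hc)
  have hcuq : IsPGroup q (zpowers cu) := by
    have := hcq.map (MulAut.conj g).toMonoidHom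
    rwa [MonoidHom.map_zpowers] at this
  have hWc : F.grp ≤ normalizer (zpowers c : Set G) := four_grp_le_normalizer_zpowers h F hco hzc
  have hWcu : F.grp ≤ normalizer (zpowers cu : Set G) :=
    F.grp_le (four_grp_le_normalizer_zpowers h F.symm hcuo hucu F.symm.u_mem)
      (four_grp_le_normalizer_zpowers h F.symm hcuo hucu F.symm.z_mem)
  -- the invariant Sylow subgroup of `N⟨a⟩`
  have hYa : Thin (normalizer (zpowers a : Set G)) :=
    h.thin u F.ou _ (normalizer_zpowers_ne_top hna ha1) (h.norm u a F.ou hao hua)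
  obtain ⟨T, hTY, hTq, hTW, hTmax⟩ := exists_wSylow (q := q) h F hYa
    (h.norm u a F.ou hao hua (mem_centralizer_singleton_iff.2 F.comm.eq))
    (h.norm u a F.ou hao hua (mem_centralizer_singleton_iff.2 rfl))
  have hac : Commute a c := mem_centralizer_iff.1 hcc a ha
  have hacu : Commute a cu := h.comm u F.ou a cu hao hcuo hua hucu
  have hcT : c ∈ T := hTmax _ (zpowers_le.2 (mem_oddPart (le_normalizer_zpowers_of_commute hac) hco))
    hcq hWc (mem_zpowers c)
  have hcuT : cu ∈ T := hTmax _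
    (zpowers_le.2 (mem_oddPart (le_normalizer_zpowers_of_commute hacu) hcuo)) hcuq hWcu (mem_zpowers cu)
  obtain ⟨T', hTT'⟩ := hTq.exists_le_sylow
  have hcomm : Commute c cu := maxCenter_comm 0 (T' : Subgroup G) _
    (mem_maxCenter_of_isConj hq hqd hc hcc (hTT' hcT) (IsConj.refl c)) _
    (mem_maxCenter_of_isConj hq hqd hc hcc (hTT' hcuT) (isConj_iff.2 ⟨g, rfl⟩))
  -- so `cu ∈ P`
  have hYc : Thin (normalizer (zpowers c : Set G)) :=
    h.thin z F.oz _ (normalizer_zpowers_ne_top hna hc1) (h.norm z c F.oz hco hzc)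
  obtain ⟨T2, -, hT2q, -, hT2max⟩ := exists_wSylow (q := q) h F hYc (hWc F.z_mem) (hWc F.u_mem)
  have hPT2 : (P : Subgroup G) ≤ T2 := hT2max _ (fun x hx => mem_oddPart
    (le_normalizer_zpowers_of_commute (mem_centralizer_iff.1 hcc x hx : Commute x c).symm)
    (odd_orderOf_of_mem hPodd hx)) P.isPGroup' hW
  have hcuP : cu ∈ (P : Subgroup G) := by
    rw [← eq_of_sylow_le P hT2q hPT2]
    exact hT2max _ (zpowers_le.2 (mem_oddPart (le_normalizer_zpowers_of_commute hcomm) hcuo)) hcuq
      hWcu (mem_zpowers cu)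
  have hcuZ : cu ∈ maxCenter 0 (P : Subgroup G) :=
    mem_maxCenter_of_isConj hq hqd hc hcc hcuP (isConj_iff.2 ⟨g, rfl⟩)
  -- the conjugate Sylow subgroup
  set P2 := g • P with hP2
  have hmem2 : ∀ x, x ∈ (P2 : Subgroup G) ↔ g⁻¹ * x * g ∈ (P : Subgroup G) := fun x => by
    rw [hP2, Sylow.coe_subgroup_smul, CfsgLib.Coprime.mem_conj_smul]
  have hW2 : F.grp ≤ normalizer ((P2 : Subgroup G) : Set G) := by
    have key : ∀ w w' : G, w' ∈ F.grp → g * w' * g⁻¹ = w →
        w ∈ normalizer ((P2 : Subgroup G) : Set G) := by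
      intro w w' hw' e
      refine mem_normalizer_iff.2 fun x => ?_
      rw [hmem2, hmem2, ← e,
        show g⁻¹ * (g * w' * g⁻¹ * x * (g * w' * g⁻¹)⁻¹) * g = w' * (g⁻¹ * x * g) * w'⁻¹ by group]
      exact mem_normalizer_iff.1 (hW hw') _
    refine F.grp_le (key z (z * u) (mul_mem F.z_mem F.u_mem) ?_) (key u z F.z_mem hgz)
    rw [show g * (z * u) * g⁻¹ = (g * z * g⁻¹) * (g * u * g⁻¹) by group, hgz, hgu, F.mul_mul']
  have hcu1 : cu ≠ 1 := fun e => hc1 (conj_eq_one_iff.1 e)
  have hY2 : Thin (normalizer (zpowers cu : Set G)) :=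
    h.thin u F.ou _ (normalizer_zpowers_ne_top hna hcu1) (h.norm u cu F.ou hcuo hucu)
  obtain ⟨T3, -, hT3q, -, hT3max⟩ := exists_wSylow (q := q) h F hY2 (hWcu F.z_mem) (hWcu F.u_mem)
  have hP2T : (P2 : Subgroup G) ≤ T3 := by
    refine hT3max _ (fun x hx => mem_oddPart (le_normalizer_zpowers_of_commute ?_) ?_) P2.isPGroup' hW2
    · have e := mem_centralizer_iff.1 hcc _ ((hmem2 x).1 hx)
      have := (show Commute (g⁻¹ * x * g) c from e).symm.map (MulAut.conj g).toMonoidHom
      simpa [hcu, mul_assoc] using this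
    · have := odd_orderOf_of_mem hPodd ((hmem2 x).1 hx)
      rwa [show g⁻¹ * x * g = MulAut.conj g⁻¹ x by simp, MulEquiv.orderOf_eq] at this
  let D : Subgroup G := (P : Subgroup G) ⊓ centralizer (zpowers cu : Set G)
  have hDP2 : D ≤ (P2 : Subgroup G) := by
    rw [← eq_of_sylow_le P2 hT3q hP2T]
    refine hT3max _ (fun x hx => mem_oddPart (centralizer_le_normalizer _ hx.2)
      (odd_orderOf_of_mem hPodd hx.1)) (P.isPGroup'.to_le inf_le_left) ?_
    exact CfsgLib.Coprime.le_normalizer_inf_inf hW (CfsgLib.Coprime.le_normalizer_centralizer hWcu)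
  have hmax : ∀ A ∈ maxAbExp 0 (P : Subgroup G), A ∈ maxAbExp 0 (P2 : Subgroup G) := by
    intro A hA
    refine ⟨fun x hx => hDP2 ⟨hA.1 hx, mem_centralizer_iff.2 ?_⟩, hA.2.1, fun B hB hBe => ?_⟩
    · rintro _ ⟨i, rfl⟩
      exact comm_of_mem hA.2.1.1 (zpow_mem (maxCenter_le_of_mem hA hcuZ) i) hx
    · rw [← card_map_of_injective (f := (MulAut.conj g⁻¹).toMonoidHom) (MulAut.conj g⁻¹).injective]
      refine hA.2.2 _ ?_ ((abExp_map_iff (MulAut.conj g⁻¹).injective).2 hBe)
      rintro _ ⟨x, hx, rfl⟩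
      simpa using (hmem2 x).1 (hB hx)
  have hle : maxCenter 0 (P2 : Subgroup G) ≤ maxCenter 0 (P : Subgroup G) :=
    le_sInf fun A hA => maxCenter_le_of_mem (hmax A hA)
  have hP2map : (P : Subgroup G).map (MulAut.conj g).toMonoidHom = (P2 : Subgroup G) := rfl
  have hgN : g ∈ normalizer (maxCenter 0 (P : Subgroup G) : Set G) := by
    rw [mem_normalizer_iff_map_conj_eq]
    refine eq_of_le_of_card_ge ?_ (card_map_of_injective (MulAut.conj g).injective).ge
    show (maxCenter 0 (P : Subgroup G)).map (MulAut.conj g).toMonoidHom ≤ _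
    rw [map_maxCenter (MulAut.conj g).injective, hP2map]
    exact hle
  have hWN : F.grp ≤ normalizer (maxCenter 0 (P : Subgroup G) : Set G) :=
    hW.trans (maxCenter_le_normalizer _)
  have hgW : g ∈ normalizer (F.grp : Set G) := by
    rw [mem_normalizer_iff_map_conj_eq]
    refine eq_of_le_of_card_ge ?_ (card_map_of_injective (MulAut.conj g).injective).ge
    rintro _ ⟨w, hw, rfl⟩
    rcases hw with rfl | rfl | rfl | rfl
    · simp
    · show g * _ * g⁻¹ ∈ F.grp
      rw [hgz]; exact F.u_mem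
    · show g * _ * g⁻¹ ∈ F.grp
      rw [hgu]; exact mul_mem F.z_mem F.u_mem
    · show g * (z * u) * g⁻¹ ∈ F.grp
      rw [show g * (z * u) * g⁻¹ = (g * z * g⁻¹) * (g * u * g⁻¹) by group, hgz, hgu]
      exact mul_mem F.u_mem (mul_mem F.z_mem F.u_mem)
  have := hthin.commute F.isPGroup hWN hgN hgo hgW F.z_mem
  exact F.ne (by rw [← hgz, this.eq, mul_inv_cancel_right])

theorem false_of_single (hna : ¬ IsMulCommutative G) (h : Config G) {z u : G} (F : Four z u)
    {M : Subgroup G} (hM : Mem z u M) (hgood : ∃ x ∈ oddPart M, ¬ Commute z x)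
    (hone : ∀ p : ℕ, p.Prime → p ≠ q → core p (oddPart M) = ⊥) : False := by
  set O := oddPart M with hO
  have hOodd : Odd (Nat.card O) := hM.thin
  obtain ⟨x₀, hx₀, hx₀z⟩ := hgood
  have hObot : O ≠ ⊥ := fun e => hx₀z (by
    have h1 : x₀ = 1 := mem_bot.1 (e ▸ hx₀)
    rw [h1]; exact Commute.one_right z)
  have hqne : core q O ≠ ⊥ := by
    obtain ⟨p, hp, hne⟩ := exists_core_ne_bot hOodd hObot
    by_cases hpq : p = q
    · rwa [← hpq]
    · exact absurd (hone p hp hpq) hne
  have hq : q ≠ 2 := by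
    intro e
    obtain ⟨k, hk⟩ := IsPGroup.iff_card.1 (isPGroup_core q O)
    have := hOodd.of_dvd_nat (card_dvd_of_le (core_le q O))
    rw [hk, e] at this
    rcases k with _ | k
    · exact hqne (Subgroup.eq_bot_of_card_eq _ (by rw [hk, pow_zero]))
    · exact absurd this (by simp [Nat.odd_pow_iff])
  have hqd := h.qdFree q inferInstance hq
  have hAK : F.grp ≤ normalizer (O : Set G) :=
    (F.grp_le hM.hz hM.hu).trans (le_normalizer_oddPart M)
  haveI := isSolvable_of_odd_card hOodd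
  obtain ⟨T, hT⟩ := CfsgLib.Coprime.exists_invariant_sylow (p := q) hAK (F.card_coprime hOodd)
    (Or.inr (isSolvable_of_odd_card hOodd))
  set P := (T : Subgroup O).map O.subtype with hPdef
  have hPq : IsPGroup q P := T.isPGroup'.map _
  have hcoreP : core q O ≤ P := Subgroup.map_mono (Base.pCore_le_sylow T)
  -- `Z(J(P))` is normal in `M`
  have hc : centralizer (pCore q O : Set O) ≤ pCore q O := by
    intro x hx
    have hxo : ∀ p : ℕ, p.Prime → ∀ b ∈ core p O, Commute (x : G) b := fun p hp b hb => by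
      by_cases hpq : p = q
      · subst hpq
        obtain ⟨b, hb, rfl⟩ := hb
        exact (congrArg Subtype.val (mem_centralizer_iff.1 hx b hb)).symm
      · rw [hone p hp hpq, mem_bot] at hb
        rw [hb]
        exact Commute.one_right _
    have hF := mem_of_centralizes hOodd x.2 hxo
    rw [Base.fittingSubgroup_eq_iSup_pCore, Subgroup.map_iSup] at hF
    have hle : (⨆ p : Nat.Primes, (pCore (p : ℕ) O).map O.subtype) ≤ core q O := iSup_le fun p => by
      by_cases hpq : (p : ℕ) = q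
      · rw [hpq]; exact le_rfl
      · exact (hone p p.2 hpq).le.trans bot_le
    obtain ⟨y, hy, e⟩ := hle hF
    exact Subtype.ext e ▸ hy
  haveI hchar : (maxCenter 0 (T : Subgroup O)).Characteristic :=
    maxCenter_characteristic hq (Or.inr rfl) hc
      (quadStable_of_not_invHom hq fun hh => hqd hh.of_subgroup) T
  set Z := maxCenter 0 P with hZdef
  have hmap : (maxCenter 0 (T : Subgroup O)).map O.subtype = Z := map_maxCenter O.subtype_injective _
  have hMN : M ≤ normalizer (Z : Set G) := by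
    rw [← hmap]
    exact (le_normalizer_oddPart M).trans (Base.normalizer_le_normalizer_map_subtype O _)
  have hPne : P ≠ ⊥ := fun e => hqne (le_bot_iff.1 (e ▸ hcoreP))
  have hcen : ∀ b ∈ P ⊓ centralizer (P : Set G), b ∈ Z := fun b hb =>
    center_le_maxCenter hb.1 hb.2
  have hZne : Z ≠ ⊥ := fun e => CfsgLib.Transfer.inf_centralizer_ne_bot hPq hPne
    (eq_bot_iff.2 fun b hb => e ▸ hcen b hb)
  have hNZ : normalizer (Z : Set G) = M :=
    hM.eq_normalizer hZne (((maxCenter_le 0 P).trans (map_subtype_le _)).trans (oddPart_le M)) hMN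
  -- `P` is a Sylow subgroup of `G`
  obtain ⟨S, hPS⟩ := hPq.exists_le_sylow
  have hSP : (S : Subgroup G) ≤ P := by
    by_contra hlt
    haveI := S.isPGroup'.isNilpotent
    obtain ⟨x, hx, hxP⟩ := SetLike.exists_of_lt
      (Group.normalizerCondition_of_isNilpotent (P.subgroupOf S)
        (lt_top_iff_ne_top.2 fun e => hlt (subgroupOf_eq_top.1 e)))
    rw [← subgroupOf_normalizer_eq hPS, mem_subgroupOf] at hx
    rw [mem_subgroupOf] at hxP
    have hxM : (x : G) ∈ M := hNZ ▸ maxCenter_le_normalizer P hx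
    have hxodd : Odd (orderOf (x : G)) := by
      obtain ⟨k, hk⟩ := IsPGroup.iff_orderOf.1 S.isPGroup' x
      rw [orderOf_coe, hk]
      exact ((Fact.out : q.Prime).odd_of_ne_two hq).pow
    have hxO : (x : G) ∈ O := mem_oddPart hxM hxodd
    have hle : P ⊔ zpowers (x : G) ≤ O := sup_le (map_subtype_le _) (zpowers_le.2 hxO)
    have hp2 : IsPGroup q ((P ⊔ zpowers (x : G)).subgroupOf O) :=
      (S.isPGroup'.to_le (sup_le hPS (zpowers_le.2 x.2))).of_equiv (subgroupOfEquivOfLe hle).symm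
    have hTle : (T : Subgroup O) ≤ (P ⊔ zpowers (x : G)).subgroupOf O := fun t ht =>
      mem_subgroupOf.2 (mem_sup_left (mem_map_of_mem _ ht))
    refine hxP ⟨⟨x, hxO⟩, ?_, rfl⟩
    rw [← T.3 hp2 hTle]
    exact mem_subgroupOf.2 (mem_sup_right (mem_zpowers _))
  have hPeq : P = (S : Subgroup G) := le_antisymm hPS hSP
  have hWS : F.grp ≤ normalizer ((S : Subgroup G) : Set G) := hPeq ▸ hT
  have hthin : Thin (normalizer (maxCenter 0 (S : Subgroup G) : Set G)) := by
    rw [← hPeq, ← hZdef, hNZ]; exact hM.thin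
  -- `P` is not centralised by an involution of the four-group
  have hnot : ∀ v w, Four v w → v ∈ F.grp → w ∈ F.grp → (z = v ∨ z ≠ v) →
      ¬ ∀ b ∈ P, Commute v b := by
    intro v w F' hv hw hcase hall
    have hOv : ∀ x ∈ O, Commute v x := by
      intro x hx
      have hF := mem_of_centralizes hOodd hx fun p hp b hb => by
        by_cases hpq : p = q
        · subst hpq
          exact h.commute_onePart F' (fun c hc => odd_orderOf_of_mem hOodd (core_le p O hc))
            (fun c hc => hall c (hcoreP hc)) hOodd (F'.grp_le (hAK hv) (hAK hw))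
            (le_normalizer_core p O) hx hb
        · rw [hone p hp hpq, mem_bot] at hb
          rw [hb]
          exact Commute.one_right _
      rw [Base.fittingSubgroup_eq_iSup_pCore, Subgroup.map_iSup] at hF
      have hle : (⨆ p : Nat.Primes, (pCore (p : ℕ) O).map O.subtype) ≤ core q O :=
        iSup_le fun p => by
          by_cases hpq : (p : ℕ) = q
          · rw [hpq]; exact le_rfl
          · exact (hone p p.2 hpq).le.trans bot_le
      exact hall x (hcoreP (hle hF))
    rcases hcase with rfl | hne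
    · exact hx₀z (hOv x₀ hx₀)
    · obtain ⟨y, hy1, hyo, hyz⟩ := h.exists_ne z F.oz
      have hyv := hOv y (hM.mem_oddPart_of_commute hyo hyz)
      have Fzv : Four z v := by
        refine ⟨F.oz, F'.oz, ?_, hne⟩
        haveI := F.isMulCommutative
        exact congrArg Subtype.val (mul_comm' (⟨z, F.z_mem⟩ : F.grp) ⟨v, hv⟩)
      exact hy1 (h.eq_one_of_fix Fzv hyo hyz hyv)
  -- choose a central element and a second element
  have step : ∀ v w, Four v w → F.grp ≤ normalizer ((S : Subgroup G) : Set G) →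
      v ∈ F.grp → w ∈ F.grp → ∀ b ∈ P ⊓ centralizer (P : Set G), b ≠ 1 → Commute v b →
      (∀ a ∈ P, Commute w a → a = 1) := by
    intro v w F' hn hv hw b hb hb1 hvb a ha hwa
    by_contra ha1
    exact false_of_central hna h F' hq S (F'.grp_le (hn hv) (hn hw)) hthin (hPeq ▸ hb.1)
      (hPeq ▸ hb.2) hb1 hvb (hPeq ▸ ha) ha1 hwa
  have hcomb : ∀ v w, Four v w → v ∈ F.grp → w ∈ F.grp → (z = v ∨ z ≠ v) →
      ∀ b ∈ P ⊓ centralizer (P : Set G), Commute v b → b = 1 := by
    intro v w F' hv hw hcase b hb hvb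
    by_contra hb1
    refine hnot v w F' hv hw hcase fun a ha => ?_
    have hle : P ≤ centralizer ({v} : Set G) := by
      refine F'.le_of_parts (hOodd.of_dvd_nat (card_dvd_of_le (map_subtype_le _)))
        (F'.grp_le (hT hv) (hT hw)) (fun n _ hn => ?_) (fun n hn hwn => ?_) (fun n hn hwn => ?_)
      · exact mem_centralizer_singleton_iff.2 hn.eq.symm
      · rw [step v w F' hWS hv hw b hb hb1 hvb n hn hwn]; exact one_mem _
      · rw [step v (v * w) F'.left hWS hv (mul_mem hv hw) b hb hb1 hvb n hn hwn]; exact one_mem _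
    exact (mem_centralizer_singleton_iff.1 (hle ha)).symm
  refine CfsgLib.Transfer.inf_centralizer_ne_bot hPq hPne (le_bot_iff.1 ?_)
  refine F.le_of_parts (hOodd.of_dvd_nat (card_dvd_of_le (inf_le_left.trans (map_subtype_le _))))
    (CfsgLib.Coprime.le_normalizer_inf_inf hT (CfsgLib.Coprime.le_normalizer_centralizer hT))
    (fun b hb hc' => ?_) (fun b hb hc' => ?_) (fun b hb hc' => ?_)
  · exact mem_bot.2 (hcomb z u F F.z_mem F.u_mem (Or.inl rfl) b hb hc')
  · exact mem_bot.2 (hcomb u z F.symm F.u_mem F.z_mem (Or.inr F.ne) b hb hc')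
  · exact mem_bot.2 (hcomb (z * u) u F.right.symm (mul_mem F.z_mem F.u_mem) F.u_mem
      (Or.inr F.left.ne) b hb hc')

end CfsgLib.DGroup
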