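import Cfsg.Agent.Lib.DGroup.OneClass
import Cfsg.Agent.Lib.DGroup.Field

/-!
# Two classes of involutions: `PGL(2, q)`
-/

set_option autoImplicit false
set_option linter.unusedSectionVars false
set_option linter.style.haveILetI false

namespace CfsgLib.DGroup

open Subgroup CfsgLib.Involutions

universe u

variable {G : Type u} [Group G] [Finite G] {P : Sylow 2 G} {d : DP (P : Subgroup G)} {R : Subgroup G}

/-- The centralizer of `z` when `r 1` inverts and `x ^ 2` centralises `R`. -/
structure Pre (d : DP (P : Subgroup G)) (R : Subgroup G) : Prop where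
  two : 2 ≤ d.n
  odd : Odd (Nat.card R)
  normalizes : (P : Subgroup G) ≤ normalizer (R : Set G)
  eq : centralizer ({d.z} : Set G) = R ⊔ (P : Subgroup G)
  inv : ∀ a ∈ R, d.r 1 * a * (d.r 1)⁻¹ = a⁻¹
  cent_sq : ∀ a ∈ R, Commute (d.x * d.x) a

namespace Pre

variable (h : Pre d R)
include h

theorem comm {a b : G} (ha : a ∈ R) (hb : b ∈ R) : a * b = b * a := by
  have e : d.r 1 * (a * b) * (d.r 1)⁻¹ = d.r 1 * a * (d.r 1)⁻¹ * (d.r 1 * b * (d.r 1)⁻¹) := by group
  rw [h.inv a ha, h.inv b hb, h.inv _ (mul_mem ha hb), ← mul_inv_rev, inv_inj] at e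
  exact e

theorem exists_mul {g : G} (hg : Commute d.z g) :
    ∃ a ∈ R, ∃ s ∈ (P : Subgroup G), g = a * s := by
  have hg' : g ∈ R ⊔ (P : Subgroup G) := h.eq ▸ mem_centralizer_singleton_iff.2 hg.eq.symm
  rw [← SetLike.mem_coe, coe_mul_of_right_le_normalizer_left _ _ h.normalizes] at hg'
  obtain ⟨a, ha, s, hs, rfl⟩ := hg'
  exact ⟨a, ha, s, hs, rfl⟩

end Pre

theorem Even2.cen {H : Subgroup G} (e : Even2 d H) (h : Pre d R) :
    Cen (evenDP e) (R.subgroupOf H) := by
  have hRH : R ≤ H := fun a ha =>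
    mem_of_index_two_of_odd e.index (h.odd.of_dvd_nat (Subgroup.orderOf_dvd_natCard R ha))
  refine
    { comm := fun a ha b hb => Subtype.ext (h.comm ha hb)
      odd := ?_
      cent_x := fun a ha => Subtype.ext ?_
      conj_y := fun a ha => (mem_normalizer_iff.1 (h.normalizes d.y_mem) _).1 ha
      eq := ?_ }
  · rw [Nat.card_congr (subgroupOfEquivOfLe hRH).toEquiv]
    exact h.odd
  · show d.x ^ (2 : ℤ) * (a : G) = (a : G) * d.x ^ (2 : ℤ)
    rw [zpow_two]
    exact (h.cent_sq _ ha).eq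
  · ext g
    rw [mem_centralizer_singleton_iff]
    constructor
    · intro hg
      have hg' : Commute d.z (g : G) := by
        rw [← coe_evenDP_z e]; exact (congrArg Subtype.val hg).symm
      obtain ⟨a, ha, s, hs, he⟩ := h.exists_mul hg'
      have haH := hRH ha
      have hsH : s ∈ H := (mul_mem_cancel_left haH).1 (he ▸ g.2)
      rw [show g = (⟨a, haH⟩ : H) * ⟨s, hsH⟩ from Subtype.ext he]
      exact mul_mem (mem_sup_left ha) (mem_sup_right ((mem_evenSylow e).2 hs))
    · intro hg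
      refine Subtype.ext ?_
      rw [Subgroup.coe_mul, Subgroup.coe_mul, coe_evenDP_z e]
      have hle : R.subgroupOf H ⊔ ((evenSylow e : Sylow 2 H) : Subgroup H) ≤
          (centralizer ({d.z} : Set G)).subgroupOf H := by
        refine sup_le (fun a ha => mem_subgroupOf.2 ?_) fun a ha => mem_subgroupOf.2 ?_
        · rw [h.eq]; exact mem_sup_left (mem_subgroupOf.1 ha)
        · rw [h.eq]; exact mem_sup_right ((mem_evenSylow e).1 ha)
      exact mem_centralizer_singleton_iff.1 (mem_subgroupOf.1 (hle hg))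

/-- No two involutions in the subgroup of index two commute with each other and with `r 1`. -/
theorem false_of_four {H : Subgroup G} (e : Even2 d H) {a b : G}
    (F : Four a b) (ha : a ∈ H) (hb : b ∈ H) (hau : Commute (d.r 1) a) (hbu : Commute (d.r 1) b) :
    False := by
  haveI := normal_of_index_eq_two e.index
  have hzH : d.z ∈ H := by
    obtain ⟨q, hq⟩ := d.even_half (show d.n ≠ 1 by have := e.two; omega)
    exact (e.zpow_iff _).2 ⟨q, hq⟩
  set u := d.r 1 with hu
  set T := F.grp ⊔ zpowers u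
  have hFu : F.grp ≤ centralizer ({u} : Set G) :=
    F.grp_le (mem_centralizer_singleton_iff.2 hau.eq.symm) (mem_centralizer_singleton_iff.2 hbu.eq.symm)
  have hTp : IsPGroup 2 T := by
    refine IsPGroup.to_sup_of_normal_right' F.isPGroup
      (IsPGroup.of_card (n := 1) (by rw [Nat.card_zpowers, d.orderOf_r 1, pow_one])) ?_
    intro v hv
    exact le_normalizer_zpowers_of_commute' (mem_centralizer_singleton_iff.1 (hFu hv))
  obtain ⟨Q, hQ⟩ := hTp.exists_le_sylow
  obtain ⟨g, hg⟩ := MulAction.exists_smul_eq G Q P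
  have hmem : ∀ v ∈ T, g * v * g⁻¹ ∈ (P : Subgroup G) := fun v hv => by
    rw [← hg, Sylow.coe_subgroup_smul]
    exact ⟨v, hQ hv, rfl⟩
  have hnH : ∀ v, g * v * g⁻¹ ∈ H ↔ v ∈ H := fun v =>
    ⟨fun hv => by simpa [mul_assoc] using ‹H.Normal›.conj_mem _ hv g⁻¹,
      fun hv => ‹H.Normal›.conj_mem v hv g⟩
  have huH : g * u * g⁻¹ ∉ H := fun hv => by
    have := (e.r_iff 1).1 ((hnH u).1 hv)
    exact Int.not_even_one this
  have huP := hmem u (mem_sup_right (mem_zpowers u))
  rcases d.cover _ huP with ⟨i, hi⟩ | ⟨i, hi⟩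
  · have hsq := invol_mul_self (conj_invol g (d.orderOf_r 1 : orderOf u = 2))
    rw [hi, ← zpow_add, d.zpow_eq_one, ← two_mul] at hsq
    rcases d.zpow_of_half_dvd ((Int.mul_dvd_mul_iff_left two_ne_zero).1 hsq) with e' | e'
    · exact huH (by rw [hi, e']; exact one_mem H)
    · exact huH (by rw [hi, e']; exact hzH)
  · have key : ∀ v ∈ F.grp, v ∈ H → orderOf v = 2 → g * v * g⁻¹ = d.z := by
      intro v hv hvH hvo
      have hvi : g * v * g⁻¹ ∈ d.TG i := by
        refine d.mem_TG_of_commute (hmem v (mem_sup_left hv)) ?_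
        rw [show d.r i = g * u * g⁻¹ from hi.symm]
        exact Commute.map (mem_centralizer_singleton_iff.1 (hFu hv) : Commute v u)
          (MulAut.conj g).toMonoidHom
      rcases d.mem_TG.1 hvi with e' | e' | e' | e'
      · exact absurd e' (invol_ne_one (conj_invol g hvo))
      · exact e'
      · exact absurd (show d.r i ∈ H from e' ▸ (hnH v).2 hvH) (by rw [hi] at huH; exact huH)
      · refine absurd ((mul_mem_cancel_left hzH).1 (e' ▸ (hnH v).2 hvH)) ?_
        rw [hi] at huH; exact huH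
    exact F.ne (conj_injective ((key a F.z_mem ha F.oz).trans (key b F.u_mem hb F.ou).symm))

/-- Two classes of involutions give `PGL(2, q)`. -/
theorem Pre.exists_pgl (h : Pre d R) (hf : ¬ d.F2 0) (hns1 : d.F2 1)
    (hns : ¬ Group.IsSolvable G)
    (hO : ∀ N : Subgroup G, N.Normal → Odd (Nat.card N) → N = ⊥) :
    ∃ (F : Type) (_ : Field F) (_ : Fintype F), Odd (Fintype.card F) ∧ 3 < Fintype.card F ∧
      Nonempty (G ≃* Matrix.ProjGenLinGroup (Fin 2) F) := by
  classical
  obtain ⟨H, hH⟩ := d.exists_index_two hns1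
  haveI hHn := normal_of_index_eq_two hH
  have hzH : d.z ∈ H := by
    show d.x ^ d.half ∈ H
    obtain ⟨q, hq⟩ := d.even_half (show d.n ≠ 1 by have := h.two; omega)
    rw [hq, zpow_add, mul_mem_iff_of_index_two hH]
  have hyH : d.y ∈ H := by
    obtain ⟨c, -, -, hc, -⟩ := d.exists_cycle hf
    have e : d.r 0 = d.y := by show d.x ^ (0 : ℤ) * d.y = d.y; rw [zpow_zero, one_mul]
    rw [← e, ← hc]
    exact hHn.conj_mem _ hzH c
  have hxH : d.x ∉ H := fun hx => index_ne_two_of_sylow_le' _ (fun a ha => by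
    rcases d.cover a ha with ⟨i, rfl⟩ | ⟨i, rfl⟩
    · exact zpow_mem hx i
    · exact mul_mem (zpow_mem hx i) hyH) hH
  have e : Even2 d H := ⟨hH, hxH, hyH, h.two⟩
  have hHns : ¬ Group.IsSolvable H := fun hs => by
    refine hns (Base.isSolvable_of_normal H hs (CfsgLib.Recog.isSolvable_of_card_lt_sixty ?_))
    rw [← H.index_eq_card, hH]; norm_num
  have hT2 : ∀ i, ¬ (evenDP e).F2 i := fun i => not_F2_evenDP e
    fun hF => hf (hF.sim d (Or.inl ⟨i, by ring⟩))
  have h2 := e.cen h
  obtain ⟨hsimp, hna⟩ := h2.isSimpleGroup hT2 hHns fun N hN hodd => by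
    haveI := hN
    exact eq_bot_of_odd_normal_in hO hodd
  haveI := hsimp
  obtain ⟨F, iF, iFt, hodd, h3, ⟨eH⟩⟩ := h2.exists_psl' hna
  refine ⟨F, iF, iFt, hodd, h3, ?_⟩
  have h2' : Odd (Nat.card F) := by rwa [Nat.card_eq_fintype_card]
  -- the action on the subgroup of index two
  let ψ : G →* MulAut (Matrix.ProjectiveSpecialLinearGroup (Fin 2) F) :=
    (MulAut.congr eH).toMonoidHom.comp (MulAut.conjNormal (H := H))
  have hψ : ∀ g v, ψ g v = eH (MulAut.conjNormal g (eH.symm v)) := fun _ _ => rfl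
  have hψinj : Function.Injective ψ := by
    rw [← MonoidHom.ker_eq_bot_iff]
    have hker : ∀ a, a ∈ ψ.ker → ∀ v ∈ H, a * v = v * a := fun a ha v hv => by
      have h1 := DFunLike.congr_fun (MonoidHom.mem_ker.1 ha) (eH ⟨v, hv⟩)
      rw [hψ, MulEquiv.symm_apply_apply, MulAut.one_apply] at h1
      have h1' := congrArg Subtype.val (eH.injective h1)
      rw [MulAut.conjNormal_apply] at h1'
      exact mul_inv_eq_iff_eq_mul.1 h1'
    have hd : ψ.ker ⊓ H = ⊥ := by
      refine eq_bot_iff.2 fun a ha => mem_bot.2 ?_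
      have hc : (⟨a, ha.2⟩ : H) ∈ Subgroup.center H :=
        Subgroup.mem_center_iff.2 fun v => Subtype.ext (hker a ha.1 v v.2).symm
      rcases (inferInstance : (Subgroup.center H).Normal).eq_bot_or_eq_top with e' | e'
      · exact congrArg (fun w : H => (w : G)) (mem_bot.1 (e' ▸ hc))
      · exact absurd (⟨⟨fun v w => Subgroup.mem_center_iff.1 (e' ▸ mem_top w) v⟩⟩ : IsMulCommutative H) hna
    have hcard : Nat.card ψ.ker ∣ 2 := by
      refine Nat.dvd_trans ?_ hH.dvd
      have h1 := card_subgroup_dvd_card (ψ.ker ⊔ H)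
      rw [CfsgLib.Coprime.card_sup_of_inf_eq_bot Subgroup.le_normalizer_of_normal hd,
        ← H.index_mul_card] at h1
      exact Nat.dvd_of_mul_dvd_mul_right Nat.card_pos h1
    rcases (Nat.dvd_prime Nat.prime_two).1 hcard with e' | e'
    · exact Subgroup.eq_bot_of_card_eq _ e'
    exfalso
    have hp : IsPGroup 2 ψ.ker := IsPGroup.of_card (n := 1) (by rw [e', pow_one])
    have hkP : ψ.ker ≤ (P : Subgroup G) := by
      obtain ⟨Q, hQ⟩ := hp.exists_le_sylow
      obtain ⟨g, hg⟩ := MulAction.exists_smul_eq G Q P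
      intro a ha
      rw [← hg, Sylow.coe_subgroup_smul]
      refine ⟨g⁻¹ * a * g, hQ ?_, by show g * (g⁻¹ * a * g) * g⁻¹ = a; group⟩
      have := (MonoidHom.normal_ker ψ).conj_mem a ha g⁻¹
      simpa using this
    obtain ⟨⟨t, htk⟩, ht1⟩ := (ne_bot_iff_exists_ne_one (H := ψ.ker)).1 (fun eb => by
      rw [eb, card_bot] at e'; omega)
    have ht1' : t ≠ 1 := fun et => ht1 (Subtype.ext et)
    have htH : t ∉ H := fun htH => ht1' (mem_bot.1 (hd ▸ ⟨htk, htH⟩ : t ∈ (⊥ : Subgroup G)))
    have hto : orderOf t = 2 := by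
      haveI : Fact (Nat.Prime 2) := ⟨Nat.prime_two⟩
      refine orderOf_eq_prime ?_ ht1'
      have h1 : (⟨t, htk⟩ : ψ.ker) ^ 2 = 1 :=
        orderOf_dvd_iff_pow_eq_one.1 ((_root_.orderOf_dvd_natCard _).trans e'.dvd)
      exact congrArg Subtype.val h1
    rcases d.cover t (hkP htk) with ⟨i, hi⟩ | ⟨i, hi⟩
    · have hsq := invol_mul_self hto
      rw [hi, ← zpow_add, d.zpow_eq_one, ← two_mul] at hsq
      rcases d.zpow_of_half_dvd ((Int.mul_dvd_mul_iff_left two_ne_zero).1 hsq) with e'' | e''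
      · exact ht1' (hi.trans e'')
      · exact htH (by rw [hi, e'']; exact hzH)
    · have hxx : d.x * d.x ∈ H := by rw [mul_mem_iff_of_index_two hH]
      have hc := hker t htk _ hxx
      have h1 : Commute (d.x ^ (2 : ℤ)) (d.r i) := by
        rw [zpow_two, show d.r i = t from hi.symm]; exact hc.symm
      have h4 := d.commute_zpow_r h1
      rw [DP.half] at h4
      have h5 : (2 : ℤ) ^ (d.n - 1) ≤ 2 := Int.le_of_dvd (by norm_num) h4
      have h6 : d.n = 2 := by
        have := h.two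
        by_contra hne
        have : (2 : ℤ) ^ 2 ≤ 2 ^ (d.n - 1) := pow_le_pow_right₀ (by norm_num) (by omega)
        omega
      -- here `x ^ 2 = z` and `t` also centralises `y`
      have h7 := hker t htk _ hyH
      have h8 : Commute (d.r i) (d.r 0) := by
        rw [show d.r i = t from hi.symm,
          show d.r 0 = d.y by show d.x ^ (0 : ℤ) * d.y = d.y; rw [zpow_zero, one_mul]]
        exact h7
      have h9 : d.r 0 ∈ d.TG i := d.mem_TG_of_commute (d.r_mem 0) h8.symm
      have h10 := d.even_of_r_mem_TG (by omega) h9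
      refine htH ?_
      rw [hi]
      exact (e.r_iff i).2 (by rcases h10 with ⟨m, hm⟩; exact ⟨-m, by omega⟩)
  -- the image
  set α := ψ (d.r 1) with hα
  have hα2 : α * α = 1 := by
    rw [hα, ← map_mul, invol_mul_self (d.orderOf_r 1), map_one]
  have hH' : ∀ v ∈ H, ψ v ∈ (CfsgLib.KnownB.PSLAut.δ :
      GL (Fin 2) F →* MulAut (Matrix.ProjectiveSpecialLinearGroup (Fin 2) F)).range := by
    intro v hv
    have e' : ψ v = MulAut.conj (eH ⟨v, hv⟩) := MulEquiv.ext fun w => by
      rw [hψ, MulAut.conj_apply]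
      have : MulAut.conjNormal v (eH.symm w) = (⟨v, hv⟩ : H) * eH.symm w * (⟨v, hv⟩ : H)⁻¹ :=
        Subtype.ext (by rw [MulAut.conjNormal_apply]; rfl)
      rw [this, map_mul, map_mul, map_inv, MulEquiv.apply_symm_apply]
    have hi : MulAut.conj (eH ⟨v, hv⟩) ∈
        Cfsg.Inn (Matrix.ProjectiveSpecialLinearGroup (Fin 2) F) := ⟨_, rfl⟩
    rw [CfsgLib.KnownB.PSLAut.inn_eq] at hi
    obtain ⟨s, hs⟩ := hi
    exact ⟨_, hs.trans e'.symm⟩
  have hαr : α ∈ (CfsgLib.KnownB.PSLAut.δ :
      GL (Fin 2) F →* MulAut (Matrix.ProjectiveSpecialLinearGroup (Fin 2) F)).range := by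
    refine (mem_range_δ_or h2' α hα2).resolve_right ?_
    rintro ⟨s, t, hs, ht, hc, hne, hfs, hft⟩
    have hfix : ∀ w, α w = w → Commute (d.r 1) (eH.symm w : G) := fun w hw => by
      have h1 : MulAut.conjNormal (d.r 1) (eH.symm w) = eH.symm w :=
        eH.injective (by rw [← hψ, ← hα, hw, MulEquiv.apply_symm_apply])
      have h1' := congrArg Subtype.val h1
      rw [MulAut.conjNormal_apply] at h1'
      exact mul_inv_eq_iff_eq_mul.1 h1'
    have F4 : Four (eH.symm s : G) (eH.symm t : G) :=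
      ⟨by rw [orderOf_coe, MulEquiv.orderOf_eq, hs], by rw [orderOf_coe, MulEquiv.orderOf_eq, ht],
        congrArg Subtype.val ((hc.map eH.symm.toMonoidHom).eq),
        fun he => hne (eH.symm.injective (Subtype.ext he))⟩
    exact false_of_four e F4 (eH.symm s).2 (eH.symm t).2 (hfix s hfs) (hfix t hft)
  have hrange : ψ.range ≤ (CfsgLib.KnownB.PSLAut.δ :
      GL (Fin 2) F →* MulAut (Matrix.ProjectiveSpecialLinearGroup (Fin 2) F)).range := by
    rintro _ ⟨g, rfl⟩
    by_cases hg : g ∈ H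
    · exact hH' g hg
    · have hrg : d.r 1 * g ∈ H := by
        rw [mul_mem_iff_of_index_two hH]
        exact iff_of_false (fun hh => Int.not_even_one ((e.r_iff 1).1 hh)) hg
      have := mul_mem (inv_mem hαr) (hH' _ hrg)
      rwa [hα, ← map_inv, ← map_mul, inv_mul_cancel_left] at this
  have hcardG : Nat.card G = Nat.card (Matrix.ProjGenLinGroup (Fin 2) F) := by
    rw [← H.card_mul_index, hH, Nat.card_congr eH.toEquiv,
      CfsgLib.Classical.card_PGL_eq_card_SL,
      ← CfsgLib.Classical.card_PSL_mul 2 (by omega),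
      CfsgLib.Classical.gcd_two_card_sub_one_of_odd h2', mul_comm]
  have heq : ψ.range = (CfsgLib.KnownB.PSLAut.δ :
      GL (Fin 2) F →* MulAut (Matrix.ProjectiveSpecialLinearGroup (Fin 2) F)).range := by
    refine eq_of_le_of_card_ge hrange ?_
    rw [CfsgLib.KnownB.PSLAut.card_range_δ le_rfl, ← hcardG,
      Nat.card_congr (MonoidHom.ofInjective hψinj).toEquiv]
  exact ⟨((MonoidHom.ofInjective hψinj).trans (MulEquiv.subgroupCongr heq)).trans
    ((QuotientGroup.quotientKerEquivRange _).symm.trans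
      (QuotientGroup.quotientMulEquivOfEq (CfsgLib.KnownB.PSLAut.ker_δ le_rfl)))⟩

end CfsgLib.DGroup
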